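import Groth.Agent.Lib.Bertini13.Proj
import Groth.Agent.Lib.Twist.QCoh
import Groth.Agent.Lib.Twist.Global
import Groth.Agent.Lib.EffCartier.Basic
import Groth.Agent.Lib.ProjDim18.HypSupp
import Groth.Prelude.Def_LefPen

/-! # Hypersurfaces in the standard charts -/

set_option autoImplicit false
set_option linter.style.haveILetI false
set_option backward.isDefEq.respectTransparency false
set_option backward.isDefEq.respectTransparency.types false

universe u

open CategoryTheory CategoryTheory.Limits AlgebraicGeometry MvPolynomial HomogeneousLocalization TopologicalSpace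

noncomputable section

namespace Groth.Agent.LefPen13

attribute [local instance] MvPolynomial.gradedAlgebra

variable (k : Type u) [Field k] (r : ℕ)

local notation "PS" => CohB1.ProjSpace r k
local notation "GR" => CohB1.polyGrading r k

/-- `P ↦ P(T / T_j)` on the chart. -/
def dh (j : Fin (r + 1)) : MvPolynomial (Fin (r + 1)) k →+* Γ(CohB1.ProjSpace r k, LefPen.chart r k j) :=
  (Bertini13.coordV k r j).comp (ProjSpace.dehom k j)

theorem dh_surjective (j : Fin (r + 1)) : Function.Surjective (dh k r j) := by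
  refine (Bertini13.coordV_surjective j).comp ?_
  intro q
  induction q using MvPolynomial.induction_on with
  | C a => exact ⟨C a, ProjSpace.dehom_C k j a⟩
  | add p q hp hq =>
    obtain ⟨a, rfl⟩ := hp; obtain ⟨b, rfl⟩ := hq
    exact ⟨a + b, map_add _ _ _⟩
  | mul_X p l hp =>
    obtain ⟨a, rfl⟩ := hp
    exact ⟨a * X l.1, by rw [map_mul, ProjSpace.dehom_X]⟩

theorem dh_X_self (j : Fin (r + 1)) : dh k r j (X j) = 1 := by
  simp [dh]

variable {k r}

theorem dehom_eq_dh {d : ℕ} (G : LefPen.Form r k d) (j : Fin (r + 1)) :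
    LefPen.dehom G j = dh k r j G.1 := by
  have ha : G.1 ∈ ProjSpace.Hom (Fin (r + 1)) k (d • 1) := by rw [smul_eq_mul, mul_one]; exact G.2
  have h1 := ProjSpace.ofAway_mk k j d G.1 ha
  show _ = (Proj.awayToSection GR (X j)).hom (ProjSpace.toAway k j (ProjSpace.dehom k j G.1))
  rw [← h1, ProjSpace.toAway_ofAway]
  rfl

/-- Change of chart. -/
theorem dehom_res {d : ℕ} (G : LefPen.Form r k d) (j l : Fin (r + 1))
    (W : (CohB1.ProjSpace r k).Opens) (hj : W ≤ LefPen.chart r k j) (hl : W ≤ LefPen.chart r k l) :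
    (CohB1.ProjSpace r k).presheaf.map (homOfLE hj).op (LefPen.dehom G j) =
      (CohB1.ProjSpace r k).presheaf.map (homOfLE hl).op (LefPen.dehom G l) *
        (CohB1.ProjSpace r k).presheaf.map (homOfLE hj).op
          (LefPen.dehom (⟨X l, LefPen.X_mem r k l⟩ : LefPen.Form r k 1) j) ^ d := by
  refine Twist.sectionO_ext (𝒜 := GR) fun x hx => ?_
  erw [Twist.valO_mul, Twist.valO_pow, Twist.valO_map, Twist.valO_map, Twist.valO_map]
  simp only [LefPen.dehom]
  erw [Twist.valO_awayToSection GR (LefPen.X_mem r k j) _ x (hj hx) (Twist.pow_notMem GR (hj hx) d),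
    Twist.valO_awayToSection GR (LefPen.X_mem r k l) _ x (hl hx) (Twist.pow_notMem GR (hl hx) d),
    Twist.valO_awayToSection GR (LefPen.X_mem r k j) _ x (hj hx) (Twist.pow_notMem GR (hj hx) 1)]
  rw [Localization.mk_pow, Localization.mk_mul, Localization.mk_eq_mk_iff, Localization.r_iff_exists]
  exact ⟨1, by simp; ring⟩

/-- The closed subscheme of a chart cut out by the dehomogenised form. -/
def piece {d : ℕ} (G : LefPen.Form r k d) (l : Fin (r + 1)) :
    Spec (CommRingCat.of (Γ(CohB1.ProjSpace r k, LefPen.chart r k l) ⧸ Ideal.span {LefPen.dehom G l})) ⟶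
      CohB1.ProjSpace r k :=
  Spec.map (CommRingCat.ofHom (Ideal.Quotient.mk _)) ≫ (ProjDim18.isAffineOpen_chart l).fromSpec

theorem preimage_piece {d : ℕ} (G : LefPen.Form r k d) (l : Fin (r + 1)) :
    piece G l ⁻¹ᵁ LefPen.chart r k l = ⊤ :=
  top_le_iff.1 fun z _ => (ProjDim18.isAffineOpen_chart l).range_fromSpec.le ⟨_, rfl⟩

theorem piece_app_eq_zero_iff {d : ℕ} (G : LefPen.Form r k d) (l : Fin (r + 1))
    (a : Γ(CohB1.ProjSpace r k, LefPen.chart r k l)) :
    (piece G l).app (LefPen.chart r k l) a = 0 ↔ a ∈ Ideal.span {LefPen.dehom G l} := by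
  have hU := ProjDim18.isAffineOpen_chart (k := k) l
  let q := CommRingCat.ofHom (Ideal.Quotient.mk (Ideal.span {LefPen.dehom G l}))
  have h1 : hU.fromSpec.appLE (LefPen.chart r k l) ⊤ (hU.fromSpec_preimage_self.ge) =
      (Scheme.ΓSpecIso Γ(PS, LefPen.chart r k l)).inv := by
    rw [Scheme.Hom.appLE, hU.fromSpec_app_self, Category.assoc, ← Functor.map_comp]
    exact (congrArg (_ ≫ ·) ((congrArg (Spec Γ(PS, LefPen.chart r k l)).presheaf.map
      (Subsingleton.elim _ (𝟙 _))).trans (CategoryTheory.Functor.map_id _ _))).trans (Category.comp_id _)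
  have h2 : (piece G l).appLE (LefPen.chart r k l) ⊤ (preimage_piece G l).ge =
      q ≫ (Scheme.ΓSpecIso _).inv := by
    rw [Scheme.ΓSpecIso_inv_naturality]
    erw [← h1]
    rw [Scheme.Hom.appTop, Scheme.Hom.app_eq_appLE]
    exact (Scheme.Hom.appLE_comp_appLE (Spec.map q) hU.fromSpec (LefPen.chart r k l) ⊤ ⊤ _ _).symm
  have hbij : ∀ w, ((Spec (CommRingCat.of (Γ(PS, LefPen.chart r k l) ⧸ Ideal.span {LefPen.dehom G l}))).presheaf.map
      (homOfLE (preimage_piece G l).ge).op) w = 0 → w = 0 := by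
    intro w hw
    have : IsIso (homOfLE (preimage_piece G l).ge).op :=
      ⟨⟨(homOfLE (le_top : piece G l ⁻¹ᵁ LefPen.chart r k l ≤ ⊤)).op, Subsingleton.elim _ _, Subsingleton.elim _ _⟩⟩
    exact (ConcreteCategory.bijective_of_isIso (((Spec (CommRingCat.of (Γ(PS, LefPen.chart r k l) ⧸
      Ideal.span {LefPen.dehom G l}))).presheaf.map (homOfLE (preimage_piece G l).ge).op))).1 (by rw [hw, map_zero])
  constructor
  · intro h
    have h3 := ConcreteCategory.congr_hom h2 a
    rw [Scheme.Hom.appLE, ConcreteCategory.comp_apply, h, map_zero, ConcreteCategory.comp_apply] at h3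
    exact Ideal.Quotient.eq_zero_iff_mem.1 ((ConcreteCategory.bijective_of_isIso
      (Scheme.ΓSpecIso (CommRingCat.of (Γ(PS, LefPen.chart r k l) ⧸ Ideal.span {LefPen.dehom G l}))).inv).1
        (h3.symm.trans (map_zero _).symm))
  · intro h
    refine hbij _ ?_
    have h3 := ConcreteCategory.congr_hom h2 a
    rw [ConcreteCategory.comp_apply, show q a = 0 from Ideal.Quotient.eq_zero_iff_mem.2 h, map_zero] at h3
    exact h3

/-- On a standard chart the ideal of a hypersurface is generated by the dehomogenised form. -/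
theorem hypIdeal_chart {d : ℕ} (G : LefPen.Form r k d) (j : Fin (r + 1)) :
    (LefPen.hypIdeal G).ideal ⟨LefPen.chart r k j, ProjDim18.isAffineOpen_chart j⟩ =
      Ideal.span {LefPen.dehom G j} := by
  haveI : IsProper (CohB1.ProjSpace.toSpec r k) := ProjSpace.isProper_toSpec r k
  haveI : (PS).IsSeparated := by
    constructor
    rw [← terminal.comp_from (CohB1.ProjSpace.toSpec r k)]
    infer_instance
  haveI : ∀ l, QuasiCompact (piece G l) := fun l => by
    haveI : IsAffineHom (piece G l) := IsAffineHom.of_comp (piece G l) (CohB1.ProjSpace.toSpec r k)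
    infer_instance
  let J : (PS).IdealSheafData := ⨅ l : Fin (r + 1), (piece G l).ker
  let D : Fin (r + 1) → (PS).affineOpens := fun l => ⟨_, ProjDim18.isAffineOpen_chart l⟩
  apply le_antisymm
  · intro a ha
    have h1 : a ∈ LefPen.hypFamily G (D j) := Scheme.IdealSheafData.ideal_ofIdeals_le _ (D j) ha
    rw [LefPen.hypFamily, Submodule.mem_iInf] at h1
    have hle : LefPen.chart r k j ≤ (D j).1 ⊓ LefPen.chart r k j := le_inf le_rfl le_rfl
    obtain ⟨c, hc⟩ := Ideal.mem_span_singleton.1 (Ideal.mem_comap.1 (h1 j))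
    have := congrArg ((PS).presheaf.map (homOfLE hle).op) hc
    simp only [map_mul] at this
    rw [← ConcreteCategory.comp_apply, ← ConcreteCategory.comp_apply, ← Functor.map_comp, ← op_comp] at this
    simp only [homOfLE_comp] at this
    erw [CategoryTheory.Functor.map_id, ConcreteCategory.id_apply, ConcreteCategory.id_apply] at this
    exact Ideal.mem_span_singleton.2 ⟨_, this⟩
  have hle : J ≤ LefPen.hypIdeal G := by
    refine Scheme.IdealSheafData.le_ofIdeals_iff.2 fun U => le_iInf fun l => ?_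
    let V : (PS).affineOpens := ⟨U.1 ⊓ LefPen.chart r k l, U.2.inf (ProjDim18.isAffineOpen_chart l)⟩
    refine (J.ideal_le_comap_ideal (U := V) (V := U) (inf_le_left : U.1 ⊓ LefPen.chart r k l ≤ U.1)).trans
      (Ideal.comap_mono ?_)
    rw [← J.map_ideal (U := V) (V := D l) (inf_le_right : U.1 ⊓ LefPen.chart r k l ≤ LefPen.chart r k l),
      Ideal.map_le_iff_le_comap]
    refine le_trans ?_ (Ideal.map_le_iff_le_comap.1 ((Ideal.map_span _ {LefPen.dehom G l}).trans (by rw [Set.image_singleton]; rfl)).le)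
    rw [Scheme.IdealSheafData.ideal_iInf, iInf_apply]
    refine (iInf_le _ l).trans ?_
    rw [Scheme.Hom.ker_apply]
    intro a ha
    exact (piece_app_eq_zero_iff G l a).1 (RingHom.mem_ker.1 ha)
  refine le_trans ?_ (hle (D j))
  rw [Ideal.span_singleton_le_iff_mem, Scheme.IdealSheafData.ideal_iInf, iInf_apply, Submodule.mem_iInf]
  intro l
  rw [Scheme.Hom.ker_apply, RingHom.mem_ker]
  change (piece G l).app (LefPen.chart r k j) (LefPen.dehom G j) = 0
  let W := LefPen.chart r k j ⊓ LefPen.chart r k l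
  have hW : piece G l ⁻¹ᵁ LefPen.chart r k j ≤ piece G l ⁻¹ᵁ W := fun z hz =>
    ⟨hz, (ProjDim18.isAffineOpen_chart l).range_fromSpec.le ⟨_, rfl⟩⟩
  have e : (piece G l).app (LefPen.chart r k j) =
      (PS).presheaf.map (homOfLE (inf_le_left : W ≤ LefPen.chart r k j)).op ≫ (piece G l).appLE W
        (piece G l ⁻¹ᵁ LefPen.chart r k j) hW := by
    rw [Scheme.Hom.map_appLE, Scheme.Hom.app_eq_appLE]
  rw [e, ConcreteCategory.comp_apply, dehom_res G j l W inf_le_left inf_le_right, map_mul]
  refine mul_eq_zero_of_left ?_ _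
  rw [← ConcreteCategory.comp_apply, Scheme.Hom.map_appLE, Scheme.Hom.appLE, ConcreteCategory.comp_apply,
    (piece_app_eq_zero_iff G l _).2 (Ideal.mem_span_singleton_self _), map_zero]

variable {X : Scheme.{u}} (i : X ⟶ CohB1.ProjSpace r k)

/-- The trace of a chart. -/
abbrev V (j : Fin (r + 1)) : X.Opens := i ⁻¹ᵁ LefPen.chart r k j

theorem isAffineOpen_V [IsAffineHom i] (j : Fin (r + 1)) : IsAffineOpen (V i j) :=
  (ProjDim18.isAffineOpen_chart j).preimage i

theorem iSup_V : (⨆ j, V i j) = ⊤ := top_le_iff.1 fun x _ => by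
  obtain ⟨j, hj⟩ := ProjSpace.exists_mem_chart r k (i x)
  refine Opens.mem_iSup.2 ⟨j, ?_⟩
  show i x ∈ LefPen.chart r k j
  rw [show LefPen.chart r k j = (ProjSpace.chart r k j).opensRange from (ProjSpace.opensRange_chart r k j).symm]
  exact hj

theorem secIdeal_chart [IsAffineHom i] {d : ℕ} (H : LefPen.Form r k d) (j : Fin (r + 1)) :
    (LefPen.secIdeal i ({H} : Set (LefPen.Form r k d))).ideal ⟨V i j, isAffineOpen_V i j⟩ =
      Ideal.span {i.app (LefPen.chart r k j) (LefPen.dehom H j)} := by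
  have : LefPen.secIdeal i ({H} : Set (LefPen.Form r k d)) = (LefPen.hypIdeal H).comap i := by
    rw [LefPen.secIdeal, iSup_singleton]
  rw [this, EffCartier.comap_ideal (LefPen.hypIdeal H) i ⟨_, ProjDim18.isAffineOpen_chart j⟩
    ⟨V i j, isAffineOpen_V i j⟩ le_rfl, hypIdeal_chart, Ideal.map_span, Set.image_singleton,
    ← Scheme.Hom.app_eq_appLE]

end Groth.Agent.LefPen13
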