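import Groth.Agent.Lib.LefPen13.Glue

/-! # Rational points of the embedded variety in terms of their homogeneous coordinates -/

set_option autoImplicit false
set_option linter.style.haveILetI false
set_option backward.isDefEq.respectTransparency false
set_option backward.isDefEq.respectTransparency.types false

universe u

open CategoryTheory CategoryTheory.Limits AlgebraicGeometry MvPolynomial TopologicalSpace

noncomputable section

namespace Groth.Agent.LefPen13

variable {k : Type u} [Field k] {r : ℕ}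

theorem eval_smul_vec {P : MvPolynomial (Fin (r + 1)) k} {d : ℕ} (hP : P.IsHomogeneous d) (t : k)
    (v : Fin (r + 1) → k) : MvPolynomial.eval (fun l => t * v l) P = t ^ d * MvPolynomial.eval v P := by
  classical
  rw [MvPolynomial.eval_eq', MvPolynomial.eval_eq', Finset.mul_sum]
  refine Finset.sum_congr rfl fun e he => ?_
  have hd : ∑ l, e l = d := by
    rw [← Finsupp.degree_eq_sum]
    by_contra hne
    exact mem_support_iff.1 he (hP.coeff_eq_zero hne)
  simp only [mul_pow, Finset.prod_mul_distrib, Finset.prod_pow_eq_pow_sum, hd]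
  ring

variable {X : Scheme.{u}} (i : X ⟶ CohB1.ProjSpace r k)

/-- The homogeneous coordinates of a point of a chart. -/
def coords (j : Fin (r + 1)) (χ : A i j →ₐ[k] k) : Fin (r + 1) → k := fun l => χ (π i j (MvPolynomial.X l))

theorem coords_self (j : Fin (r + 1)) (χ : A i j →ₐ[k] k) : coords i j χ j = 1 := by
  rw [coords, π_X_self, map_one]

theorem χ_π (j : Fin (r + 1)) (χ : A i j →ₐ[k] k) (P : MvPolynomial (Fin (r + 1)) k) :
    χ (π i j P) = MvPolynomial.eval (coords i j χ) P := by
  have : MvPolynomial.eval (coords i j χ) = χ.toRingHom.comp (π i j) :=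
    MvPolynomial.ringHom_ext (fun a => by simp [π_C]) (fun l => by simp [coords])
  rw [this]
  rfl

/-- The homogenisation of a polynomial on a chart. -/
theorem exists_form_eq (j : Fin (r + 1)) (P : MvPolynomial (Fin (r + 1)) k) :
    ∃ (D : ℕ) (G : LefPen.Form r k D), π i j G.1 = π i j P := by
  classical
  refine ⟨P.totalDegree, ⟨∑ e ∈ P.support, monomial (e + Finsupp.single j (P.totalDegree - e.degree)) (coeff e P),
    (mem_homogeneousSubmodule _ _).2 (IsHomogeneous.sum _ _ _ fun e he => isHomogeneous_monomial _ ?_)⟩, ?_⟩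
  · rw [map_add, Finsupp.degree_single]
    refine Nat.add_sub_cancel' ?_
    have := MvPolynomial.le_totalDegree he
    rwa [Finsupp.degree_apply]
  · conv_rhs => rw [as_sum P]
    rw [map_sum, map_sum]
    refine Finset.sum_congr rfl fun e _ => ?_
    rw [monomial_add_single, map_mul, map_pow, π_X_self, one_pow, mul_one]

/-- Two points with proportional coordinates. -/
def SamePt (j : Fin (r + 1)) (χ : A i j →ₐ[k] k) (l : Fin (r + 1)) (χ' : A i l →ₐ[k] k) : Prop :=
  ∀ a b, coords i j χ a * coords i l χ' b = coords i j χ b * coords i l χ' a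

theorem SamePt.refl (j : Fin (r + 1)) (χ : A i j →ₐ[k] k) : SamePt i j χ j χ := fun _ _ => mul_comm _ _

theorem SamePt.coords_eq {j l : Fin (r + 1)} {χ : A i j →ₐ[k] k} {χ' : A i l →ₐ[k] k} (h : SamePt i j χ l χ') :
    coords i j χ l ≠ 0 ∧ ∀ a, coords i j χ a = coords i j χ l * coords i l χ' a := by
  have h1 : ∀ a, coords i j χ a = coords i j χ l * coords i l χ' a := fun a => by
    have := h a l
    rwa [coords_self, mul_one] at this
  refine ⟨fun h0 => ?_, h1⟩
  have := h1 j
  rw [h0, zero_mul, coords_self] at this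
  exact one_ne_zero this

theorem SamePt.form_iff {j l : Fin (r + 1)} {χ : A i j →ₐ[k] k} {χ' : A i l →ₐ[k] k} (h : SamePt i j χ l χ')
    {d : ℕ} (G : LefPen.Form r k d) : χ (π i j G.1) = 0 ↔ χ' (π i l G.1) = 0 := by
  obtain ⟨h0, h1⟩ := h.coords_eq
  rw [χ_π, χ_π, show coords i j χ = fun a => coords i j χ l * coords i l χ' a from funext h1,
    eval_smul_vec ((mem_homogeneousSubmodule _ _).1 G.2), mul_eq_zero]
  exact or_iff_right (pow_ne_zero _ h0)

variable [IsAffineHom i]

/-- The point of `X` underlying a rational point of a chart. -/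
def pX (j : Fin (r + 1)) (χ : A i j →ₐ[k] k) : X :=
  (isAffineOpen_V i j).fromSpec (⟨RingHom.ker χ, RingHom.ker_isPrime χ⟩ : PrimeSpectrum (A i j))

theorem pX_mem (j : Fin (r + 1)) (χ : A i j →ₐ[k] k) : pX i j χ ∈ V i j := by
  show _ ∈ (V i j : Set X)
  rw [← (isAffineOpen_V i j).range_fromSpec]
  exact ⟨_, rfl⟩

theorem mem_basicOpen_fromSpec (j : Fin (r + 1)) (p : PrimeSpectrum (A i j)) (a : A i j) :
    (isAffineOpen_V i j).fromSpec p ∈ X.basicOpen (U := V i j) a ↔ a ∉ p.asIdeal := by
  have h := (isAffineOpen_V i j).fromSpec_preimage_basicOpen (a : Γ(X, V i j))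
  exact (iff_of_eq (congrArg (fun U : (Spec Γ(X, V i j)).Opens => p ∈ U) h)).trans (PrimeSpectrum.mem_basicOpen _ _)

theorem fromSpec_mem_D (j : Fin (r + 1)) (p : PrimeSpectrum (A i j)) {d : ℕ} (G : LefPen.Form r k d) :
    (isAffineOpen_V i j).fromSpec p ∈ i ⁻¹ᵁ Proj.basicOpen (CohB1.polyGrading r k) G.1 ↔ π i j G.1 ∉ p.asIdeal := by
  have h1 : X.basicOpen (U := V i j) (π i j G.1) = V i j ⊓ i ⁻¹ᵁ Proj.basicOpen (CohB1.polyGrading r k) G.1 := by
    rw [π_form, ← Scheme.preimage_basicOpen, ProjDim18.basicOpen_dehom]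
    rfl
  rw [← mem_basicOpen_fromSpec, h1]
  refine (and_iff_right ?_).symm
  show _ ∈ (V i j : Set X)
  rw [← (isAffineOpen_V i j).range_fromSpec]
  exact ⟨_, rfl⟩

theorem pX_mem_D (j : Fin (r + 1)) (χ : A i j →ₐ[k] k) {d : ℕ} (G : LefPen.Form r k d) :
    pX i j χ ∈ i ⁻¹ᵁ Proj.basicOpen (CohB1.polyGrading r k) G.1 ↔ χ (π i j G.1) ≠ 0 :=
  fromSpec_mem_D i j _ G

theorem algHom_ext_of_ker {R : Type u} [CommRing R] [Algebra k R] {χ χ' : R →ₐ[k] k}
    (h : RingHom.ker χ = RingHom.ker χ') : χ = χ' := by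
  ext a
  have : a - algebraMap k R (χ a) ∈ RingHom.ker χ := by
    show χ _ = 0
    rw [map_sub, AlgHom.commutes]
    exact sub_self _
  rw [h] at this
  have h2 : χ' (a - algebraMap k R (χ a)) = 0 := this
  rw [map_sub, AlgHom.commutes, sub_eq_zero] at h2
  exact h2.symm

theorem exists_fromSpec (j : Fin (r + 1)) {x : X}
    (hx : x ∈ i ⁻¹ᵁ Proj.basicOpen (CohB1.polyGrading r k)
      ((⟨MvPolynomial.X j, LefPen.X_mem r k j⟩ : LefPen.Form r k 1) : MvPolynomial (Fin (r + 1)) k)) :
    ∃ p : PrimeSpectrum (A i j), (isAffineOpen_V i j).fromSpec p = x := by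
  have : x ∈ Set.range (isAffineOpen_V i j).fromSpec := by
    rw [(isAffineOpen_V i j).range_fromSpec]
    exact hx
  exact this

theorem pX_eq_fromSpec [IsClosedImmersion i] (j : Fin (r + 1)) (χ : A i j →ₐ[k] k) (l : Fin (r + 1))
    (χ' : A i l →ₐ[k] k) (h : SamePt i j χ l χ') (p : PrimeSpectrum (A i j))
    (hp : (isAffineOpen_V i j).fromSpec p = pX i l χ') :
    pX i j χ = (isAffineOpen_V i j).fromSpec p := by
  have key : ∀ (D : ℕ) (G : LefPen.Form r k D), χ (π i j G.1) = 0 ↔ π i j G.1 ∈ p.asIdeal := by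
    intro D G
    have e2 := fromSpec_mem_D i j p G
    rw [hp] at e2
    have e3 := (pX_mem_D i l χ' G).symm.trans e2
    have e1 := SamePt.form_iff i (j := j) (l := l) (χ := χ) (χ' := χ') h G
    exact e1.trans (not_iff_not.1 e3)
  refine congrArg (isAffineOpen_V i j).fromSpec (PrimeSpectrum.ext ?_)
  refine SetLike.ext fun a => ?_
  obtain ⟨P, rfl⟩ := π_surjective i j a
  obtain ⟨D, G, hG⟩ := exists_form_eq i j P
  rw [← hG]
  exact key D G

/-- Equal points have proportional coordinates, and conversely. -/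
theorem pX_eq_iff [IsClosedImmersion i] (j : Fin (r + 1)) (χ : A i j →ₐ[k] k) (l : Fin (r + 1))
    (χ' : A i l →ₐ[k] k) : pX i j χ = pX i l χ' ↔ SamePt i j χ l χ' := by
  constructor
  · intro h a b
    let L : LefPen.Form r k 1 := coords i j χ b • ⟨MvPolynomial.X a, LefPen.X_mem r k a⟩ -
      coords i j χ a • ⟨MvPolynomial.X b, LefPen.X_mem r k b⟩
    have hL : ∀ (m : Fin (r + 1)) (ψ : A i m →ₐ[k] k),
        ψ (π i m L.1) = coords i j χ b * coords i m ψ a - coords i j χ a * coords i m ψ b := by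
      intro m ψ
      rw [χ_π]
      simp [L, MvPolynomial.smul_eq_C_mul]
    have h1 : χ (π i j L.1) = 0 := by rw [hL, mul_comm, sub_self]
    by_contra hne
    refine (pX_mem_D i j χ L).1 ?_ h1
    rw [h, pX_mem_D, hL]
    intro e
    exact hne (sub_eq_zero.1 e).symm
  · intro h
    obtain ⟨h0, h1⟩ := h.coords_eq
    have hj : coords i l χ' j ≠ 0 := fun e => by
      have := h1 j
      rw [e, mul_zero, coords_self] at this
      exact one_ne_zero this
    have hmem : pX i l χ' ∈ i ⁻¹ᵁ Proj.basicOpen (CohB1.polyGrading r k)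
        ((⟨MvPolynomial.X j, LefPen.X_mem r k j⟩ : LefPen.Form r k 1) : MvPolynomial (Fin (r + 1)) k) :=
      (pX_mem_D i l χ' (⟨MvPolynomial.X j, LefPen.X_mem r k j⟩ : LefPen.Form r k 1)).2 hj
    obtain ⟨p, hp⟩ := exists_fromSpec i j hmem
    exact (pX_eq_fromSpec i j χ l χ' h p hp).trans hp

omit [IsAffineHom i] in
/-- If a form vanishes identically on one chart of an irreducible smooth variety it does so on every chart. -/
theorem π_form_eq_zero [IrreducibleSpace X] [IsIntegral X] {d : ℕ} (G : LefPen.Form r k d) (j l : Fin (r + 1))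
    (hj : (V i j : Set X).Nonempty) (h : π i j G.1 = 0) : π i l G.1 = 0 := by
  by_cases hl : (V i l : Set X).Nonempty
  · let W := V i l ⊓ V i j
    haveI : Nonempty W := (nonempty_preirreducible_inter (V i l).2 (V i j).2 hl hj).to_subtype
    haveI : Nonempty (V i l) := hl.to_subtype
    have h1 := ρ_π_form i G l j W inf_le_left inf_le_right
    rw [h, map_zero, zero_mul] at h1
    exact (injective_iff_map_eq_zero _).1 (map_injective_of_isIntegral X (homOfLE inf_le_left)) _ h1
  · have e : V i l = ⊥ := Opens.ext (Set.not_nonempty_iff_eq_empty.1 hl)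
    have hb : X.basicOpen (U := V i l) (π i l G.1) = ⊥ := le_bot_iff.1 ((X.basicOpen_le _).trans_eq e)
    haveI : IsReduced X := inferInstance
    exact (AlgebraicGeometry.basicOpen_eq_bot_iff (X := X) (U := V i l) _).1 hb

end Groth.Agent.LefPen13
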