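import Groth.Agent.Lib.LefPen13.Glue

/-! # Polynomial functions on the space of forms -/

set_option autoImplicit false
set_option linter.style.haveILetI false
set_option backward.isDefEq.respectTransparency false
set_option backward.isDefEq.respectTransparency.types false

universe u

open CategoryTheory AlgebraicGeometry MvPolynomial

noncomputable section

namespace Groth.Agent.LefPen13

variable {k : Type u} [Field k] {V : Type u} [AddCommGroup V] [Module k V] {m : ℕ} (b : Module.Basis (Fin m) k V)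

theorem isPolyFun_eval (E : MvPolynomial (Fin m) k) : LefPen.IsPolyFun k fun v => eval (b.equivFun v) E := by
  show (fun v => eval (b.equivFun v) E) ∈ Algebra.adjoin k (Set.range fun l : Module.Dual k V => (l : V → k))
  induction E using MvPolynomial.induction_on with
  | C a =>
    simp only [eval_C]
    exact Subalgebra.algebraMap_mem _ a
  | add p q hp hq =>
    simp only [map_add]
    exact add_mem hp hq
  | mul_X p l hp =>
    simp only [map_mul, eval_X]
    exact mul_mem hp (Algebra.subset_adjoin ⟨b.coord l, funext fun v => rfl⟩)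

theorem exists_poly {f : V → k} (hf : LefPen.IsPolyFun k f) :
    ∃ E : MvPolynomial (Fin m) k, ∀ v, eval (b.equivFun v) E = f v := by
  induction hf using Algebra.adjoin_induction with
  | mem f hf =>
    obtain ⟨l, rfl⟩ := hf
    refine ⟨∑ t, C (l (b t)) * X t, fun v => ?_⟩
    simp only [map_sum, map_mul, eval_C, eval_X]
    conv_rhs => rw [← b.sum_equivFun v, map_sum]
    exact Finset.sum_congr rfl fun t _ => by rw [map_smul, smul_eq_mul, mul_comm]
  | algebraMap a => exact ⟨C a, fun v => eval_C a⟩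
  | add f g _ _ hf hg =>
    obtain ⟨E, hE⟩ := hf; obtain ⟨E', hE'⟩ := hg
    exact ⟨E + E', fun v => by rw [map_add, hE, hE']; rfl⟩
  | mul f g _ _ hf hg =>
    obtain ⟨E, hE⟩ := hf; obtain ⟨E', hE'⟩ := hg
    exact ⟨E * E', fun v => by rw [map_mul, hE, hE']; rfl⟩

variable [IsAlgClosed k] {r : ℕ} {X : Scheme.{u}} (i : X ⟶ CohB1.ProjSpace r k) [IsClosedImmersion i]
  [Smooth (i ≫ CohB1.ProjSpace.toSpec r k)] {d : ℕ} (e : Module.Basis (Fin m) k (LefPen.Form r k d))

/-- Almost all forms are nonsingular. -/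
theorem exists_nonsingular_poly (hd : 1 ≤ d) :
    ∃ E : MvPolynomial (Fin m) k, E ≠ 0 ∧ ∀ F, Singular i F → eval (e.equivFun F) E = 0 := by
  classical
  haveI : ∀ j, Algebra.Smooth k (A i j) := fun j => smooth i j
  have key : ∀ j : Fin (r + 1), ∃ G : MvPolynomial (Fin m) k, G ≠ 0 ∧
      ∀ (χ : A i j →ₐ[k] k) c, Bad (fam i e j) χ c → eval c G = 0 := by
    intro j
    have hjet : ∀ (M : Ideal (A i j)), M.IsMaximal → ∀ z : A i j, ∃ c : Fin m → k,
        (∑ t, c t • fam i e j t) - z ∈ M ^ 2 := by
      intro M hM z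
      letI : Field (A i j ⧸ M) := Ideal.Quotient.field M
      haveI : Module.Finite k (A i j ⧸ M) := finite_of_finite_type_of_isJacobsonRing k (A i j ⧸ M)
      haveI : Algebra.IsIntegral k (A i j ⧸ M) := Algebra.IsIntegral.of_finite k _
      let ee := (AlgEquiv.ofBijective (Algebra.ofId k (A i j ⧸ M))
        (IsAlgClosed.algebraMap_bijective_of_isIntegral (k := k) (K := A i j ⧸ M)))
      have hker : RingHom.ker (ee.symm.toAlgHom.comp (Ideal.Quotient.mkₐ k M)) = M := by
        ext a
        rw [RingHom.mem_ker, AlgHom.comp_apply, AlgEquiv.coe_toAlgHom, map_eq_zero_iff _ ee.symm.injective]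
        exact Ideal.Quotient.eq_zero_iff_mem
      have := jets i e hd j (ee.symm.toAlgHom.comp (Ideal.Quotient.mkₐ k M)) z
      rwa [hker] at this
    choose f hf G hG hgood using fun p : PrimeSpectrum (A i j) =>
      BertiniJets13.exists_nhd p.asIdeal (0 : A i j) (fam i e j) hjet
    obtain ⟨t, ht⟩ := CompactSpace.isCompact_univ.elim_finite_subcover
      (fun p : PrimeSpectrum (A i j) => (PrimeSpectrum.basicOpen (f p) : Set (PrimeSpectrum (A i j))))
      (fun p => (PrimeSpectrum.basicOpen (f p)).2) (fun p _ => Set.mem_iUnion.2 ⟨p, hf p⟩)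
    refine ⟨∏ p ∈ t, G p, Finset.prod_ne_zero_iff.2 fun p _ => hG p, fun χ c hc => ?_⟩
    have hM : (RingHom.ker χ).IsMaximal := RingHom.ker_isMaximal_of_surjective χ.toRingHom
      fun a => ⟨algebraMap k _ a, χ.commutes a⟩
    obtain ⟨p, hp, hpM⟩ := Set.mem_iUnion₂.1 (ht (Set.mem_univ (⟨RingHom.ker χ, hM.isPrime⟩ : PrimeSpectrum (A i j))))
    rw [map_prod]
    refine Finset.prod_eq_zero hp ?_
    by_contra hne
    refine hgood p c hne (RingHom.ker χ) hM hpM ?_
    rw [zero_add]
    exact hc
  choose G hG hbad using key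
  refine ⟨∏ j, G j, Finset.prod_ne_zero_iff.2 fun j _ => hG j, fun F ⟨j, χ, hχ⟩ => ?_⟩
  rw [map_prod]
  refine Finset.prod_eq_zero (Finset.mem_univ j) (hbad j χ _ ((bad_iff i e j χ _).2 ?_))
  rwa [LinearEquiv.symm_apply_apply]

end Groth.Agent.LefPen13
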