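import Groth.Agent.Lib.LefPen13.Alg

/-! # Smoothness of a hypersurface section in terms of points -/

set_option autoImplicit false
set_option linter.style.haveILetI false
universe u

open KaehlerDifferential

noncomputable section

namespace Groth.Agent.LefPen13

variable {k : Type u} [Field k] {A : Type u} [CommRing A] [Algebra k A]

/-- The local ring at a rational point of an algebra smooth of relative dimension `n` has dimension `n`. -/
theorem height_ker_eq {n : ℕ}
    (hA : RingHom.Locally (RingHom.IsStandardSmoothOfRelativeDimension n) (algebraMap k A)) (χ : A →ₐ[k] k) :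
    (RingHom.ker χ).height = n := by
  obtain ⟨s, hs, hstd⟩ := hA
  obtain ⟨t, hts, ht⟩ : ∃ t ∈ s, χ t ≠ 0 := by
    by_contra! hc
    have hle : Ideal.span s ≤ RingHom.ker χ := Ideal.span_le.2 fun t ht => hc t ht
    rw [hs] at hle
    exact one_ne_zero ((map_one χ).symm.trans (hle (Submodule.mem_top (x := (1 : A)))))
  let B := Localization.Away t
  haveI : Algebra.IsStandardSmoothOfRelativeDimension n k B := by
    rw [← RingHom.isStandardSmoothOfRelativeDimension_algebraMap, IsScalarTower.algebraMap_eq k A B]
    exact hstd t hts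
  let χB : B →ₐ[k] k :=
    { IsLocalization.Away.lift t (g := χ.toRingHom) (isUnit_iff_ne_zero.2 ht) with
      commutes' := fun a => by
        show IsLocalization.Away.lift t (g := χ.toRingHom) (isUnit_iff_ne_zero.2 ht) (algebraMap k B a) = _
        rw [IsScalarTower.algebraMap_apply k A B]
        refine (IsLocalization.Away.lift_eq t (g := χ.toRingHom) (isUnit_iff_ne_zero.2 ht) _).trans ?_
        exact χ.commutes a }
  haveI : (RingHom.ker χB).IsMaximal := RingHom.ker_isMaximal_of_surjective χB.toRingHom
    fun a => ⟨algebraMap k B a, χB.commutes a⟩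
  have h1 := CurveCartier25.ringKrullDim_atPrime_of_standardSmooth k B n (RingHom.ker χB)
  rw [IsLocalization.AtPrime.ringKrullDim_eq_height (RingHom.ker χB),
    ← IsLocalization.height_under (Submonoid.powers t) (RingHom.ker χB)] at h1
  have e : (RingHom.ker χB).under A = RingHom.ker χ := by
    ext a
    show χB (algebraMap A B a) = 0 ↔ χ a = 0
    rw [show χB (algebraMap A B a) = χ a from IsLocalization.Away.lift_eq t (g := χ.toRingHom) (isUnit_iff_ne_zero.2 ht) a]
  rw [e] at h1
  exact_mod_cast h1

/-- The local ring of the hypersurface. -/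
theorem quot_atPrime (h : A) (M : Ideal A) [M.IsMaximal] (hM : h ∈ M) :
    ∃ (m : Ideal (A ⧸ Ideal.span {h})) (_ : m.IsMaximal), m.comap (Ideal.Quotient.mk _) = M ∧
      Nonempty (Localization.AtPrime M ⧸ Ideal.span {algebraMap A (Localization.AtPrime M) h} ≃+*
        Localization.AtPrime m) := by
  let Q := A ⧸ Ideal.span {h}
  let m := M.map (Ideal.Quotient.mk (Ideal.span {h}))
  have hker : Ideal.span {h} ≤ M := (Ideal.span_singleton_le_iff_mem _).2 hM
  haveI hm : m.IsMaximal := Ideal.IsMaximal.map_of_surjective_of_ker_le Ideal.Quotient.mk_surjective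
    (by rwa [Ideal.mk_ker])
  have hcomap : m.comap (Ideal.Quotient.mk (Ideal.span {h})) = M := by
    rw [Ideal.comap_map_of_surjective _ Ideal.Quotient.mk_surjective, ← RingHom.ker_eq_comap_bot,
      Ideal.mk_ker, sup_eq_left.2 hker]
  let Ap := Localization.AtPrime M
  let Qp := Ap ⧸ (Ideal.span {h}).map (algebraMap A Ap)
  haveI : IsLocalization (Algebra.algebraMapSubmonoid Q M.primeCompl) Qp := inferInstance
  have hsub : Algebra.algebraMapSubmonoid Q M.primeCompl = m.primeCompl := by
    ext z
    constructor
    · rintro ⟨a, ha, rfl⟩ hz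
      exact ha (hcomap.le hz)
    · intro hz
      obtain ⟨a, rfl⟩ := Ideal.Quotient.mk_surjective z
      exact ⟨a, fun ha => hz (Ideal.mem_map_of_mem _ ha), rfl⟩
  haveI : IsLocalization.AtPrime Qp m := by
    unfold IsLocalization.AtPrime
    rw [← hsub]
    assumption
  exact ⟨m, hm, hcomap, ⟨(Ideal.quotEquivOfEq (by rw [Ideal.map_span, Set.image_singleton])).trans
    (IsLocalization.algEquiv m.primeCompl Qp (Localization.AtPrime m)).toRingEquiv⟩⟩

variable [IsAlgClosed k]

/-- A hypersurface in a smooth affine variety is smooth of codimension one iff its equation lies in the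
square of no maximal ideal. -/
theorem smooth_iff [Algebra.Smooth k A] {n : ℕ} (hn : 1 ≤ n)
    (hA : RingHom.Locally (RingHom.IsStandardSmoothOfRelativeDimension n) (algebraMap k A)) (h : A) :
    (∀ χ : A →ₐ[k] k, h ∉ RingHom.ker χ ^ 2) ↔
      RingHom.Locally (RingHom.IsStandardSmoothOfRelativeDimension (n - 1))
        (algebraMap k (A ⧸ Ideal.span {h})) := by
  haveI : IsNoetherianRing A := Algebra.FiniteType.isNoetherianRing k A
  let Q := A ⧸ Ideal.span {h}
  have hdimA : ∀ χ : A →ₐ[k] k, ∀ [(RingHom.ker χ).IsPrime],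
      ringKrullDim (Localization.AtPrime (RingHom.ker χ)) = n := by
    intro χ _
    rw [IsLocalization.AtPrime.ringKrullDim_eq_height (RingHom.ker χ), height_ker_eq hA χ]
    rfl
  constructor
  · intro hh
    haveI : Algebra.Smooth k Q := BertiniJets13.smooth_quotient h fun M hM hsq => by
      haveI := hM
      letI : Field (A ⧸ M) := Ideal.Quotient.field M
      haveI : Module.Finite k (A ⧸ M) := finite_of_finite_type_of_isJacobsonRing k (A ⧸ M)
      haveI : Algebra.IsIntegral k (A ⧸ M) := Algebra.IsIntegral.of_finite k _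
      let e := (AlgEquiv.ofBijective (Algebra.ofId k (A ⧸ M))
        (IsAlgClosed.algebraMap_bijective_of_isIntegral (k := k) (K := A ⧸ M)))
      have hker : RingHom.ker (e.symm.toAlgHom.comp (Ideal.Quotient.mkₐ k M)) = M := by
        ext a
        rw [RingHom.mem_ker, AlgHom.comp_apply, AlgEquiv.coe_toAlgHom, map_eq_zero_iff _ e.symm.injective]
        exact Ideal.Quotient.eq_zero_iff_mem
      exact hh (e.symm.toAlgHom.comp (Ideal.Quotient.mkₐ k M)) (by rwa [hker])
    obtain ⟨s, hs, hstd⟩ := Algebra.Smooth.exists_span_eq_top_isStandardSmooth k Q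
    rw [RingHom.locally_iff_span_eq_top]
    by_contra hne
    obtain ⟨m, hm, hle⟩ := Ideal.exists_le_maximal _ hne
    obtain ⟨t, hts, htm⟩ : ∃ t ∈ s, t ∉ m := by
      by_contra! hc
      exact hm.ne_top (top_le_iff.1 (hs ▸ Ideal.span_le.2 hc))
    refine htm (hle (Ideal.subset_span ?_))
    show RingHom.IsStandardSmoothOfRelativeDimension (n - 1)
      ((algebraMap Q (Localization.Away t)).comp (algebraMap k Q))
    rw [← IsScalarTower.algebraMap_eq, RingHom.isStandardSmoothOfRelativeDimension_algebraMap]
    haveI : Algebra.IsStandardSmooth k (Localization.Away t) := hstd t hts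
    obtain ⟨ι, σ, _, _, ⟨P⟩⟩ := (inferInstance : Algebra.IsStandardSmooth k (Localization.Away t))
    haveI hP : Algebra.IsStandardSmoothOfRelativeDimension P.dimension k (Localization.Away t) :=
      P.isStandardSmoothOfRelativeDimension rfl
    suffices hPd : P.dimension = n - 1 by rwa [hPd] at hP
    letI : Field (Q ⧸ m) := Ideal.Quotient.field m
    haveI : Module.Finite k (Q ⧸ m) := finite_of_finite_type_of_isJacobsonRing k (Q ⧸ m)
    haveI : Algebra.IsIntegral k (Q ⧸ m) := Algebra.IsIntegral.of_finite k _
    let e := (AlgEquiv.ofBijective (Algebra.ofId k (Q ⧸ m))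
      (IsAlgClosed.algebraMap_bijective_of_isIntegral (k := k) (K := Q ⧸ m)))
    let χQ : Q →ₐ[k] k := e.symm.toAlgHom.comp (Ideal.Quotient.mkₐ k m)
    have hkerQ : RingHom.ker χQ = m := by
      ext a
      rw [RingHom.mem_ker, AlgHom.comp_apply, AlgEquiv.coe_toAlgHom, map_eq_zero_iff _ e.symm.injective]
      exact Ideal.Quotient.eq_zero_iff_mem
    have hQ : RingHom.Locally (RingHom.IsStandardSmoothOfRelativeDimension P.dimension)
        (algebraMap k (Localization.Away t)) :=
      RingHom.locally_of RingHom.isStandardSmoothOfRelativeDimension_respectsIso _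
        ((RingHom.isStandardSmoothOfRelativeDimension_algebraMap _).2 hP)
    have ht : χQ t ≠ 0 := fun h0 => htm (hkerQ.le h0)
    let χt : Localization.Away t →ₐ[k] k :=
      { IsLocalization.Away.lift t (g := χQ.toRingHom) (isUnit_iff_ne_zero.2 ht) with
        commutes' := fun a => by
          show IsLocalization.Away.lift t (g := χQ.toRingHom) (isUnit_iff_ne_zero.2 ht) (algebraMap k _ a) = _
          rw [IsScalarTower.algebraMap_apply k Q (Localization.Away t)]
          refine (IsLocalization.Away.lift_eq t (g := χQ.toRingHom) (isUnit_iff_ne_zero.2 ht) _).trans ?_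
          exact χQ.commutes a }
    have h1 := height_ker_eq hQ χt
    haveI : (RingHom.ker χt).IsMaximal := RingHom.ker_isMaximal_of_surjective χt.toRingHom
      fun a => ⟨algebraMap k _ a, χt.commutes a⟩
    rw [← IsLocalization.height_under (Submonoid.powers t) (RingHom.ker χt)] at h1
    have eu : (RingHom.ker χt).under Q = m := by
      rw [← hkerQ]
      ext a
      show χt (algebraMap Q _ a) = 0 ↔ χQ a = 0
      rw [show χt (algebraMap Q _ a) = χQ a from IsLocalization.Away.lift_eq t (g := χQ.toRingHom) (isUnit_iff_ne_zero.2 ht) a]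
    rw [eu] at h1
    let χ : A →ₐ[k] k := χQ.comp (Ideal.Quotient.mkₐ k _)
    haveI : (RingHom.ker χ).IsMaximal := RingHom.ker_isMaximal_of_surjective χ.toRingHom
      fun a => ⟨algebraMap k A a, χ.commutes a⟩
    have hhM : h ∈ RingHom.ker χ := by
      show χQ (Ideal.Quotient.mk _ h) = 0
      rw [Ideal.Quotient.eq_zero_iff_mem.2 (Ideal.mem_span_singleton_self h), map_zero]
    obtain ⟨m', hm', hcomap, ⟨E⟩⟩ := quot_atPrime h (RingHom.ker χ) hhM
    have hmm : m' = m := Ideal.comap_injective_of_surjective _ Ideal.Quotient.mk_surjective (by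
      rw [hcomap, ← hkerQ]
      rfl)
    subst hmm
    haveI : IsRegularLocalRing (Localization.AtPrime (RingHom.ker χ)) :=
      SmoothReg17.isRegularLocalRing_of_smooth (algebraMap k A) (RingHom.smooth_algebraMap.2 inferInstance) _
    obtain ⟨hR, hdim⟩ := RegLoc.quotient_span_singleton (R := Localization.AtPrime (RingHom.ker χ))
      (x := algebraMap A (Localization.AtPrime (RingHom.ker χ)) h)
      ((IsLocalization.AtPrime.to_map_mem_maximal_iff _ (RingHom.ker χ) h).2 hhM)
      (fun h2 => hh χ (by
        rw [← Localization.AtPrime.map_eq_maximalIdeal, ← Ideal.map_pow,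
          IsLocalization.algebraMap_mem_map_algebraMap_iff (RingHom.ker χ).primeCompl] at h2
        obtain ⟨a, ha, hah⟩ := h2
        have htop : Ideal.span {a} ⊔ RingHom.ker χ ^ 2 = ⊤ := Ideal.sup_pow_eq_top
          ((‹(RingHom.ker χ).IsMaximal›).1.2 _ (by rw [right_lt_sup, Ideal.span_singleton_le_iff_mem]; exact ha))
        obtain ⟨r', hr', q, hq, hrq⟩ := Submodule.mem_sup.1 ((Ideal.eq_top_iff_one _).1 htop)
        obtain ⟨r, rfl⟩ := Ideal.mem_span_singleton'.1 hr'
        rw [← one_mul h, ← hrq, add_mul, mul_assoc]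
        exact add_mem (Ideal.mul_mem_left _ _ hah) (Ideal.mul_mem_right _ _ hq)))
    have h2 := hdimA χ
    rw [← IsRegularLocalRing.spanFinrank_maximalIdeal, ← hdim] at h2
    have h2' : (IsLocalRing.maximalIdeal (Localization.AtPrime (RingHom.ker χ) ⧸
        Ideal.span {algebraMap A (Localization.AtPrime (RingHom.ker χ)) h})).spanFinrank + 1 = n := by
      exact_mod_cast h2
    have h3 : ringKrullDim (Localization.AtPrime (RingHom.ker χ) ⧸
        Ideal.span {algebraMap A (Localization.AtPrime (RingHom.ker χ)) h}) = (P.dimension : ℕ) := by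
      rw [ringKrullDim_eq_of_ringEquiv E, IsLocalization.AtPrime.ringKrullDim_eq_height m', h1]
      rfl
    rw [← IsRegularLocalRing.spanFinrank_maximalIdeal] at h3
    have h3' : (IsLocalRing.maximalIdeal (Localization.AtPrime (RingHom.ker χ) ⧸
        Ideal.span {algebraMap A (Localization.AtPrime (RingHom.ker χ)) h})).spanFinrank = P.dimension := by exact_mod_cast h3
    omega
  · intro hQ χ hsq
    haveI hmax : (RingHom.ker χ).IsMaximal := RingHom.ker_isMaximal_of_surjective χ.toRingHom
      fun a => ⟨algebraMap k A a, χ.commutes a⟩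
    have hhM : h ∈ RingHom.ker χ := Ideal.pow_le_self two_ne_zero hsq
    let χQ : Q →ₐ[k] k := Ideal.Quotient.liftₐ _ χ (fun a ha => by
      obtain ⟨b, rfl⟩ := Ideal.mem_span_singleton'.1 ha
      rw [map_mul, show χ h = 0 from hhM, mul_zero])
    obtain ⟨m, hm, hcomap, ⟨E⟩⟩ := quot_atPrime h (RingHom.ker χ) hhM
    have hmm : RingHom.ker χQ = m := Ideal.comap_injective_of_surjective _ Ideal.Quotient.mk_surjective (by
      rw [hcomap]
      ext a
      rfl)
    have h1 := height_ker_eq hQ χQ
    rw [hmm] at h1
    haveI : IsRegularLocalRing (Localization.AtPrime m) := by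
      refine SmoothReg17.isRegularLocalRing_of_smooth (algebraMap k Q) ?_ _
      refine RingHom.smooth_iff_locally_isStandardSmooth.2 ?_
      exact RingHom.locally_of_locally (fun hf => hf.isStandardSmooth) hQ
    set Ap := Localization.AtPrime (RingHom.ker χ)
    haveI : IsRegularLocalRing Ap :=
      SmoothReg17.isRegularLocalRing_of_smooth (algebraMap k A) (RingHom.smooth_algebraMap.2 inferInstance) _
    haveI : IsRegularLocalRing (Ap ⧸ Ideal.span {algebraMap A Ap h}) := IsRegularLocalRing.of_ringEquiv E.symm
    have h2 : (IsLocalRing.maximalIdeal (Ap ⧸ Ideal.span {algebraMap A Ap h})).spanFinrank = n - 1 := by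
      have h3 : ringKrullDim (Ap ⧸ Ideal.span {algebraMap A Ap h}) = ((n - 1 : ℕ) : ℕ) := by
        rw [ringKrullDim_eq_of_ringEquiv E, IsLocalization.AtPrime.ringKrullDim_eq_height m, h1]
        rfl
      rw [← IsRegularLocalRing.spanFinrank_maximalIdeal] at h3
      exact_mod_cast h3
    have h4 : (IsLocalRing.maximalIdeal Ap).spanFinrank = n := by
      have := hdimA χ
      rw [← IsRegularLocalRing.spanFinrank_maximalIdeal] at this
      exact_mod_cast this
    let π := Ideal.Quotient.mk (Ideal.span {algebraMap A Ap h})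
    have hfg := IsNoetherian.noetherian (IsLocalRing.maximalIdeal (Ap ⧸ Ideal.span {algebraMap A Ap h}))
    let T := Submodule.generators (IsLocalRing.maximalIdeal (Ap ⧸ Ideal.span {algebraMap A Ap h}))
    have hTfin : T.Finite := Submodule.FG.finite_generators hfg
    have hTcard : T.ncard = n - 1 := (Submodule.FG.generators_ncard hfg).trans h2
    choose l hl using fun t : Ap ⧸ Ideal.span {algebraMap A Ap h} => Ideal.Quotient.mk_surjective t
    have hsq' : algebraMap A Ap h ∈ IsLocalRing.maximalIdeal Ap ^ 2 := by
      rw [← Localization.AtPrime.map_eq_maximalIdeal, ← Ideal.map_pow]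
      exact Ideal.mem_map_of_mem _ hsq
    have hmem : ∀ t ∈ T, l t ∈ IsLocalRing.maximalIdeal Ap := by
      intro t ht
      by_contra hc
      have hu : IsUnit (π (l t)) := (IsLocalRing.notMem_maximalIdeal.1 hc).map π
      rw [show π (l t) = t from hl t] at hu
      exact (IsLocalRing.maximalIdeal.isMaximal _).ne_top (Ideal.eq_top_of_isUnit_mem _
        (Submodule.span_generators (IsLocalRing.maximalIdeal (Ap ⧸ Ideal.span {algebraMap A Ap h})) ▸
          Submodule.subset_span ht) hu)
    have hle : IsLocalRing.maximalIdeal Ap ≤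
        Ideal.span (l '' T) ⊔ IsLocalRing.maximalIdeal Ap ^ 2 := by
      intro a ha
      have hb : π a ∈ IsLocalRing.maximalIdeal (Ap ⧸ Ideal.span {algebraMap A Ap h}) := by
        rw [RegLoc.maximalIdeal_quotient]
        exact Ideal.mem_map_of_mem _ ha
      have hT : (Ideal.span (l '' T)).map π = IsLocalRing.maximalIdeal (Ap ⧸ Ideal.span {algebraMap A Ap h}) := by
        rw [Ideal.map_span, ← Set.image_comp]
        rw [show (π ∘ l) '' T = T by simp [Function.comp_def, π, hl]]
        exact Submodule.span_generators _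
      rw [← hT, ← Ideal.mem_comap, Ideal.comap_map_of_surjective _ Ideal.Quotient.mk_surjective,
        ← RingHom.ker_eq_comap_bot, Ideal.mk_ker] at hb
      obtain ⟨b, hb', e, he, rfl⟩ := Submodule.mem_sup.1 hb
      exact add_mem (Submodule.mem_sup_left hb')
        (Submodule.mem_sup_right ((Ideal.span_singleton_le_iff_mem _).2 hsq' he))
    have hspan : IsLocalRing.maximalIdeal Ap ≤ Ideal.span (l '' T) :=
      Submodule.le_of_le_smul_of_le_jacobson_bot (IsNoetherian.noetherian _)
        (IsLocalRing.jacobson_eq_maximalIdeal (⊥ : Ideal Ap) bot_ne_top).ge (by rwa [smul_eq_mul, ← pow_two])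
    have heq : IsLocalRing.maximalIdeal Ap = Ideal.span (l '' T) :=
      le_antisymm hspan (Ideal.span_le.2 (by rintro _ ⟨t, ht, rfl⟩; exact hmem t ht))
    have : (IsLocalRing.maximalIdeal Ap).spanFinrank ≤ n - 1 := by
      rw [heq]
      exact (Submodule.spanFinrank_span_le_ncard_of_finite (hTfin.image l)).trans
        ((Set.ncard_image_le hTfin).trans hTcard.le)
    omega

end Groth.Agent.LefPen13
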