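import Mathlib

/-! # Elimination theory for a projective space -/

set_option autoImplicit false
universe u

open MvPolynomial

namespace Groth.Agent.LefPen13

variable {k : Type u} [Field k] {σ : Type} [Fintype σ] [DecidableEq σ] {m : ℕ}

/-- Evaluation of a polynomial in the coordinates with coefficients depending on parameters. -/
noncomputable def ev (a : σ → k) (c : Fin m → k) : MvPolynomial σ (MvPolynomial (Fin m) k) →+* k :=
  eval₂Hom (eval c) a

omit [Fintype σ] [DecidableEq σ] in
theorem ev_apply (a : σ → k) (c : Fin m → k) (P : MvPolynomial σ (MvPolynomial (Fin m) k)) :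
    ev a c P = eval a (map (eval c) P) := by
  show eval₂ (eval c) a P = _
  rw [eval_map]

variable [IsAlgClosed k]

/-- The set of parameters whose system has a nontrivial common zero is closed. -/
theorem elim (Bad : (σ → k) → (Fin m → k) → Prop) (hne : ∀ a c, Bad a c → a ≠ 0) (c₀ : Fin m → k)
    (h : ∀ a : σ → k, a ≠ 0 → ∃ (D : ℕ) (P : MvPolynomial σ (MvPolynomial (Fin m) k)),
      P.IsHomogeneous D ∧ ev a c₀ P ≠ 0 ∧ ∀ a' c', Bad a' c' → ev a' c' P = 0) :
    ∃ E : MvPolynomial (Fin m) k, eval c₀ E ≠ 0 ∧ ∀ a c, Bad a c → eval c E = 0 := by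
  classical
  let S : Set (MvPolynomial σ k) := {q | ∃ (D : ℕ) (P : MvPolynomial σ (MvPolynomial (Fin m) k)),
    P.IsHomogeneous D ∧ (∀ a' c', Bad a' c' → ev a' c' P = 0) ∧ map (eval c₀) P = q}
  have hzero : ∀ x ∈ zeroLocus k (Ideal.span S), x = 0 := by
    intro x hx
    by_contra hx0
    obtain ⟨D, P, hP, hne', hb⟩ := h x hx0
    refine hne' ?_
    rw [ev_apply, ← aeval_eq_eval]
    exact hx _ (Ideal.subset_span ⟨D, P, hP, hb, rfl⟩)
  have hpow : ∀ l, ∃ N : ℕ, (X l : MvPolynomial σ k) ^ (N + 1) ∈ Ideal.span S := by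
    intro l
    have h1 : (X l : MvPolynomial σ k) ∈ (Ideal.span S).radical := by
      rw [← vanishingIdeal_zeroLocus_eq_radical (K := k)]
      intro x hx
      rw [hzero x hx]
      simp
    obtain ⟨N, hN⟩ := h1
    exact ⟨N, by rw [pow_succ]; exact Ideal.mul_mem_right _ _ hN⟩
  choose N hN using hpow
  have hlift : ∀ l, ∃ Q : MvPolynomial σ (MvPolynomial (Fin m) k), Q.IsHomogeneous (N l + 1) ∧
      (∀ a' c', Bad a' c' → ev a' c' Q = 0) ∧ map (eval c₀) Q = X l ^ (N l + 1) := by
    intro l
    obtain ⟨q, hsum⟩ : ∃ q : List (MvPolynomial σ k × S),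
        (q.map fun t : MvPolynomial σ k × S => t.1 * t.2.1).sum = X l ^ (N l + 1) := by
      obtain ⟨n, f, g, hfg⟩ := Submodule.mem_span_set'.1 (hN l)
      refine ⟨List.ofFn fun i => (f i, g i), ?_⟩
      rw [List.map_ofFn, List.sum_ofFn]
      simpa [Function.comp_def, smul_eq_mul] using hfg
    suffices H : ∀ q : List (MvPolynomial σ k × S), ∃ Q : MvPolynomial σ (MvPolynomial (Fin m) k),
        Q.IsHomogeneous (N l + 1) ∧ (∀ a' c', Bad a' c' → ev a' c' Q = 0) ∧
        map (eval c₀) Q = homogeneousComponent (N l + 1) ((q.map fun t : MvPolynomial σ k × S => t.1 * t.2.1).sum) by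
      obtain ⟨Q, h1, h2, h3⟩ := H q
      refine ⟨Q, h1, h2, ?_⟩
      rw [h3, hsum, homogeneousComponent_of_mem ((mem_homogeneousSubmodule _ _).2 (isHomogeneous_X_pow l _)),
        if_pos rfl]
    intro q
    induction q with
    | nil => exact ⟨0, isHomogeneous_zero _ _ _, fun a c _ => map_zero _, by simp⟩
    | cons t q ih =>
      obtain ⟨Q, h1, h2, h3⟩ := ih
      obtain ⟨f, s, D, P, hP, hb, rfl⟩ := t
      let T := f.support.filter fun d => d.degree + D = N l + 1
      refine ⟨(∑ d ∈ T, monomial d (C (coeff d f)) * P) + Q, IsHomogeneous.add (IsHomogeneous.sum _ _ _ fun d hd => ?_) h1,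
        fun a c hac => ?_, ?_⟩
      · have := (Finset.mem_filter.1 hd).2
        rw [← this]
        exact (isHomogeneous_monomial _ rfl).mul hP
      · rw [map_add, map_sum, h2 a c hac, add_zero]
        exact Finset.sum_eq_zero fun d _ => by rw [map_mul, hb a c hac, mul_zero]
      · rw [List.map_cons, List.sum_cons, map_add, map_add, h3]
        congr 1
        conv_rhs => rw [f.as_sum, Finset.sum_mul, map_sum]
        rw [map_sum, Finset.sum_filter]
        refine Finset.sum_congr rfl fun d _ => ?_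
        rw [map_mul, map_monomial, eval_C]
        rw [homogeneousComponent_of_mem ((mem_homogeneousSubmodule _ _).2
          ((isHomogeneous_monomial (coeff d f) (n := d.degree) rfl).mul (hP.map (eval c₀))))]
        exact if_congr ⟨Eq.symm, Eq.symm⟩ rfl rfl
  choose Q hQh hQb hQs using hlift
  let D := ∑ l, N l + 1
  let B := (Finset.univ : Finset σ).finsuppAntidiag D
  have hB : ∀ γ : σ →₀ ℕ, γ ∈ B ↔ γ.degree = D := fun γ => by
    simp [B, Finsupp.degree_eq_sum]
  have hsel : ∀ β : B, ∃ l, N l + 1 ≤ β.1 l := by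
    intro β
    by_contra hc
    push Not at hc
    have h1 : ∑ l, β.1 l ≤ ∑ l, N l := Finset.sum_le_sum fun l _ => Nat.lt_succ_iff.1 (hc l)
    have h2 := (hB β.1).1 β.2
    rw [Finsupp.degree_eq_sum] at h2
    omega
  choose sel hsel using hsel
  let R : B → MvPolynomial σ (MvPolynomial (Fin m) k) := fun β =>
    monomial (β.1 - Finsupp.single (sel β) (N (sel β) + 1)) 1 * Q (sel β)
  have hsplit : ∀ β : B, (β.1 - Finsupp.single (sel β) (N (sel β) + 1)) + Finsupp.single (sel β) (N (sel β) + 1) = β.1 :=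
    fun β => tsub_add_cancel_of_le (Finsupp.single_le_iff.2 (hsel β))
  have hRh : ∀ β, (R β).IsHomogeneous D := fun β => by
    have h1 := (isHomogeneous_monomial (1 : MvPolynomial (Fin m) k)
      (d := β.1 - Finsupp.single (sel β) (N (sel β) + 1)) rfl).mul (hQh (sel β))
    have h2 := congrArg Finsupp.degree (hsplit β)
    rw [map_add, Finsupp.degree_single, (hB β.1).1 β.2] at h2
    rwa [h2] at h1
  let M : Matrix B B (MvPolynomial (Fin m) k) := Matrix.of fun β γ => coeff γ.1 (R β)
  have hM1 : M.map (eval c₀) = 1 := by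
    ext β γ
    have h1 : map (eval c₀) (R β) = monomial β.1 1 := by
      rw [map_mul, map_monomial, map_one, hQs, X_pow_eq_monomial, monomial_mul, one_mul, hsplit]
    have h2 := congrArg (coeff γ.1) h1
    rw [coeff_map, coeff_monomial] at h2
    refine (h2 : (M.map (eval c₀)) β γ = _).trans ?_
    rw [Matrix.one_apply]
    exact if_congr Subtype.ext_iff.symm rfl rfl
  refine ⟨M.det, ?_, fun a c hac => ?_⟩
  · rw [RingHom.map_det, RingHom.mapMatrix_apply, hM1, Matrix.det_one]
    exact one_ne_zero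
  by_contra hdet
  rw [RingHom.map_det, RingHom.mapMatrix_apply] at hdet
  obtain ⟨l, hl⟩ : ∃ l, a l ≠ 0 := Function.ne_iff.1 (hne a c hac)
  let v : B → k := fun γ => ∏ x, a x ^ γ.1 x
  have hv : (M.map (eval c)).mulVec v = 0 := by
    funext β
    have h1 : ev a c (R β) = 0 := by rw [map_mul, hQb _ a c hac, mul_zero]
    have h2 : (R β).support ⊆ B := fun γ hγ => (hB γ).2 (by
      by_contra hne
      exact (mem_support_iff.1 hγ) ((hRh β).coeff_eq_zero hne))
    rw [Pi.zero_apply, ← h1, show ev a c (R β) = eval₂ (eval c) a (R β) from rfl, eval₂_eq',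
      Finset.sum_subset h2 (fun γ _ hγ => by rw [notMem_support_iff.1 hγ, map_zero, zero_mul]),
      ← Finset.sum_coe_sort B]
    rfl
  have h0 := Matrix.eq_zero_of_mulVec_eq_zero hdet hv
  have hmem : Finsupp.single l D ∈ B := (hB _).2 (Finsupp.degree_single _ _)
  have h3 : v ⟨_, hmem⟩ = 0 := by rw [h0]; rfl
  refine hl (pow_eq_zero_iff (n := D) (Nat.succ_ne_zero _) |>.1 ?_)
  rw [← h3]
  simp only [v, Finsupp.single_apply]
  rw [Finset.prod_eq_single l (fun x _ hx => by rw [if_neg (Ne.symm hx), pow_zero]) (by simp), if_pos rfl]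

end Groth.Agent.LefPen13
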