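import Groth.Agent.Lib.LefPen13.Chart
import Groth.Agent.Lib.LefPen13.Crit
import Groth.Agent.Lib.LefPen13.Elim
import Groth.Agent.Lib.LefPen22.FormsGeneric
import Groth.Agent.Lib.Bertini13.Section
import Groth.Agent.Lib.OrbitTop19.Smooth

/-! # Singular hypersurface sections of an embedded smooth variety -/

set_option autoImplicit false
set_option linter.style.haveILetI false
set_option backward.isDefEq.respectTransparency false
set_option backward.isDefEq.respectTransparency.types false

universe u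

open CategoryTheory CategoryTheory.Limits AlgebraicGeometry MvPolynomial TopologicalSpace

noncomputable section

namespace Groth.Agent.LefPen13

variable {k : Type u} [Field k] {r : ℕ} {X : Scheme.{u}} (i : X ⟶ CohB1.ProjSpace r k)

/-- The ring of a chart. -/
def A (j : Fin (r + 1)) : Type u := Γ(X, V i j)

instance (j : Fin (r + 1)) : CommRing (A i j) := inferInstanceAs (CommRing Γ(X, V i j))

/-- `P ↦ P(T / T_j)` on the chart of `X`. -/
def π (j : Fin (r + 1)) : MvPolynomial (Fin (r + 1)) k →+* A i j :=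
  (i.app (LefPen.chart r k j)).hom.comp (dh k r j)

instance (j : Fin (r + 1)) : Algebra k (A i j) := ((π i j).comp MvPolynomial.C).toAlgebra

theorem π_C (j : Fin (r + 1)) (a : k) : π i j (C a) = algebraMap k (A i j) a := rfl

theorem π_X_self (j : Fin (r + 1)) : π i j (MvPolynomial.X j) = 1 := by
  show i.app (LefPen.chart r k j) (dh k r j (MvPolynomial.X j)) = 1
  rw [dh_X_self, map_one]

theorem π_form {d : ℕ} (G : LefPen.Form r k d) (j : Fin (r + 1)) :
    π i j G.1 = i.app (LefPen.chart r k j) (LefPen.dehom G j) := by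
  rw [dehom_eq_dh]
  rfl

theorem π_surjective [IsClosedImmersion i] (j : Fin (r + 1)) : Function.Surjective (π i j) := by
  show Function.Surjective ((i.app (LefPen.chart r k j)).hom ∘ dh k r j)
  exact (i.app_surjective _ (ProjDim18.isAffineOpen_chart j)).comp (dh_surjective k r j)

theorem algebraMap_eq_coordV (j : Fin (r + 1)) : algebraMap k (A i j) =
    (i.app (Bertini13.V k r j)).hom.comp ((Bertini13.coordV k r j).comp MvPolynomial.C) := by
  refine RingHom.ext fun a => ?_
  show i.app (LefPen.chart r k j) (Bertini13.coordV k r j (ProjSpace.dehom k j (C a))) = _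
  rw [ProjSpace.dehom_C]
  rfl

theorem smooth [IsAffineHom i] [Smooth (i ≫ CohB1.ProjSpace.toSpec r k)] (j : Fin (r + 1)) :
    Algebra.Smooth k (A i j) := by
  rw [← RingHom.smooth_algebraMap, algebraMap_eq_coordV]
  exact Bertini13.isIntegral_smooth_chart i j

theorem fromSpec_toSpec_V [IsAffineHom i] (j : Fin (r + 1)) :
    (isAffineOpen_V i j).fromSpec ≫ i ≫ CohB1.ProjSpace.toSpec r k =
      Spec.map (CommRingCat.ofHom (algebraMap k (A i j))) := by
  rw [algebraMap_eq_coordV]
  have hU := Bertini13.isAffineOpen_V (k := k) j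
  rw [← Category.assoc, ← hU.SpecMap_appLE_fromSpec i (isAffineOpen_V i j) le_rfl, Category.assoc,
    Bertini13.fromSpec_toSpec, ← Spec.map_comp, Scheme.Hom.app_eq_appLE]
  rfl

theorem locally_std [IsAffineHom i] (n : ℕ) [SmoothOfRelativeDimension n (i ≫ CohB1.ProjSpace.toSpec r k)]
    (j : Fin (r + 1)) :
    RingHom.Locally (RingHom.IsStandardSmoothOfRelativeDimension n) (algebraMap k (A i j)) := by
  haveI : IsZariskiLocalAtSource (@SmoothOfRelativeDimension n) :=
    HasRingHomProperty.instIsZariskiLocalAtSource (P := @SmoothOfRelativeDimension n)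
      (Q := RingHom.Locally (RingHom.IsStandardSmoothOfRelativeDimension n))
  have h : SmoothOfRelativeDimension n ((isAffineOpen_V i j).fromSpec ≫ i ≫ CohB1.ProjSpace.toSpec r k) :=
    IsZariskiLocalAtSource.comp (P := @SmoothOfRelativeDimension n) ‹_› _
  rw [fromSpec_toSpec_V, HasRingHomProperty.Spec_iff (P := @SmoothOfRelativeDimension n)] at h
  exact h

theorem isIntegral [IrreducibleSpace X] [Smooth (i ≫ CohB1.ProjSpace.toSpec r k)] : IsIntegral X := by
  haveI : IsReduced X := OrbitTop19.isReduced_of_smooth (i ≫ CohB1.ProjSpace.toSpec r k)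
  exact isIntegral_of_irreducibleSpace_of_isReduced X

/-- The intersection of two charts is a basic open of the first. -/
theorem inf_eq_basicOpen (j l : Fin (r + 1)) :
    V i j ⊓ V i l = X.basicOpen (U := V i j) (π i j (MvPolynomial.X l)) := by
  rw [show π i j (MvPolynomial.X l) = i.app (LefPen.chart r k j) (LefPen.dehom (⟨MvPolynomial.X l, LefPen.X_mem r k l⟩ : LefPen.Form r k 1) j)
    from π_form i (⟨MvPolynomial.X l, LefPen.X_mem r k l⟩ : LefPen.Form r k 1) j]
  rw [← Scheme.preimage_basicOpen, ProjDim18.basicOpen_dehom]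
  rfl

/-- Restriction to an overlap. -/
def ρ (j : Fin (r + 1)) (W : X.Opens) (h : W ≤ V i j) : A i j →+* Γ(X, W) :=
  (X.presheaf.map (homOfLE h).op).hom

theorem ρ_π_form {d : ℕ} (G : LefPen.Form r k d) (j l : Fin (r + 1)) (W : X.Opens)
    (hj : W ≤ V i j) (hl : W ≤ V i l) :
    ρ i j W hj (π i j G.1) = ρ i l W hl (π i l G.1) * ρ i j W hj (π i j (MvPolynomial.X l)) ^ d := by
  have hX : π i j (MvPolynomial.X l) =
      i.app (LefPen.chart r k j) (LefPen.dehom (⟨MvPolynomial.X l, LefPen.X_mem r k l⟩ : LefPen.Form r k 1) j) :=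
    π_form i (⟨MvPolynomial.X l, LefPen.X_mem r k l⟩ : LefPen.Form r k 1) j
  have hW : W ≤ i ⁻¹ᵁ (LefPen.chart r k j ⊓ LefPen.chart r k l) := le_inf hj hl
  have key : ∀ (m : Fin (r + 1)) (hm : W ≤ V i m) (hle : LefPen.chart r k j ⊓ LefPen.chart r k l ≤ LefPen.chart r k m)
      (a : Γ(CohB1.ProjSpace r k, LefPen.chart r k m)),
      ρ i m W hm (i.app (LefPen.chart r k m) a) =
        i.appLE _ W hW ((CohB1.ProjSpace r k).presheaf.map (homOfLE hle).op a) := by
    intro m hm hle a
    rw [← ConcreteCategory.comp_apply, Scheme.Hom.map_appLE]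
    rfl
  rw [π_form, π_form, hX, key j hj inf_le_left, key l hl inf_le_right, key j hj inf_le_left,
    dehom_res G j l _ inf_le_left inf_le_right, map_mul, map_pow]

/-- A rational point of one chart lying in another chart, seen in the latter. -/
theorem transfer [IsAffineHom i] (j l : Fin (r + 1)) (χ : A i j →ₐ[k] k)
    (hl : χ (π i j (MvPolynomial.X l)) ≠ 0) :
    ∃ χ' : A i l →ₐ[k] k,
      (∀ m, χ (π i j (MvPolynomial.X m)) = χ' (π i l (MvPolynomial.X m)) * χ (π i j (MvPolynomial.X l))) ∧
      ∀ (d : ℕ) (G : LefPen.Form r k d),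
        (π i l G.1 ∈ RingHom.ker χ' ^ 2 ↔ π i j G.1 ∈ RingHom.ker χ ^ 2) := by
  let W := V i j ⊓ V i l
  let ρj := ρ i j W inf_le_left
  let ρl := ρ i l W inf_le_right
  letI : Algebra (A i j) Γ(X, W) := ρj.toAlgebra
  haveI hlocj : IsLocalization.Away (π i j (MvPolynomial.X l)) Γ(X, W) :=
    (isAffineOpen_V i j).isLocalization_of_eq_basicOpen (π i j (MvPolynomial.X l))
      (homOfLE inf_le_left) (inf_eq_basicOpen i j l)
  letI : Algebra k Γ(X, W) := (ρj.comp (algebraMap k (A i j))).toAlgebra
  haveI : IsScalarTower k (A i j) Γ(X, W) := IsScalarTower.of_algebraMap_eq' rfl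
  let χW : Γ(X, W) →ₐ[k] k :=
    { IsLocalization.Away.lift (π i j (MvPolynomial.X l)) (g := χ.toRingHom) (isUnit_iff_ne_zero.2 hl) with
      commutes' := fun a => by
        show IsLocalization.Away.lift (π i j (MvPolynomial.X l)) (g := χ.toRingHom) (isUnit_iff_ne_zero.2 hl)
          (algebraMap k Γ(X, W) a) = _
        rw [IsScalarTower.algebraMap_apply k (A i j) Γ(X, W)]
        refine (IsLocalization.Away.lift_eq (π i j (MvPolynomial.X l)) (g := χ.toRingHom)
          (isUnit_iff_ne_zero.2 hl) _).trans ?_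
        exact χ.commutes a }
  have hχW : ∀ a, χW (ρj a) = χ a := fun a =>
    IsLocalization.Away.lift_eq (π i j (MvPolynomial.X l)) (g := χ.toRingHom) (isUnit_iff_ne_zero.2 hl) a
  have hC : ∀ a : k, ρl (algebraMap k (A i l) a) = ρj (algebraMap k (A i j) a) := fun a => by
    have := ρ_π_form i (⟨C a, (mem_homogeneousSubmodule _ _).2 (isHomogeneous_C _ a)⟩ : LefPen.Form r k 0)
      j l W inf_le_left inf_le_right
    rw [pow_zero, mul_one] at this
    exact this.symm
  let χ' : A i l →ₐ[k] k :=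
    { χW.toRingHom.comp ρl with
      commutes' := fun a => by
        show χW (ρl (algebraMap k (A i l) a)) = _
        rw [hC, hχW, χ.commutes] }
  refine ⟨χ', fun m => ?_, fun d G => ?_⟩
  · have := congrArg χW (ρ_π_form i (⟨MvPolynomial.X m, LefPen.X_mem r k m⟩ : LefPen.Form r k 1) j l W
      inf_le_left inf_le_right)
    rw [map_mul, pow_one] at this
    rw [← hχW, ← hχW (π i j (MvPolynomial.X l))]
    exact this
  · rw [mem_sq_localization (π i j (MvPolynomial.X l)) χ χW hχW]
    show _ ↔ ρj (π i j G.1) ∈ _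
    rw [ρ_π_form i G j l W inf_le_left inf_le_right]
    refine Iff.trans ?_ (Ideal.mul_unit_mem_iff_mem _
      ((IsLocalization.Away.algebraMap_isUnit (S := Γ(X, W)) (π i j (MvPolynomial.X l))).pow d)).symm
    letI : Algebra (A i l) Γ(X, W) := ρl.toAlgebra
    haveI : IsScalarTower k (A i l) Γ(X, W) := IsScalarTower.of_algebraMap_eq fun a => (hC a).symm
    haveI : IsLocalization.Away (π i l (MvPolynomial.X j)) Γ(X, W) :=
      (isAffineOpen_V i l).isLocalization_of_eq_basicOpen (π i l (MvPolynomial.X j))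
        (homOfLE inf_le_right) ((inf_comm _ _).trans (inf_eq_basicOpen i l j))
    exact mem_sq_localization (π i l (MvPolynomial.X j)) χ' χW (fun _ => rfl) _

/-- The linear forms separate points and tangent vectors. -/
theorem exists_form [IsClosedImmersion i] {d : ℕ} (hd : 1 ≤ d) (j : Fin (r + 1)) (χ : A i j →ₐ[k] k) (z : A i j) :
    ∃ G : LefPen.Form r k d, π i j G.1 - z ∈ RingHom.ker χ ^ 2 := by
  have hlin : ∀ P : MvPolynomial (Fin (r + 1)) k, ∃ L : LefPen.Form r k 1,
      π i j L.1 - π i j P ∈ RingHom.ker χ ^ 2 := by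
    intro P
    induction P using MvPolynomial.induction_on with
    | C a =>
      refine ⟨a • ⟨MvPolynomial.X j, LefPen.X_mem r k j⟩, ?_⟩
      rw [Submodule.coe_smul, smul_eq_C_mul, map_mul, π_X_self, mul_one, sub_self]
      exact zero_mem _
    | add p q hp hq =>
      obtain ⟨L, hL⟩ := hp; obtain ⟨M, hM⟩ := hq
      refine ⟨L + M, ?_⟩
      rw [Submodule.coe_add, map_add, map_add, add_sub_add_comm]
      exact add_mem hL hM
    | mul_X p l hp =>
      obtain ⟨L, hL⟩ := hp
      let a := χ (π i j L.1)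
      let b := χ (π i j (MvPolynomial.X l))
      refine ⟨b • L + a • ⟨MvPolynomial.X l, LefPen.X_mem r k l⟩ - (a * b) • ⟨MvPolynomial.X j, LefPen.X_mem r k j⟩, ?_⟩
      have e : π i j (↑(b • L + a • (⟨MvPolynomial.X l, LefPen.X_mem r k l⟩ : LefPen.Form r k 1) -
          (a * b) • (⟨MvPolynomial.X j, LefPen.X_mem r k j⟩ : LefPen.Form r k 1)) : MvPolynomial (Fin (r + 1)) k) -
          π i j (p * MvPolynomial.X l) =
          -((π i j L.1 - algebraMap k _ a) * (π i j (MvPolynomial.X l) - algebraMap k _ b)) +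
            (π i j L.1 - π i j p) * π i j (MvPolynomial.X l) := by
        simp only [Submodule.coe_sub, Submodule.coe_add, Submodule.coe_smul, smul_eq_C_mul, map_sub, map_add,
          map_mul, π_X_self, π_C]
        ring
      rw [e]
      refine add_mem (neg_mem ?_) (Ideal.mul_mem_right _ _ hL)
      rw [pow_two]
      refine Ideal.mul_mem_mul ?_ ?_ <;> rw [RingHom.mem_ker, map_sub, AlgHom.commutes] <;> exact sub_self _
  obtain ⟨P, rfl⟩ := π_surjective i j z
  obtain ⟨L, hL⟩ := hlin P
  obtain ⟨e, rfl⟩ : ∃ e, d = e + 1 := ⟨d - 1, by omega⟩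
  refine ⟨⟨MvPolynomial.X j ^ e * L.1, (mem_homogeneousSubmodule _ _).2
    ((isHomogeneous_X_pow j e).mul ((mem_homogeneousSubmodule _ _).1 L.2))⟩, ?_⟩
  rw [map_mul, map_pow, π_X_self, one_pow, one_mul]
  exact hL

/-- The hypersurface `H` is tangent to `X` at some rational point. -/
def Singular {d : ℕ} (H : LefPen.Form r k d) : Prop :=
  ∃ (j : Fin (r + 1)) (χ : A i j →ₐ[k] k), π i j H.1 ∈ RingHom.ker χ ^ 2

/-- Transversality in terms of rational points. -/
theorem transversal_iff [IsAlgClosed k] [IsClosedImmersion i] {n : ℕ} (hn : 1 ≤ n)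
    [SmoothOfRelativeDimension n (i ≫ CohB1.ProjSpace.toSpec r k)] {d : ℕ} (H : LefPen.Form r k d) :
    LefPen.Transversal k n 1 (LefPen.secToSpec i ({H} : Set (LefPen.Form r k d))) ↔ ¬ Singular i H := by
  haveI : Smooth (i ≫ CohB1.ProjSpace.toSpec r k) := SmoothOfRelativeDimension.smooth n _
  haveI : ∀ j, Algebra.Smooth k (A i j) := fun j => smooth i j
  haveI : IsZariskiLocalAtSource (@SmoothOfRelativeDimension (n - 1)) :=
    HasRingHomProperty.instIsZariskiLocalAtSource (P := @SmoothOfRelativeDimension (n - 1))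
      (Q := RingHom.Locally (RingHom.IsStandardSmoothOfRelativeDimension (n - 1)))
  set I := LefPen.secIdeal i ({H} : Set (LefPen.Form r k d))
  have key : ∀ j : Fin (r + 1),
      SmoothOfRelativeDimension (n - 1) (I.subschemeCover.f ⟨V i j, isAffineOpen_V i j⟩ ≫
        LefPen.secToSpec i ({H} : Set (LefPen.Form r k d))) ↔
      ∀ χ : A i j →ₐ[k] k, π i j H.1 ∉ RingHom.ker χ ^ 2 := by
    intro j
    let W : X.affineOpens := ⟨V i j, isAffineOpen_V i j⟩
    have e : I.subschemeCover.f W ≫ LefPen.secToSpec i ({H} : Set (LefPen.Form r k d)) =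
        Spec.map (CommRingCat.ofHom ((Ideal.Quotient.mk (I.ideal W)).comp (algebraMap k (A i j)))) := by
      show I.subschemeCover.f W ≫ I.subschemeι ≫ i ≫ CohB1.ProjSpace.toSpec r k = _
      rw [← Category.assoc, I.subschemeCover_map_subschemeι, Scheme.IdealSheafData.glueDataObjι, Category.assoc,
        Category.assoc, IsAffineOpen.isoSpec_inv_ι_assoc]
      erw [fromSpec_toSpec_V i j]
      rw [← Spec.map_comp]
      rfl
    rw [e, HasRingHomProperty.Spec_iff (P := @SmoothOfRelativeDimension (n - 1)), CommRingCat.hom_ofHom]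
    have hI : I.ideal W = Ideal.span {π i j H.1} := by
      rw [π_form]
      exact secIdeal_chart i H j
    rw [hI]
    exact (smooth_iff hn (locally_std i n j) (π i j H.1)).symm
  have hsing : ¬ Singular i H ↔ ∀ j, ∀ χ : A i j →ₐ[k] k, π i j H.1 ∉ RingHom.ker χ ^ 2 := by
    simp [Singular]
  rw [hsing, ← forall_congr' key]
  constructor
  · rintro (⟨-, h⟩ | ⟨h, -⟩)
    · intro j
      exact IsZariskiLocalAtSource.comp (P := @SmoothOfRelativeDimension (n - 1)) h _
    · omega
  · intro h
    refine Or.inl ⟨hn, ?_⟩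
    have hcov : (⨆ j, I.subschemeι ⁻¹ᵁ V i j) = ⊤ := by
      rw [← Scheme.Hom.preimage_iSup, iSup_V, Scheme.Hom.preimage_top]
    rw [IsZariskiLocalAtSource.iff_of_iSup_eq_top (P := @SmoothOfRelativeDimension (n - 1)) _ hcov]
    intro j
    let W : X.affineOpens := ⟨V i j, isAffineOpen_V i j⟩
    let fW := I.subschemeCover.f W
    haveI : IsOpenImmersion fW := I.subschemeCover.map_prop W
    have hr : fW.opensRange = I.subschemeι ⁻¹ᵁ V i j := I.opensRange_subschemeCover_map W
    rw [← hr, ← Scheme.Hom.isoOpensRange_inv_comp, Category.assoc]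
    exact (MorphismProperty.cancel_left_of_respectsIso (@SmoothOfRelativeDimension (n - 1)) _ _).2 (h j)

section Forms

variable [IsAlgClosed k] [IsClosedImmersion i] [Smooth (i ≫ CohB1.ProjSpace.toSpec r k)] {d : ℕ}
  {m : ℕ} (b : Module.Basis (Fin m) k (LefPen.Form r k d))

/-- The family on a chart. -/
def fam (j : Fin (r + 1)) : Fin m → A i j := fun t => π i j (b t).1

omit [IsAlgClosed k] [IsClosedImmersion i] [Smooth (i ≫ CohB1.ProjSpace.toSpec r k)] in
theorem sum_fam (j : Fin (r + 1)) (c : Fin m → k) :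
    ∑ t, c t • fam i b j t = π i j (b.equivFun.symm c).1 := by
  rw [Module.Basis.equivFun_symm_apply, Submodule.coe_sum, map_sum]
  refine Finset.sum_congr rfl fun t _ => ?_
  rw [Submodule.coe_smul, smul_eq_C_mul, map_mul, π_C, Algebra.smul_def]
  rfl

omit [IsAlgClosed k] [IsClosedImmersion i] [Smooth (i ≫ CohB1.ProjSpace.toSpec r k)] in
theorem bad_iff (j : Fin (r + 1)) (χ : A i j →ₐ[k] k) (c : Fin m → k) :
    Bad (fam i b j) χ c ↔ π i j (b.equivFun.symm c).1 ∈ RingHom.ker χ ^ 2 := by
  rw [Bad, sum_fam]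

omit [IsAlgClosed k] [Smooth (i ≫ CohB1.ProjSpace.toSpec r k)] in
theorem jets (hd : 1 ≤ d) (j : Fin (r + 1)) (χ : A i j →ₐ[k] k) (z : A i j) :
    ∃ c : Fin m → k, (∑ t, c t • fam i b j t) - z ∈ RingHom.ker χ ^ 2 := by
  obtain ⟨G, hG⟩ := exists_form i hd j χ z
  exact ⟨b.equivFun G, by rwa [sum_fam, LinearEquiv.symm_apply_apply]⟩

include b in
/-- The singular forms form an irreducible set. -/
theorem singular_irreducible [IrreducibleSpace X] (hd : 1 ≤ d) (G H : MvPolynomial (Fin m) k)
    (h : ∀ F, Singular i F → MvPolynomial.eval (b.equivFun F) G * MvPolynomial.eval (b.equivFun F) H = 0) :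
    (∀ F, Singular i F → MvPolynomial.eval (b.equivFun F) G = 0) ∨
      (∀ F, Singular i F → MvPolynomial.eval (b.equivFun F) H = 0) := by
  haveI : IsIntegral X := isIntegral i
  haveI : ∀ j, Algebra.Smooth k (A i j) := fun j => smooth i j
  have hdom : ∀ j, (V i j : Set X).Nonempty → IsDomain (A i j) := fun j hj => by
    haveI : Nonempty (V i j) := hj.to_subtype
    exact inferInstanceAs (IsDomain Γ(X, V i j))
  have hχne : ∀ j, (A i j →ₐ[k] k) → (V i j : Set X).Nonempty := by
    intro j χ
    by_contra hne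
    have e : X.basicOpen (U := V i j) (1 : Γ(X, V i j)) = ⊥ := le_bot_iff.1
      ((X.basicOpen_le _).trans_eq (Opens.ext (Set.not_nonempty_iff_eq_empty.1 hne)))
    have h1 : (1 : A i j) = 0 := (AlgebraicGeometry.basicOpen_eq_bot_iff (X := X) (U := V i j) _).1 e
    have := congrArg χ h1
    rw [map_one, map_zero] at this
    exact one_ne_zero this
  obtain ⟨j₀, hj₀⟩ : ∃ j, (V i j : Set X).Nonempty := by
    obtain ⟨x⟩ := (inferInstance : Nonempty X)
    obtain ⟨j, hj⟩ := Opens.mem_iSup.1 ((iSup_V i).ge (trivial : x ∈ (⊤ : X.Opens)))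
    exact ⟨j, x, hj⟩
  haveI := hdom j₀ hj₀
  have hloc : ∀ K : MvPolynomial (Fin m) k,
      (∀ (χ : A i j₀ →ₐ[k] k) c, Bad (fam i b j₀) χ c → MvPolynomial.eval c K = 0) →
      ∀ F, Singular i F → MvPolynomial.eval (b.equivFun F) K = 0 := by
    rintro K hK F ⟨l, χ, hχ⟩
    haveI := hdom l (hχne l χ)
    refine vanish_of_open (fam i b l) (jets i b hd l) K (s := π i l (MvPolynomial.X j₀)) ?_ ?_ χ _
      ((bad_iff i b l χ _).2 (by rwa [LinearEquiv.symm_apply_apply]))
    · intro h0
      have hne : ((V i l : Set X) ∩ V i j₀).Nonempty :=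
        nonempty_preirreducible_inter (V i l).2 (V i j₀).2 (hχne l χ) hj₀
      have e := inf_eq_basicOpen i l j₀
      rw [h0] at e
      erw [Scheme.basicOpen_zero] at e
      obtain ⟨x, hx⟩ := hne
      exact (e.le (show x ∈ V i l ⊓ V i j₀ from hx) : x ∈ (⊥ : X.Opens))
    · intro χ' hχ' c hc
      obtain ⟨χ'', -, hiff⟩ := transfer i l j₀ χ' hχ'
      exact hK χ'' c ((bad_iff i b j₀ χ'' c).2 ((hiff d (b.equivFun.symm c)).2 ((bad_iff i b l χ' c).1 hc)))
  refine (vanish_or (fam i b j₀) (jets i b hd j₀) G H fun χ c hc => ?_).imp (hloc G) (hloc H)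
  have := h (b.equivFun.symm c) ⟨j₀, χ, (bad_iff i b j₀ χ c).1 hc⟩
  rwa [LinearEquiv.apply_symm_apply] at this

set_option maxHeartbeats 1000000 in
include b in
/-- The singular forms form a closed set. -/
theorem singular_closed (F₀ : LefPen.Form r k d) (hF₀ : ¬ Singular i F₀) :
    ∃ E : MvPolynomial (Fin m) k, MvPolynomial.eval (b.equivFun F₀) E ≠ 0 ∧
      ∀ F, Singular i F → MvPolynomial.eval (b.equivFun F) E = 0 := by
  classical
  haveI : ∀ j, Algebra.Smooth k (A i j) := fun j => smooth i j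
  let BadC : (Fin (r + 1) → k) → (Fin m → k) → Prop := fun a c =>
    ∃ (j : Fin (r + 1)) (χ : A i j →ₐ[k] k), a j ≠ 0 ∧
      (∀ l, χ (π i j (MvPolynomial.X l)) * a j = a l) ∧ Bad (fam i b j) χ c
  obtain ⟨E, hE0, hE⟩ := elim BadC (fun a c ⟨j, _, hj, _⟩ => Function.ne_iff.2 ⟨j, hj⟩) (b.equivFun F₀) (by
    intro a ha
    obtain ⟨j, hj⟩ : ∃ j, a j ≠ 0 := Function.ne_iff.1 ha
    let a' : Fin (r + 1) → k := fun l => a l / a j
    suffices hP : ∃ P0 : MvPolynomial (Fin (r + 1)) (MvPolynomial (Fin m) k),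
        ev a' (b.equivFun F₀) P0 ≠ 0 ∧ ∀ (χ : A i j →ₐ[k] k) c, Bad (fam i b j) χ c →
          ev (fun l => χ (π i j (MvPolynomial.X l))) c P0 = 0 by
      obtain ⟨P0, hne, hvan⟩ := hP
      let D := P0.totalDegree + 1
      let P : MvPolynomial (Fin (r + 1)) (MvPolynomial (Fin m) k) :=
        ∑ e ∈ P0.support, monomial (e + Finsupp.single j (D - e.degree)) (coeff e P0)
      have hlt : ∀ e ∈ P0.support, e.degree < D := fun e he => by
        refine Nat.lt_succ_of_le ?_
        have := MvPolynomial.le_totalDegree he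
        rwa [Finsupp.degree_apply]
      have hev : ∀ (x : Fin (r + 1) → k) c, ev x c P =
          ∑ e ∈ P0.support, eval c (coeff e P0) * ((∏ l, x l ^ e l) * x j ^ (D - e.degree)) := by
        intro x c
        rw [map_sum]
        refine Finset.sum_congr rfl fun e _ => ?_
        show eval₂ (eval c) x (monomial _ _) = _
        rw [eval₂_monomial, Finsupp.prod_add_index' (fun _ => pow_zero _) (fun _ _ _ => pow_add _ _ _),
          Finsupp.prod_single_index (h := fun l t => x l ^ t) (pow_zero _), Finsupp.prod_pow]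
      have hev0 : ∀ (y : Fin (r + 1) → k) c, ev y c P0 =
          ∑ e ∈ P0.support, eval c (coeff e P0) * ∏ l, y l ^ e l := fun y c => eval₂_eq' _ _ _
      have hscale : ∀ (x y : Fin (r + 1) → k) c, (∀ l, y l * x j = x l) → ev x c P = x j ^ D * ev y c P0 := by
        intro x y c hy
        rw [hev, hev0, Finset.mul_sum]
        refine Finset.sum_congr rfl fun e he => ?_
        have h1 : (∏ l, x l ^ e l) = (∏ l, y l ^ e l) * x j ^ e.degree := by
          rw [Finsupp.degree_eq_sum, ← Finset.prod_pow_eq_pow_sum, ← Finset.prod_mul_distrib]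
          exact Finset.prod_congr rfl fun l _ => by rw [← mul_pow, hy]
        rw [h1, mul_assoc (∏ l, y l ^ e l), ← pow_add, Nat.add_sub_cancel' (hlt e he).le]
        ring
      refine ⟨D, P, IsHomogeneous.sum _ _ _ fun e he => isHomogeneous_monomial _ ?_, ?_, ?_⟩
      · rw [map_add, Finsupp.degree_single]
        exact Nat.add_sub_cancel' (hlt e he).le
      · rw [hscale a a' _ fun l => div_mul_cancel₀ _ hj]
        exact mul_ne_zero (pow_ne_zero _ hj) hne
      · rintro x c ⟨l, χ, hxl, hco, hbad⟩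
        by_cases hxj : x j = 0
        · rw [hev]
          refine Finset.sum_eq_zero fun e he => ?_
          rw [hxj, zero_pow (by have := hlt e he; omega), mul_zero, mul_zero]
        have hlj : χ (π i l (MvPolynomial.X j)) ≠ 0 := fun h0 => hxj (by rw [← hco j, h0, zero_mul])
        obtain ⟨χ', hco', hiff⟩ := transfer i l j χ hlj
        rw [hscale x (fun t => χ' (π i j (MvPolynomial.X t))) c fun t => by
          rw [← hco j, ← mul_assoc, ← hco' t, hco t]]
        rw [hvan χ' c ((bad_iff i b j χ' c).2 ((hiff d (b.equivFun.symm c)).2 ((bad_iff i b l χ c).1 hbad))), mul_zero]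
    by_cases hker : RingHom.ker (π i j) ≤ RingHom.ker (MvPolynomial.eval a')
    · obtain ⟨χ₀, hχ₀⟩ : ∃ χ₀ : A i j →+* k, ∀ P, χ₀ (π i j P) = MvPolynomial.eval a' P :=
        ⟨(π i j).liftOfSurjective (π_surjective i j) ⟨MvPolynomial.eval a', hker⟩,
          fun P => RingHom.liftOfRightInverse_comp_apply _ _ _ _ P⟩
      obtain ⟨χ, hχ⟩ : ∃ χ : A i j →ₐ[k] k, ∀ P, χ (π i j P) = MvPolynomial.eval a' P :=
        ⟨{ χ₀ with commutes' := fun c => (hχ₀ (C c)).trans (MvPolynomial.eval_C c) }, hχ₀⟩
      have hnb : ¬ Bad (fam i b j) χ (b.equivFun F₀) := fun hb => hF₀ ⟨j, χ, by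
        have := (bad_iff i b j χ _).1 hb
        rwa [LinearEquiv.symm_apply_apply] at this⟩
      obtain ⟨Q, hQ0, hQ⟩ := exists_sep (fam i b j) χ _ hnb
      choose F hF using fun e => π_surjective i j (coeff e Q)
      let P0 : MvPolynomial (Fin (r + 1)) (MvPolynomial (Fin m) k) :=
        ∑ e ∈ Q.support, C (monomial e 1) * MvPolynomial.map MvPolynomial.C (F e)
      have hP0 : ∀ (χ' : A i j →ₐ[k] k) c,
          ev (fun l => χ' (π i j (MvPolynomial.X l))) c P0 = MvPolynomial.eval₂ χ'.toRingHom c Q := by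
        intro χ' c
        rw [MvPolynomial.eval₂_eq', map_sum]
        refine Finset.sum_congr rfl fun e _ => ?_
        have h1 : ∀ G : MvPolynomial (Fin (r + 1)) k,
            eval₂ (eval c) (fun l => χ' (π i j (MvPolynomial.X l))) (MvPolynomial.map C G) = χ' (π i j G) := by
          intro G
          induction G using MvPolynomial.induction_on with
          | C a => rw [map_C, eval₂_C, eval_C, π_C, AlgHom.commutes]; rfl
          | add p q hp hq => rw [map_add, eval₂_add, hp, hq, map_add, map_add]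
          | mul_X p l hp => rw [map_mul, map_X, eval₂_mul, eval₂_X, hp, map_mul, map_mul]
        rw [map_mul]
        show eval₂ (eval c) _ (C (monomial e 1)) * eval₂ (eval c) _ (MvPolynomial.map C (F e)) = _
        rw [h1, hF, eval₂_C, eval_monomial, one_mul, Finsupp.prod_pow, mul_comm]
        rfl
      refine ⟨P0, ?_, fun χ' c hb => (hP0 χ' c).trans (hQ χ' c hb)⟩
      have ea : (fun l => χ (π i j (MvPolynomial.X l))) = a' := funext fun l => by
        rw [hχ, MvPolynomial.eval_X]
      rw [← ea, hP0]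
      exact hQ0
    · obtain ⟨F, hF, hF'⟩ := SetLike.not_le_iff_exists.1 hker
      refine ⟨MvPolynomial.map MvPolynomial.C F, ?_, fun χ c _ => ?_⟩
      · rw [ev_apply, MvPolynomial.map_map, show (eval (b.equivFun F₀)).comp C = RingHom.id k from
          RingHom.ext fun a => eval_C a, MvPolynomial.map_id]
        exact hF'
      · rw [ev_apply, MvPolynomial.map_map, show (eval c).comp C = RingHom.id k from RingHom.ext fun a => eval_C a,
          MvPolynomial.map_id]
        show MvPolynomial.eval _ F = 0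
        have h2 : MvPolynomial.eval (fun l => χ (π i j (MvPolynomial.X l))) F = χ (π i j F) := by
          have : (MvPolynomial.eval (fun l => χ (π i j (MvPolynomial.X l)))) = χ.toRingHom.comp (π i j) :=
            MvPolynomial.ringHom_ext (fun a => by simp [π_C]) (fun l => by simp)
          rw [this]
          rfl
        rw [h2, RingHom.mem_ker.1 hF, map_zero])
  refine ⟨E, hE0, fun F ⟨j, χ, hχ⟩ => hE (fun l => χ (π i j (MvPolynomial.X l))) _ ⟨j, χ, ?_, fun l => ?_, ?_⟩⟩
  · show χ (π i j (MvPolynomial.X j)) ≠ 0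
    rw [π_X_self, map_one]
    exact one_ne_zero
  · simp only [π_X_self, map_one, mul_one]
  · rw [bad_iff, LinearEquiv.symm_apply_apply]
    exact hχ

end Forms

end Groth.Agent.LefPen13
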