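import Groth.Agent.Lib.LefPen13.SecPoint
import Groth.Agent.Lib.ProjSpace.Basic
import Groth.Agent.Lib.RegExt.P1

/-! # Non-degenerate quadrics -/

set_option autoImplicit false
set_option linter.style.haveILetI false
set_option backward.isDefEq.respectTransparency false
set_option backward.isDefEq.respectTransparency.types false

universe u

open CategoryTheory CategoryTheory.Limits AlgebraicGeometry TopologicalSpace MvPolynomial

noncomputable section

namespace Groth.Agent.LefPen13

/-- First-order expansion on a chart. -/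
theorem π_taylor {k : Type u} [Field k] {r : ℕ} {X : Scheme.{u}} (i : X ⟶ CohB1.ProjSpace r k) (j : Fin (r + 1))
    (χ : A i j →ₐ[k] k) (P : MvPolynomial (Fin (r + 1)) k) :
    π i j P - algebraMap k (A i j) (MvPolynomial.eval (coords i j χ) P) -
      ∑ l, algebraMap k (A i j) (MvPolynomial.eval (coords i j χ) (pderiv l P)) *
        (π i j (MvPolynomial.X l) - algebraMap k (A i j) (coords i j χ l)) ∈ RingHom.ker χ ^ 2 := by
  classical
  induction P using MvPolynomial.induction_on with
  | C a => simp [π_C]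
  | add p q hp hq =>
    simp only [map_add, add_mul, Finset.sum_add_distrib]
    convert add_mem hp hq using 1
    ring
  | mul_X p s hp =>
    have h1 : π i j (MvPolynomial.X s) - algebraMap k (A i j) (coords i j χ s) ∈ RingHom.ker χ := by
      rw [RingHom.mem_ker, map_sub, AlgHom.commutes]
      exact sub_self _
    have h2 : π i j p - algebraMap k (A i j) (MvPolynomial.eval (coords i j χ) p) ∈ RingHom.ker χ := by
      rw [RingHom.mem_ker, map_sub, AlgHom.commutes, χ_π]
      exact sub_self _
    have key : π i j (p * MvPolynomial.X s) - algebraMap k (A i j) (MvPolynomial.eval (coords i j χ) (p * MvPolynomial.X s)) -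
        ∑ l, algebraMap k (A i j) (MvPolynomial.eval (coords i j χ) (pderiv l (p * MvPolynomial.X s))) *
          (π i j (MvPolynomial.X l) - algebraMap k (A i j) (coords i j χ l)) =
        algebraMap k (A i j) (coords i j χ s) * (π i j p - algebraMap k (A i j) (MvPolynomial.eval (coords i j χ) p) -
          ∑ l, algebraMap k (A i j) (MvPolynomial.eval (coords i j χ) (pderiv l p)) *
            (π i j (MvPolynomial.X l) - algebraMap k (A i j) (coords i j χ l))) +
          (π i j p - algebraMap k (A i j) (MvPolynomial.eval (coords i j χ) p)) *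
            (π i j (MvPolynomial.X s) - algebraMap k (A i j) (coords i j χ s)) := by
      have e : ∀ l, MvPolynomial.eval (coords i j χ) (pderiv l (p * MvPolynomial.X s)) =
          MvPolynomial.eval (coords i j χ) (pderiv l p) * coords i j χ s +
            MvPolynomial.eval (coords i j χ) p * if s = l then 1 else 0 := fun l => by
        rw [pderiv_mul, map_add, map_mul, map_mul, eval_X, pderiv_X, Pi.single_apply]
        split <;> simp_all
      simp only [e, map_add, map_mul, add_mul, Finset.sum_add_distrib, eval_X]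
      rw [Finset.sum_eq_single s (f := fun l => algebraMap k (A i j) (MvPolynomial.eval (coords i j χ) p) *
        algebraMap k (A i j) (if s = l then 1 else 0) * _) (fun b _ hb => by simp [Ne.symm hb]) (by simp)]
      rw [if_pos rfl, map_one, mul_sub, mul_sub, Finset.mul_sum]
      have es : ∀ l, algebraMap k (A i j) (MvPolynomial.eval (coords i j χ) (pderiv l p)) * algebraMap k (A i j) (coords i j χ s) *
          (π i j (MvPolynomial.X l) - algebraMap k (A i j) (coords i j χ l)) =
          algebraMap k (A i j) (coords i j χ s) * (algebraMap k (A i j) (MvPolynomial.eval (coords i j χ) (pderiv l p)) *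
          (π i j (MvPolynomial.X l) - algebraMap k (A i j) (coords i j χ l))) := fun l => by ring
      simp only [es]
      ring
    rw [key]
    refine add_mem (Ideal.mul_mem_left _ _ hp) ?_
    rw [pow_two]
    exact Ideal.mul_mem_mul h2 h1

theorem sum_pderiv {k : Type u} [Field k] {σ : Type*} [Fintype σ] {P : MvPolynomial σ k} {d : ℕ}
    (hP : P.IsHomogeneous d) (v : σ → k) :
    ∑ l, v l * MvPolynomial.eval v (pderiv l P) = (d : k) * MvPolynomial.eval v P := by
  have h := congrArg (MvPolynomial.eval v) hP.sum_X_mul_pderiv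
  simpa using h

theorem eval_pderiv_of_mem_sq {k : Type u} [Field k] {σ : Type*} (v : σ → k) (l : σ) {P : MvPolynomial σ k}
    (hP : P ∈ RingHom.ker (MvPolynomial.eval v) ^ 2) : MvPolynomial.eval v (pderiv l P) = 0 := by
  rw [pow_two] at hP
  induction hP using Submodule.mul_induction_on' with
  | mem_mul_mem a ha b hb =>
    rw [pderiv_mul, map_add, map_mul, map_mul, RingHom.mem_ker.1 ha, RingHom.mem_ker.1 hb]
    ring
  | add a _ b _ ha hb => rw [map_add, map_add, ha, hb, add_zero]

variable {k : Type u} [Field k] [IsAlgClosed k] {m : ℕ}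

omit [IsAlgClosed k] in
theorem mem_span_of_dehom (j : Fin (m + 1)) (P : MvPolynomial (Fin (m + 1)) k) :
    P - rename Subtype.val (ProjSpace.dehom k j P) ∈
      Ideal.span {(MvPolynomial.X j - 1 : MvPolynomial (Fin (m + 1)) k)} := by
  induction P using MvPolynomial.induction_on with
  | C a => simp
  | add p q hp hq =>
    simp only [map_add]
    convert add_mem hp hq using 1
    ring
  | mul_X p s hp =>
    rw [map_mul, map_mul]
    have hs : (MvPolynomial.X s : MvPolynomial (Fin (m + 1)) k) - rename Subtype.val (ProjSpace.dehom k j (MvPolynomial.X s)) ∈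
        Ideal.span {(MvPolynomial.X j - 1 : MvPolynomial (Fin (m + 1)) k)} := by
      by_cases h : s = j
      · subst h
        rw [ProjSpace.dehom_X_self, map_one]
        exact Ideal.mem_span_singleton_self _
      · rw [show ProjSpace.dehom k j (MvPolynomial.X s) = MvPolynomial.X ⟨s, h⟩ from ProjSpace.dehom_X k j ⟨s, h⟩, rename_X,
          sub_self]
        exact zero_mem _
    convert add_mem (Ideal.mul_mem_right (MvPolynomial.X s) _ hp)
      (Ideal.mul_mem_left _ (rename Subtype.val (ProjSpace.dehom k j p)) hs) using 1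
    ring

omit [IsAlgClosed k] in
theorem dh_injective (j : Fin (m + 1)) {P : MvPolynomial (Fin (m + 1)) k} (h : dh k m j P = 0) :
    P ∈ Ideal.span {(MvPolynomial.X j - 1 : MvPolynomial (Fin (m + 1)) k)} := by
  have h2 : Function.Injective (Bertini13.coordV k m j) := by
    have h1 : Function.Injective (Proj.awayToSection (CohB1.polyGrading m k) (MvPolynomial.X j)).hom :=
      ((ConcreteCategory.isIso_iff_bijective
        (Proj.basicOpenIsoAway (CohB1.polyGrading m k) (MvPolynomial.X j) (ProjSpace.X_mem' m k j) Nat.one_pos).hom).1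
          inferInstance).injective
    exact h1.comp (ProjSpace.toAway_bijective k j).injective
  have h3 : ProjSpace.dehom k j P = 0 := h2 (h.trans (map_zero _).symm)
  have := mem_span_of_dehom j P
  rwa [h3, map_zero, sub_zero] at this

omit [IsAlgClosed k] in
theorem π_id (j : Fin (m + 1)) (P : MvPolynomial (Fin (m + 1)) k) :
    π (𝟙 (CohB1.ProjSpace m k)) j P = (dh k m j P : A (𝟙 (CohB1.ProjSpace m k)) j) := rfl

omit [IsAlgClosed k] in
theorem exists_pt_id (j : Fin (m + 1)) (v : Fin (m + 1) → k) (hv : v j = 1) :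
    ∃ χ : A (𝟙 (CohB1.ProjSpace m k)) j →ₐ[k] k, coords (𝟙 (CohB1.ProjSpace m k)) j χ = v := by
  let p := π (𝟙 (CohB1.ProjSpace m k)) j
  have hker : RingHom.ker p ≤ RingHom.ker (MvPolynomial.eval v) := fun P hP => by
    obtain ⟨c, rfl⟩ := Ideal.mem_span_singleton'.1 (dh_injective j ((π_id j P).symm.trans hP))
    simp [RingHom.mem_ker, hv]
  have hp : Function.Surjective p := π_surjective _ j
  let χ₀ := p.liftOfSurjective hp ⟨MvPolynomial.eval v, hker⟩
  have hχ : ∀ P, χ₀ (p P) = MvPolynomial.eval v P := fun P => RingHom.liftOfRightInverse_comp_apply _ _ _ _ P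
  exact ⟨{ χ₀ with commutes' := fun c => (hχ (MvPolynomial.C c)).trans (MvPolynomial.eval_C c) },
    funext fun l => (hχ _).trans (MvPolynomial.eval_X l)⟩

omit [IsAlgClosed k] in
theorem singular_id_iff (Q : LefPen.Form m k 2) :
    Singular (𝟙 (CohB1.ProjSpace m k)) Q ↔
      ∃ v : Fin (m + 1) → k, v ≠ 0 ∧ MvPolynomial.eval v Q.1 = 0 ∧ ∀ l, MvPolynomial.eval v (pderiv l Q.1) = 0 := by
  classical
  have hQ := (mem_homogeneousSubmodule _ _).1 Q.2
  constructor
  · rintro ⟨j, χ, hχ⟩
    set v := coords (𝟙 (CohB1.ProjSpace m k)) j χ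
    have hvj : v j = 1 := coords_self _ j χ
    have h0 : MvPolynomial.eval v Q.1 = 0 := by
      rw [← χ_π]
      exact RingHom.mem_ker.1 (Ideal.pow_le_self two_ne_zero hχ)
    have hl : ∀ l, l ≠ j → MvPolynomial.eval v (pderiv l Q.1) = 0 := by
      intro l hl
      let p := π (𝟙 (CohB1.ProjSpace m k)) j
      have hp : Function.Surjective p := π_surjective _ j
      have hmap : (RingHom.ker (MvPolynomial.eval v)).map p = RingHom.ker χ := by
        ext a
        obtain ⟨P, rfl⟩ := hp a
        rw [Ideal.mem_map_iff_of_surjective p hp, RingHom.mem_ker, show χ (p P) = MvPolynomial.eval v P from χ_π _ j χ P]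
        refine ⟨fun ⟨P', hP', e⟩ => ?_, fun h => ⟨P, RingHom.mem_ker.2 h, rfl⟩⟩
        rw [← χ_π, ← show p P' = p P from e]
        exact (χ_π _ j χ P').trans (RingHom.mem_ker.1 hP')
      rw [← hmap, ← Ideal.map_pow, Ideal.mem_map_iff_of_surjective p hp] at hχ
      obtain ⟨P, hP, hPQ⟩ := hχ
      obtain ⟨c, hc⟩ := Ideal.mem_span_singleton'.1 (dh_injective (P := Q.1 - P) j (by
        rw [← π_id, map_sub, sub_eq_zero]; exact hPQ.symm))
      rw [show Q.1 = P + c * (MvPolynomial.X j - 1) by rw [hc]; ring]
      have hd : MvPolynomial.eval v (pderiv l P) = 0 := eval_pderiv_of_mem_sq v l hP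
      rw [map_add, map_add, hd, pderiv_mul, map_sub, pderiv_one, pderiv_X_of_ne hl.symm]
      simp [hvj]
    refine ⟨v, fun e => by simp [e] at hvj, h0, fun l => ?_⟩
    by_cases h : l = j
    · subst h
      have := sum_pderiv hQ v
      rw [h0, mul_zero, Finset.sum_eq_single l (fun b _ hb => by rw [hl b hb, mul_zero]) (by simp), hvj, one_mul] at this
      exact this
    · exact hl l h
  · rintro ⟨v, hv, h0, hd⟩
    obtain ⟨j, hj⟩ := Function.ne_iff.1 hv
    obtain ⟨χ, hχ⟩ := exists_pt_id j (fun l => (v j)⁻¹ * v l) (inv_mul_cancel₀ hj)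
    refine ⟨j, χ, ?_⟩
    have h1 := π_taylor (𝟙 (CohB1.ProjSpace m k)) j χ Q.1
    have h0' : MvPolynomial.eval (coords (𝟙 (CohB1.ProjSpace m k)) j χ) Q.1 = 0 := by
      rw [hχ, eval_smul_vec hQ, h0, mul_zero]
    have hd' : ∀ l, MvPolynomial.eval (coords (𝟙 (CohB1.ProjSpace m k)) j χ) (pderiv l Q.1) = 0 := fun l => by
      rw [hχ, eval_smul_vec (hQ.pderiv), hd, mul_zero]
    simpa [h0', hd'] using h1

omit [IsAlgClosed k] in
theorem smoothOfRelativeDimension_id :
    SmoothOfRelativeDimension m (𝟙 (CohB1.ProjSpace m k) ≫ CohB1.ProjSpace.toSpec m k) := by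
  rw [Category.id_comp]
  exact ProjSpace.smoothOfRelativeDimension_toSpec (n := m) (R := k)

omit [IsAlgClosed k] in
theorem smooth_congr {Y S : Scheme.{u}} {I J : Y.IdealSheafData} (e : I = J) (g : Y ⟶ S) :
    Smooth (I.subschemeι ≫ g) ↔ Smooth (J.subschemeι ≫ g) := by subst e; rfl

omit [IsAlgClosed k] in
theorem secIdeal_id (Q : LefPen.Form m k 2) :
    LefPen.secIdeal (𝟙 (CohB1.ProjSpace m k)) ({Q} : Set (LefPen.Form m k 2)) = LefPen.hypIdeal Q := by
  rw [LefPen.secIdeal, iSup_singleton]
  exact Scheme.IdealSheafData.comap_id _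

/-- The two notions of non-degeneracy agree. -/
theorem nondegQuad_iff (Q : LefPen.Form m k 2) : LefPen.NondegQuad k Q ↔ Nondeg Q.1 := by
  classical
  have hQ := (mem_homogeneousSubmodule _ _).1 Q.2
  have hnd : Nondeg Q.1 ↔ ¬ Singular (𝟙 (CohB1.ProjSpace m k)) Q := by
    rw [singular_id_iff, Nondeg]
    push Not
    rfl
  cases m with
  | zero =>
    constructor
    · rintro ⟨h0, -⟩ v hv e
      exfalso
      apply h0
      refine MvPolynomial.funext fun w => ?_
      have hw : w = fun l => (w 0 / v 0) * v l := funext fun l => by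
        rw [Fin.eq_zero l, div_mul_cancel₀]
        exact fun e0 => hv (funext fun l => by rw [Fin.eq_zero l, e0]; rfl)
      rw [hw, eval_smul_vec hQ, e, mul_zero, map_zero]
    · exact fun h => ⟨h.ne_zero le_rfl, Or.inl rfl⟩
  | succ m =>
    haveI := smoothOfRelativeDimension_id (k := k) (m := m + 1)
    haveI : Smooth (𝟙 (CohB1.ProjSpace (m + 1) k) ≫ CohB1.ProjSpace.toSpec (m + 1) k) :=
      SmoothOfRelativeDimension.smooth (m + 1) _
    haveI : IrreducibleSpace ↥(CohB1.ProjSpace (m + 1) k) := by
      haveI := RegExt.isIntegral_projSpace (m + 1) k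
      infer_instance
    have ht := transversal_iff (𝟙 (CohB1.ProjSpace (m + 1) k)) (n := m + 1) (Nat.le_add_left 1 m) Q
    constructor
    · rintro ⟨h0, hs⟩
      rw [hnd]
      rintro ⟨j, χ, hχ⟩
      have hs' : Smooth ((LefPen.hypIdeal Q).subschemeι ≫ CohB1.ProjSpace.toSpec (m + 1) k) := hs.resolve_left (Nat.succ_ne_zero m)
      have e0 : π (𝟙 (CohB1.ProjSpace (m + 1) k)) j Q.1 ≠ 0 := by
        intro e
        apply h0
        obtain ⟨c, hc⟩ := Ideal.mem_span_singleton'.1 (dh_injective j ((π_id j Q.1).symm.trans e))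
        refine (mul_eq_zero.1 (MvPolynomial.funext fun w => ?_ : Q.1 * MvPolynomial.X j = 0)).resolve_right
          (MvPolynomial.X_ne_zero j)
        rw [map_mul, eval_X, map_zero]
        by_cases hw : w j = 0
        · rw [hw, mul_zero]
        have : MvPolynomial.eval (fun l => (w j)⁻¹ * w l) Q.1 = 0 := by
          rw [← hc]; simp [inv_mul_cancel₀ hw]
        rw [eval_smul_vec hQ] at this
        rw [(mul_eq_zero.1 this).resolve_left (pow_ne_zero _ (inv_ne_zero hw)), zero_mul]
      have key : ∀ y, LefPen.SmoothAt (LefPen.secToSpec (𝟙 (CohB1.ProjSpace (m + 1) k)) ({Q} : Set (LefPen.Form (m + 1) k 2))) y := by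
        have : Smooth (LefPen.secToSpec (𝟙 (CohB1.ProjSpace (m + 1) k)) ({Q} : Set (LefPen.Form (m + 1) k 2))) := by
          show Smooth (LefPen.secι _ _ ≫ 𝟙 _ ≫ _)
          rw [Category.id_comp, LefPen.secι]
          exact (smooth_congr (secIdeal_id Q) _).2 hs'
        intro y
        obtain ⟨j', hj'⟩ := Opens.mem_iSup.1 ((iSup_V (𝟙 (CohB1.ProjSpace (m + 1) k))).ge (trivial : LefPen.secι (𝟙 (CohB1.ProjSpace (m + 1) k)) ({Q} : Set (LefPen.Form (m + 1) k 2)) y ∈ (⊤ : (CohB1.ProjSpace (m + 1) k).Opens)))
        obtain ⟨q, rfl⟩ : y ∈ Set.range (secChart (𝟙 (CohB1.ProjSpace (m + 1) k)) Q j') := by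
          rw [range_secChart]; exact hj'
        rw [smoothAt_iff _ _ (secChart_toSpec _ Q j')]
        have hcs : Smooth (secChart (𝟙 (CohB1.ProjSpace (m + 1) k)) Q j' ≫
            LefPen.secToSpec (𝟙 (CohB1.ProjSpace (m + 1) k)) ({Q} : Set (LefPen.Form (m + 1) k 2))) := inferInstance
        rw [secChart_toSpec, HasRingHomProperty.Spec_iff (P := @Smooth), CommRingCat.hom_ofHom,
          RingHom.smooth_algebraMap] at hcs
        exact Algebra.smoothLocus_eq_univ.ge (Set.mem_univ q)
      have := (smoothAt_secP_iff (𝟙 (CohB1.ProjSpace (m + 1) k)) Q j χ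
        (RingHom.mem_ker.1 (Ideal.pow_le_self two_ne_zero hχ))).1 (key _)
      exact (this.resolve_left e0) hχ
    · intro h
      refine ⟨h.ne_zero (Nat.le_add_left 1 _), Or.inr ?_⟩
      rcases ht.2 (hnd.1 h) with ⟨-, hsm⟩ | ⟨hlt, -⟩
      · have := @SmoothOfRelativeDimension.smooth _ _ _ (LefPen.secToSpec (𝟙 (CohB1.ProjSpace (m + 1) k)) ({Q} : Set (LefPen.Form (m + 1) k 2))) hsm
        rw [LefPen.secToSpec, Category.id_comp, LefPen.secι] at this
        exact (smooth_congr (secIdeal_id Q) _).1 this
      · omega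

end Groth.Agent.LefPen13
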