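import Groth.Agent.Lib.BertiniJets13.Chart

/-! # The singular members of a family separating tangent vectors -/

set_option autoImplicit false
set_option linter.style.haveILetI false
universe u

open KaehlerDifferential TensorProduct

noncomputable section

namespace Groth.Agent.LefPen13

variable {k : Type u} [Field k] {A : Type u} [CommRing A] [Algebra k A]

/-- The member `c` of the family is singular at the point `χ`. -/
def Bad {m : ℕ} (g : Fin m → A) (χ : A →ₐ[k] k) (c : Fin m → k) : Prop :=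
  ∑ i, c i • g i ∈ RingHom.ker χ ^ 2

/-- In a formally smooth algebra, a function lies in the square of a rational maximal ideal iff its value and
partial derivatives vanish there. -/
theorem mem_sq_iff {B : Type u} [CommRing B] [Algebra k B] [Algebra.FormallySmooth k B] {κ : Type} [Fintype κ]
    (b : Module.Basis κ B Ω[B⁄k]) (χ : B →ₐ[k] k) (z : B) :
    z ∈ RingHom.ker χ ^ 2 ↔ ∀ o, χ (BertiniJets13.row b z o) = 0 := by
  refine ⟨fun h o => BertiniJets13.row_mem_of_mem_sq b (RingHom.ker χ) h o, fun h => ?_⟩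
  letI := χ.toRingHom.toAlgebra
  haveI : IsScalarTower k B k := IsScalarTower.of_algebraMap_eq fun a => (χ.commutes a).symm
  have hs : Function.Surjective (algebraMap B k) := fun a => ⟨algebraMap k B a, χ.commutes a⟩
  haveI : Algebra.FormallySmooth k k := inferInstance
  obtain ⟨l, hl⟩ := (Algebra.FormallySmooth.iff_split_injection (R := k) (P := B) (A := k) hs).1 inferInstance
  have hz : z ∈ RingHom.ker (algebraMap B k) := h none
  have h0 : kerCotangentToTensor k B k (Ideal.toCotangent _ ⟨z, hz⟩) = 0 := by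
    rw [kerCotangentToTensor_toCotangent]
    show (1 : k) ⊗ₜ[B] D k B z = 0
    rw [← b.sum_repr (D k B z), TensorProduct.tmul_sum]
    refine Finset.sum_eq_zero fun o _ => ?_
    rw [TensorProduct.tmul_smul, TensorProduct.smul_tmul', Algebra.smul_def, mul_one]
    show χ (BertiniJets13.row b z (some o)) ⊗ₜ[B] _ = 0
    rw [h, TensorProduct.zero_tmul]
  have h1 := LinearMap.congr_fun hl (Ideal.toCotangent _ ⟨z, hz⟩)
  rw [LinearMap.comp_apply, h0, map_zero, LinearMap.id_apply, eq_comm, Ideal.toCotangent_eq_zero] at h1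
  exact h1

/-- Squares of the ideals of rational points are compatible with localisation. -/
theorem mem_sq_localization {R S : Type u} [CommRing R] [CommRing S] [Algebra k R] [Algebra k S] [Algebra R S]
    [IsScalarTower k R S] (s : R) [IsLocalization.Away s S] (χ : R →ₐ[k] k) (χS : S →ₐ[k] k)
    (hc : ∀ a, χS (algebraMap R S a) = χ a) (a : R) :
    a ∈ RingHom.ker χ ^ 2 ↔ algebraMap R S a ∈ RingHom.ker χS ^ 2 := by
  have hs : χ s ≠ 0 := by
    rw [← hc]
    exact ((IsLocalization.Away.algebraMap_isUnit s).map χS).ne_zero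
  constructor
  · intro h
    have h2 := Ideal.mem_map_of_mem (algebraMap R S) h
    rw [Ideal.map_pow] at h2
    refine Ideal.pow_right_mono (Ideal.map_le_iff_le_comap.2 fun a ha => ?_) 2 h2
    show χS (algebraMap R S a) = 0
    rw [hc]
    exact ha
  · intro h
    have hle : RingHom.ker χS ≤ (RingHom.ker χ).map (algebraMap R S) := by
      intro w hw
      obtain ⟨⟨a, ⟨t, ht⟩⟩, hwa⟩ := IsLocalization.surj (Submonoid.powers s) w
      have hu : IsUnit (algebraMap R S t) := IsLocalization.map_units S (⟨t, ht⟩ : Submonoid.powers s)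
      refine (Ideal.mul_unit_mem_iff_mem _ hu).1 ?_
      rw [show w * algebraMap R S t = algebraMap R S a from hwa]
      refine Ideal.mem_map_of_mem _ ?_
      show χ a = 0
      rw [← hc, ← show w * algebraMap R S t = algebraMap R S a from hwa, map_mul,
        show χS w = 0 from hw, zero_mul]
    have h2 := Ideal.pow_right_mono hle 2 h
    rw [← Ideal.map_pow, IsLocalization.algebraMap_mem_map_algebraMap_iff (Submonoid.powers s)] at h2
    obtain ⟨_, ⟨e, rfl⟩, hse⟩ := h2
    have hsM : s ^ e ∉ RingHom.ker χ := by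
      rw [RingHom.mem_ker, map_pow]
      exact pow_ne_zero _ hs
    haveI : (RingHom.ker χ).IsMaximal := RingHom.ker_isMaximal_of_surjective χ.toRingHom
      fun a => ⟨algebraMap k R a, χ.commutes a⟩
    have htop : Ideal.span {s ^ e} ⊔ RingHom.ker χ ^ 2 = ⊤ := Ideal.sup_pow_eq_top
      ((‹(RingHom.ker χ).IsMaximal›).1.2 _ (by rw [right_lt_sup, Ideal.span_singleton_le_iff_mem]; exact hsM))
    obtain ⟨r', hr', t, ht, hrt⟩ := Submodule.mem_sup.1 ((Ideal.eq_top_iff_one _).1 htop)
    obtain ⟨r, rfl⟩ := Ideal.mem_span_singleton'.1 hr'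
    rw [← one_mul a, ← hrt, add_mul, mul_assoc]
    exact add_mem (Ideal.mul_mem_left _ _ hse) (Ideal.mul_mem_right _ _ ht)

/-- A chart with a basis of differentials. -/
structure Piece (k : Type u) [Field k] (A : Type u) [CommRing A] [Algebra k A] where
  f : A
  κ : Type
  [fκ : Fintype κ]
  b : Module.Basis κ (Localization.Away f) Ω[Localization.Away f⁄k]
  y : κ → A
  hb : ∀ l, b l = D k (Localization.Away f) (algebraMap A (Localization.Away f) (y l))

attribute [instance] Piece.fκ

theorem exists_piece [Algebra.Smooth k A] (p : Ideal A) [p.IsPrime] : ∃ P : Piece k A, P.f ∉ p := by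
  obtain ⟨n, φ, hφ⟩ := Algebra.FiniteType.iff_quotient_mvPolynomial''.1 (inferInstance : Algebra.FiniteType k A)
  let x : Fin n → A := fun i => φ (MvPolynomial.X i)
  have hx : Function.Surjective (MvPolynomial.aeval x : MvPolynomial (Fin n) k →ₐ[k] A) := by
    rwa [show (MvPolynomial.aeval x : MvPolynomial (Fin n) k →ₐ[k] A) = φ from MvPolynomial.algHom_ext (by simp [x])]
  haveI : Algebra.IsSmoothAt k p :=
    Algebra.smoothLocus_eq_univ.symm.subset (Set.mem_univ (⟨p, inferInstance⟩ : PrimeSpectrum A))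
  obtain ⟨f, hf, κ, _, a, b, hb⟩ := BertiniAff5.exists_chart x hx p
  exact ⟨⟨f, κ, b, fun l => x (a l), hb⟩, hf⟩

namespace Piece

variable (P : Piece k A) {m : ℕ} (g : Fin m → A)

/-- The local ring of functions. -/
abbrev B : Type u := Localization.Away P.f

/-- The extension of a point. -/
def pt (χ : A →ₐ[k] k) (hχ : χ P.f ≠ 0) : P.B →ₐ[k] k :=
  { IsLocalization.Away.lift P.f (g := χ.toRingHom) (isUnit_iff_ne_zero.2 hχ) with
    commutes' := fun a => by
      show IsLocalization.Away.lift P.f (g := χ.toRingHom) (isUnit_iff_ne_zero.2 hχ) (algebraMap k P.B a) = _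
      rw [IsScalarTower.algebraMap_apply k A P.B]
      refine (IsLocalization.Away.lift_eq P.f (g := χ.toRingHom) (isUnit_iff_ne_zero.2 hχ) _).trans ?_
      exact χ.commutes a }

theorem pt_algebraMap (χ : A →ₐ[k] k) (hχ : χ P.f ≠ 0) (a : A) : P.pt χ hχ (algebraMap A P.B a) = χ a :=
  IsLocalization.Away.lift_eq P.f (g := χ.toRingHom) (isUnit_iff_ne_zero.2 hχ) a

theorem bad_iff [Algebra.Smooth k A] (χ : A →ₐ[k] k) (hχ : χ P.f ≠ 0) (c : Fin m → k) :
    Bad g χ c ↔ ∀ o, ∑ i, c i * P.pt χ hχ (BertiniJets13.row P.b (algebraMap A P.B (g i)) o) = 0 := by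
  haveI : Algebra.Smooth A P.B := inferInstance
  haveI : Algebra.Smooth k P.B := Algebra.Smooth.comp k A P.B
  have hmap : algebraMap A P.B (∑ i, c i • g i) = ∑ i, c i • algebraMap A P.B (g i) := by
    rw [map_sum]
    exact Finset.sum_congr rfl fun i _ => by rw [← IsScalarTower.coe_toAlgHom' k A P.B, map_smul]
  have h1 : Bad g χ c ↔ algebraMap A P.B (∑ i, c i • g i) ∈ RingHom.ker (P.pt χ hχ) ^ 2 :=
    mem_sq_localization P.f χ (P.pt χ hχ) (P.pt_algebraMap χ hχ) _
  rw [h1, mem_sq_iff P.b]
  refine forall_congr' fun o => ?_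
  rw [hmap, map_sum, Finset.sum_apply, map_sum]
  simp only [map_smul, Pi.smul_apply, smul_eq_mul]

variable [IsAlgClosed k] [Algebra.Smooth k A]

omit g in
theorem exists_section {m : ℕ} (g : Fin m → A)
    (hjet : ∀ χ : A →ₐ[k] k, ∀ z : A, ∃ c : Fin m → k, (∑ i, c i • g i) - z ∈ RingHom.ker χ ^ 2) :
    ∃ σ : (Option P.κ → P.B) →ₗ[P.B] (Fin m → P.B),
      ∀ v, BertiniJets13.jac P.b (fun i => algebraMap A P.B (g i)) (σ v) = v := by
  haveI : Algebra.Smooth A P.B := inferInstance
  haveI : Algebra.Smooth k P.B := Algebra.Smooth.comp k A P.B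
  have hs := BertiniJets13.jac_surjective P.b (fun l => algebraMap A P.B (P.y l)) P.hb
    (fun i => algebraMap A P.B (g i)) (fun N hN z => by
      haveI := hN
      letI : Field (P.B ⧸ N) := Ideal.Quotient.field N
      haveI : Module.Finite k (P.B ⧸ N) := finite_of_finite_type_of_isJacobsonRing k (P.B ⧸ N)
      haveI : Algebra.IsIntegral k (P.B ⧸ N) := Algebra.IsIntegral.of_finite k _
      let e := (AlgEquiv.ofBijective (Algebra.ofId k (P.B ⧸ N))
        (IsAlgClosed.algebraMap_bijective_of_isIntegral (k := k) (K := P.B ⧸ N)))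
      let χB : P.B →ₐ[k] k := e.symm.toAlgHom.comp (Ideal.Quotient.mkₐ k N)
      let χ : A →ₐ[k] k := χB.comp (IsScalarTower.toAlgHom k A P.B)
      have hker : ∀ w, χB w = 0 → w ∈ N := fun w hw => Ideal.Quotient.eq_zero_iff_mem.1 (by
        have := congrArg e hw
        rwa [map_zero, AlgHom.comp_apply, AlgEquiv.coe_toAlgHom, AlgEquiv.apply_symm_apply] at this)
      obtain ⟨⟨w, ⟨t, ht⟩⟩, hw⟩ := IsLocalization.surj (Submonoid.powers P.f) z
      have hu : IsUnit (algebraMap A P.B t) := IsLocalization.map_units P.B (⟨t, ht⟩ : Submonoid.powers P.f)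
      have htχ : t ∉ RingHom.ker χ := fun h => hN.isPrime.ne_top (Ideal.eq_top_of_isUnit_mem _ (hker _ h) hu)
      haveI : (RingHom.ker χ).IsMaximal := RingHom.ker_isMaximal_of_surjective χ.toRingHom
        fun a => ⟨algebraMap k A a, χ.commutes a⟩
      have htop : Ideal.span {t} ⊔ RingHom.ker χ ^ 2 = ⊤ := Ideal.sup_pow_eq_top
        ((‹(RingHom.ker χ).IsMaximal›).1.2 _ (by rw [right_lt_sup, Ideal.span_singleton_le_iff_mem]; exact htχ))
      obtain ⟨s, hs, q, hq, hsq⟩ := Submodule.mem_sup.1 ((Ideal.eq_top_iff_one _).1 htop)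
      obtain ⟨r, rfl⟩ := Ideal.mem_span_singleton'.1 hs
      obtain ⟨c, hc⟩ := hjet χ (w * r)
      refine ⟨c, ?_⟩
      have hmem : ∀ a ∈ RingHom.ker χ ^ 2, algebraMap A P.B a ∈ N ^ 2 := fun a ha => by
        have := Ideal.mem_map_of_mem (algebraMap A P.B) ha
        rw [Ideal.map_pow] at this
        exact Ideal.pow_right_mono (Ideal.map_le_iff_le_comap.2 fun b hb => hker _ hb) 2 this
      have h3 := congrArg (algebraMap A P.B) hsq
      rw [map_add, map_mul, map_one] at h3
      have e1 : (∑ i, c i • algebraMap A P.B (g i)) - z =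
          algebraMap A P.B ((∑ i, c i • g i) - w * r) - z * algebraMap A P.B q := by
        have e2 : algebraMap A P.B (w * r) = z * (1 - algebraMap A P.B q) := by
          rw [map_mul, ← h3, ← hw]
          ring
        rw [map_sub, e2, map_sum]
        have : ∀ i, algebraMap A P.B (c i • g i) = c i • algebraMap A P.B (g i) := fun i => by
          rw [← IsScalarTower.coe_toAlgHom' k A P.B, map_smul]
        simp only [this]
        ring
      rw [e1]
      exact sub_mem (hmem _ hc) ((N ^ 2).mul_mem_left _ (hmem _ hq)))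
  obtain ⟨σ, hσ⟩ :=
    (BertiniJets13.jac P.b fun i => algebraMap A P.B (g i)).exists_rightInverse_of_surjective (LinearMap.range_eq_top.2 hs)
  exact ⟨σ, fun v => LinearMap.congr_fun hσ v⟩

end Piece

variable [IsAlgClosed k] [Algebra.Smooth k A]

/-- A polynomial vanishing at all points is zero. -/
theorem eq_zero_of_forall_pt {B : Type u} [CommRing B] [IsDomain B] [Algebra k B] [Algebra.FiniteType k B] {m : ℕ}
    (F : MvPolynomial (Fin m) B) (h : ∀ (χ : B →ₐ[k] k) (z : Fin m → k), MvPolynomial.eval₂ χ.toRingHom z F = 0) :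
    F = 0 := by
  ext d
  rw [MvPolynomial.coeff_zero]
  haveI : IsJacobsonRing B := isJacobsonRing_of_finiteType (A := k)
  have hmem : MvPolynomial.coeff d F ∈ (⊥ : Ideal B).jacobson := by
    refine Ideal.mem_sInf.2 fun N hN => ?_
    haveI := hN.2
    letI : Field (B ⧸ N) := Ideal.Quotient.field N
    haveI : Module.Finite k (B ⧸ N) := finite_of_finite_type_of_isJacobsonRing k (B ⧸ N)
    haveI : Algebra.IsIntegral k (B ⧸ N) := Algebra.IsIntegral.of_finite k _
    let e := (AlgEquiv.ofBijective (Algebra.ofId k (B ⧸ N))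
      (IsAlgClosed.algebraMap_bijective_of_isIntegral (k := k) (K := B ⧸ N)))
    let χ : B →ₐ[k] k := e.symm.toAlgHom.comp (Ideal.Quotient.mkₐ k N)
    have h0 : MvPolynomial.map χ.toRingHom F = 0 := MvPolynomial.funext fun z => by
      rw [MvPolynomial.eval_map, h χ z, map_zero]
    have h1 := congrArg (MvPolynomial.coeff d) h0
    rw [MvPolynomial.coeff_map, MvPolynomial.coeff_zero] at h1
    have h2 := congrArg e h1
    rw [map_zero] at h2
    exact Ideal.Quotient.eq_zero_iff_mem.1 (by simpa [χ] using h2)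
  rwa [IsJacobsonRing.out (inferInstance : IsJacobsonRing B) (Ideal.isRadical_bot_iff.2 inferInstance),
    Ideal.mem_bot] at hmem

section Domain

variable [IsDomain A] {m : ℕ} (g : Fin m → A)
  (hjet : ∀ χ : A →ₐ[k] k, ∀ z : A, ∃ c : Fin m → k, (∑ i, c i • g i) - z ∈ RingHom.ker χ ^ 2)

include hjet in
/-- The parametrisation of the singular members over a piece. -/
theorem exists_param (P : Piece k A) (hP : P.f ≠ 0) :
    ∃ ψ : MvPolynomial (Fin m) k →ₐ[k] MvPolynomial (Fin m) P.B,
      (∀ G, ∀ (χ : A →ₐ[k] k) (hχ : χ P.f ≠ 0) (z : Fin m → k), ∃ c, Bad g χ c ∧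
        MvPolynomial.eval₂ (P.pt χ hχ).toRingHom z (ψ G) = MvPolynomial.eval c G) ∧
      ∀ G, ∀ (χ : A →ₐ[k] k) (hχ : χ P.f ≠ 0) (c : Fin m → k), Bad g χ c →
        MvPolynomial.eval₂ (P.pt χ hχ).toRingHom c (ψ G) = MvPolynomial.eval c G := by
  classical
  obtain ⟨σ, hσ⟩ := P.exists_section g hjet
  let J := BertiniJets13.jac P.b (fun i => algebraMap A P.B (g i))
  let U : Fin m → (Fin m → P.B) := fun l => Pi.single l 1 - σ (J (Pi.single l 1))
  let ψ : MvPolynomial (Fin m) k →ₐ[k] MvPolynomial (Fin m) P.B :=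
    MvPolynomial.aeval fun i => ∑ l, MvPolynomial.C (U l i) * MvPolynomial.X l
  have hev : ∀ G (χ : A →ₐ[k] k) (hχ : χ P.f ≠ 0) (z : Fin m → k),
      MvPolynomial.eval₂ (P.pt χ hχ).toRingHom z (ψ G) =
        MvPolynomial.eval (fun i => ∑ l, P.pt χ hχ (U l i) * z l) G := by
    intro G χ hχ z
    have : (MvPolynomial.eval₂Hom (P.pt χ hχ).toRingHom z).comp ψ.toRingHom =
        MvPolynomial.eval (fun i => ∑ l, P.pt χ hχ (U l i) * z l) := by
      refine MvPolynomial.ringHom_ext (fun a => ?_) fun i => ?_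
      · show MvPolynomial.eval₂ _ z (ψ (MvPolynomial.C a)) = _
        rw [show ψ (MvPolynomial.C a) = MvPolynomial.C (algebraMap k P.B a) from MvPolynomial.aeval_C _ _,
          MvPolynomial.eval₂_C, MvPolynomial.eval_C]
        exact (P.pt χ hχ).commutes a
      · show MvPolynomial.eval₂ _ z (ψ (MvPolynomial.X i)) = _
        simp [ψ, MvPolynomial.eval₂_sum]
    exact RingHom.congr_fun this G
  refine ⟨ψ, fun G χ hχ z => ⟨_, ?_, hev G χ hχ z⟩, fun G χ hχ c hc => ?_⟩
  · rw [P.bad_iff g χ hχ]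
    intro o
    have hJ : J (∑ l, algebraMap k P.B (z l) • U l) = 0 := by
      rw [map_sum]
      refine Finset.sum_eq_zero fun l _ => ?_
      rw [map_smul, map_sub, hσ, sub_self, smul_zero]
    have h1 := congrArg (fun v => P.pt χ hχ (v o)) hJ
    simp only [Pi.zero_apply, map_zero] at h1
    rw [← h1]
    simp only [J, BertiniJets13.jac, Fintype.linearCombination_apply, Finset.sum_apply, Pi.smul_apply, smul_eq_mul,
      map_sum, map_mul, AlgHom.commutes, Algebra.algebraMap_self, RingHom.id_apply]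
    rw [Finset.sum_comm]
    refine Finset.sum_congr rfl fun i _ => ?_
    rw [Finset.sum_mul]
    exact Finset.sum_congr rfl fun l _ => by ring
  · rw [hev]
    congr 2
    funext i
    have h0 := (P.bad_iff g χ hχ c).1 hc
    have hexp : ∀ v : Option P.κ → P.B, σ v i = ∑ o, v o * σ (fun o' => if o = o' then 1 else 0) i := fun v => by
      conv_lhs => rw [pi_eq_sum_univ v]
      simp [map_sum, Finset.sum_apply]
    have h2 : ∀ l, P.pt χ hχ (U l i) = (if l = i then 1 else 0) -
        ∑ o, P.pt χ hχ (BertiniJets13.row P.b (algebraMap A P.B (g l)) o) *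
          P.pt χ hχ (σ (fun o' => if o = o' then 1 else 0) i) := by
      intro l
      simp only [U, Pi.sub_apply, map_sub, hexp (J (Pi.single l 1)), map_sum, map_mul]
      congr 1
      · rw [Pi.single_apply, apply_ite (P.pt χ hχ), map_one, map_zero]
        simp [eq_comm]
      · refine Finset.sum_congr rfl fun o _ => ?_
        simp [J, BertiniJets13.jac, Fintype.linearCombination_apply_single]
    simp only [h2, sub_mul, Finset.sum_sub_distrib, ite_mul, one_mul, zero_mul, Finset.sum_ite_eq', Finset.mem_univ,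
      if_true, sub_eq_self, Finset.sum_mul]
    rw [Finset.sum_comm]
    refine Finset.sum_eq_zero fun o _ => ?_
    rw [← mul_zero (P.pt χ hχ (σ (fun o' => if o = o' then 1 else 0) i)), ← h0 o, Finset.mul_sum]
    exact Finset.sum_congr rfl fun l _ => by ring

include hjet in
/-- Vanishing on the singular members over a nonempty open propagates. -/
theorem vanish_of_open (G : MvPolynomial (Fin m) k) {s : A} (hs : s ≠ 0)
    (h : ∀ χ : A →ₐ[k] k, χ s ≠ 0 → ∀ c, Bad g χ c → MvPolynomial.eval c G = 0)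
    (χ₀ : A →ₐ[k] k) (c₀ : Fin m → k) (hc₀ : Bad g χ₀ c₀) : MvPolynomial.eval c₀ G = 0 := by
  haveI : (RingHom.ker χ₀).IsMaximal := RingHom.ker_isMaximal_of_surjective χ₀.toRingHom
    fun a => ⟨algebraMap k A a, χ₀.commutes a⟩
  obtain ⟨P, hP⟩ := exists_piece (k := k) (RingHom.ker χ₀)
  have hP0 : P.f ≠ 0 := fun e => hP (e ▸ Submodule.zero_mem _)
  obtain ⟨ψ, hψ1, hψ2⟩ := exists_param g hjet P hP0
  haveI : IsDomain P.B := IsLocalization.isDomain_localization (powers_le_nonZeroDivisors_of_noZeroDivisors hP0)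
  haveI : Algebra.FiniteType k P.B :=
    Algebra.FiniteType.trans (S := A) inferInstance (IsLocalization.finiteType_of_monoid_fg (Submonoid.powers P.f) P.B)
  have hs' : algebraMap A P.B s ≠ 0 := fun e => hs (IsLocalization.injective P.B
    (powers_le_nonZeroDivisors_of_noZeroDivisors hP0) (e.trans (map_zero _).symm))
  have h0 : MvPolynomial.C (algebraMap A P.B s) * ψ G = 0 := eq_zero_of_forall_pt _ fun χB z => by
    let χ : A →ₐ[k] k := χB.comp (IsScalarTower.toAlgHom k A P.B)
    have hχ : χ P.f ≠ 0 := ((IsLocalization.Away.algebraMap_isUnit P.f).map χB).ne_zero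
    have e : P.pt χ hχ = χB := by
      refine AlgHom.coe_ringHom_injective (IsLocalization.ringHom_ext (Submonoid.powers P.f) (RingHom.ext fun a => ?_))
      exact P.pt_algebraMap χ hχ a
    rw [MvPolynomial.eval₂_mul, MvPolynomial.eval₂_C]
    by_cases hsχ : χ s = 0
    · exact mul_eq_zero_of_left hsχ _
    · obtain ⟨c, hc, hce⟩ := hψ1 G χ hχ z
      rw [e] at hce
      rw [hce, h χ hsχ c hc, mul_zero]
  rcases mul_eq_zero.1 h0 with h1 | h1
  · exact absurd (MvPolynomial.C_eq_zero.1 h1) hs'
  · have := hψ2 G χ₀ hP c₀ hc₀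
    rwa [h1, MvPolynomial.eval₂_zero, eq_comm] at this

include hjet in
/-- The locus of singular members is irreducible. -/
theorem vanish_or (G H : MvPolynomial (Fin m) k)
    (h : ∀ (χ : A →ₐ[k] k) c, Bad g χ c → MvPolynomial.eval c G * MvPolynomial.eval c H = 0) :
    (∀ (χ : A →ₐ[k] k) c, Bad g χ c → MvPolynomial.eval c G = 0) ∨
      (∀ (χ : A →ₐ[k] k) c, Bad g χ c → MvPolynomial.eval c H = 0) := by
  obtain ⟨P, hP⟩ := exists_piece (k := k) (⊥ : Ideal A)
  have hP0 : P.f ≠ 0 := fun e => hP (by rw [e]; exact Submodule.zero_mem _)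
  obtain ⟨ψ, hψ1, hψ2⟩ := exists_param g hjet P hP0
  haveI : IsDomain P.B := IsLocalization.isDomain_localization (powers_le_nonZeroDivisors_of_noZeroDivisors hP0)
  haveI : Algebra.FiniteType k P.B :=
    Algebra.FiniteType.trans (S := A) inferInstance (IsLocalization.finiteType_of_monoid_fg (Submonoid.powers P.f) P.B)
  have h0 : ψ (G * H) = 0 := eq_zero_of_forall_pt _ fun χB z => by
    let χ : A →ₐ[k] k := χB.comp (IsScalarTower.toAlgHom k A P.B)
    have hχ : χ P.f ≠ 0 := ((IsLocalization.Away.algebraMap_isUnit P.f).map χB).ne_zero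
    have e : P.pt χ hχ = χB := by
      refine AlgHom.coe_ringHom_injective (IsLocalization.ringHom_ext (Submonoid.powers P.f) (RingHom.ext fun a => ?_))
      exact P.pt_algebraMap χ hχ a
    obtain ⟨c, hc, hce⟩ := hψ1 (G * H) χ hχ z
    rw [e] at hce
    rw [hce, map_mul, h χ c hc]
  rw [map_mul] at h0
  have key : ∀ K, ψ K = 0 → ∀ (χ : A →ₐ[k] k) c, Bad g χ c → MvPolynomial.eval c K = 0 := fun K hK χ c hc =>
    vanish_of_open g hjet K hP0 (fun χ' hχ' c' hc' => by
      have := hψ2 K χ' hχ' c' hc'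
      rwa [hK, MvPolynomial.eval₂_zero, eq_comm] at this) χ c hc
  exact (mul_eq_zero.1 h0).imp (key G) (key H)

end Domain

/-- The singular locus is closed. -/
theorem exists_sep {m : ℕ} (g : Fin m → A) (χ : A →ₐ[k] k) (c : Fin m → k) (hc : ¬ Bad g χ c) :
    ∃ Q : MvPolynomial (Fin m) A, MvPolynomial.eval₂ χ.toRingHom c Q ≠ 0 ∧
      ∀ (χ' : A →ₐ[k] k) c', Bad g χ' c' → MvPolynomial.eval₂ χ'.toRingHom c' Q = 0 := by
  classical
  haveI : (RingHom.ker χ).IsMaximal := RingHom.ker_isMaximal_of_surjective χ.toRingHom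
    fun a => ⟨algebraMap k A a, χ.commutes a⟩
  obtain ⟨P, hP⟩ := exists_piece (k := k) (RingHom.ker χ)
  rw [P.bad_iff g χ hP] at hc
  push Not at hc
  obtain ⟨o, ho⟩ := hc
  obtain ⟨⟨t, ht⟩, hb⟩ := IsLocalization.exist_integer_multiples_of_finite (Submonoid.powers P.f)
    (fun i => BertiniJets13.row P.b (algebraMap A P.B (g i)) o)
  choose a ha using hb
  refine ⟨MvPolynomial.C P.f * ∑ i, MvPolynomial.C (a i) * MvPolynomial.X i, ?_, fun χ' c' hc' => ?_⟩
  · simp only [MvPolynomial.eval₂_mul, MvPolynomial.eval₂_C, MvPolynomial.eval₂_sum, MvPolynomial.eval₂_X]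
    refine mul_ne_zero hP ?_
    have e : ∀ i, χ.toRingHom (a i) = χ t * P.pt χ hP (BertiniJets13.row P.b (algebraMap A P.B (g i)) o) := fun i => by
      show χ (a i) = _
      rw [← P.pt_algebraMap χ hP, ha, Algebra.smul_def, map_mul]
      exact congrArg (· * _) (P.pt_algebraMap χ hP t)
    simp only [e, mul_assoc, ← Finset.mul_sum]
    refine mul_ne_zero ?_ ?_
    · obtain ⟨e', rfl⟩ := ht
      rw [map_pow]
      exact pow_ne_zero _ hP
    · convert ho using 1
      exact Finset.sum_congr rfl fun i _ => mul_comm _ _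
  · simp only [MvPolynomial.eval₂_mul, MvPolynomial.eval₂_C, MvPolynomial.eval₂_sum, MvPolynomial.eval₂_X]
    by_cases hf : χ' P.f = 0
    · exact mul_eq_zero_of_left hf _
    have h0 := (P.bad_iff g χ' hf c').1 hc' o
    have e : ∀ i, χ'.toRingHom (a i) = χ' t * P.pt χ' hf (BertiniJets13.row P.b (algebraMap A P.B (g i)) o) := fun i => by
      show χ' (a i) = _
      rw [← P.pt_algebraMap χ' hf, ha, Algebra.smul_def, map_mul]
      exact congrArg (· * _) (P.pt_algebraMap χ' hf t)
    simp only [e, mul_assoc, ← Finset.mul_sum]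
    refine mul_eq_zero_of_right _ (mul_eq_zero_of_right _ ?_)
    rw [← h0]
    exact Finset.sum_congr rfl fun i _ => mul_comm _ _

end Groth.Agent.LefPen13
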