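import Groth.Agent.Lib.LefPen13.Family
import Groth.Agent.Lib.LefPen13.Fun

/-! # A form with exactly one ordinary double point -/

set_option autoImplicit false
set_option linter.style.haveILetI false
set_option linter.unusedSectionVars false
set_option backward.isDefEq.respectTransparency false
set_option backward.isDefEq.respectTransparency.types false

universe u

open CategoryTheory CategoryTheory.Limits AlgebraicGeometry TopologicalSpace MvPolynomial
open Groth.Agent.H2Alg

noncomputable section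

namespace Groth.Agent.LefPen13

variable {k : Type u} [Field k] {r : ℕ} {X : Scheme.{u}} (i : X ⟶ CohB1.ProjSpace r k) [IsClosedImmersion i]

/-- The forms singular at a point. -/
def singAt (d : ℕ) (j : Fin (r + 1)) (χ : A i j →ₐ[k] k) : Submodule k (LefPen.Form r k d) :=
  ((RingHom.ker χ ^ 2).restrictScalars k).comap (πL i j)

theorem mem_singAt {d : ℕ} {j : Fin (r + 1)} {χ : A i j →ₐ[k] k} {F : LefPen.Form r k d} :
    F ∈ singAt i d j χ ↔ π i j F.1 ∈ RingHom.ker χ ^ 2 := Iff.rfl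

theorem mul_vanForm_mem {j : Fin (r + 1)} {χ : A i j →ₐ[k] k} {a b : A i j} (ha : χ a = 0) (hb : χ b = 0) :
    a * b ∈ RingHom.ker χ ^ 2 := by
  rw [pow_two]
  exact Ideal.mul_mem_mul ha hb

variable [IsAlgClosed k] [Smooth (i ≫ CohB1.ProjSpace.toSpec r k)] [IrreducibleSpace X]

/-- A rational point. -/
theorem exists_point : ∃ j : Fin (r + 1), Nonempty (A i j →ₐ[k] k) := by
  haveI := isIntegral i
  obtain ⟨x⟩ := (inferInstance : Nonempty X)
  obtain ⟨j, hj⟩ := Opens.mem_iSup.1 ((iSup_V i).ge (trivial : x ∈ (⊤ : X.Opens)))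
  haveI : Nonempty (V i j) := ⟨⟨x, hj⟩⟩
  haveI : IsDomain (A i j) := inferInstanceAs (IsDomain Γ(X, V i j))
  haveI := smooth i j
  obtain ⟨m, hm⟩ := Ideal.exists_maximal (A i j)
  haveI := hm
  obtain ⟨χ, -⟩ := exists_algHom_ker (k := k) m
  exact ⟨j, ⟨χ⟩⟩

variable {m : ℕ} [hsm : SmoothOfRelativeDimension (m + 1) (i ≫ CohB1.ProjSpace.toSpec r k)] {d : ℕ}

include hsm

/-- Linear forms with the coordinates as expansions at a point give a node. -/
theorem node_of_lin (j : Fin (r + 1)) (χ : A i j →ₐ[k] k) (P : Coord k (A i j) (m + 1))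
    (τ : P.B →ₐ[k] MvPowerSeries (Fin (m + 1)) k) (hτ : IsExp P χ τ) (z : Fin (m + 1) → A i j)
    (hL : ∀ l, z l - (P.y l - algebraMap k (A i j) (χ (P.y l))) ∈ RingHom.ker χ ^ 2)
    (F : LefPen.Form r k d) (hF : π i j F.1 = ∑ l ∈ evens (m + 1), z l * z (partner l)) :
    NodeAt i F (m + 1) j χ := by
  have hz : ∀ l, z l ∈ RingHom.ker χ := fun l => by
    have h1 := Ideal.pow_le_self two_ne_zero (hL l)
    have h2 : χ (P.y l - algebraMap k (A i j) (χ (P.y l))) = 0 := by
      rw [map_sub, AlgHom.commutes]; exact sub_self _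
    rw [RingHom.mem_ker, map_sub, h2, sub_zero] at h1
    exact h1
  let w : Fin (m + 1) → MvPowerSeries (Fin (m + 1)) k := fun l => τ (algebraMap (A i j) P.B (z l))
  have hwV : ∀ l, w l ∈ PSHom.V (m + 1) k := fun l => by
    have := (hτ.hmem 1 (z l)).1 (by rw [pow_one]; exact hz l)
    rwa [pow_one] at this
  have hw : ∀ l, w l - MvPowerSeries.X l ∈ PSHom.V (m + 1) k ^ 2 := fun l => by
    have := (hτ.hmem 2 _).1 (hL l)
    rw [map_sub, map_sub, map_sub, map_sub, hτ.hy, ← IsScalarTower.algebraMap_apply, AlgHom.commutes,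
      MvPowerSeries.c_eq_algebraMap, add_sub_cancel_right] at this
    exact this
  refine nodeAt_of_one i F (Nat.le_add_left 1 m) j χ ?_ P τ hτ ?_
  · rw [hF]
    exact Ideal.sum_mem _ fun l _ => mul_vanForm_mem i (hz l) (hz _)
  · have e : qp (τ (algebraMap (A i j) P.B (π i j F.1))) = stdQuad k (m + 1) := by
      rw [hF]
      refine (qp_eq_of_sub_mem (t := ((stdQuad k (m + 1) : MvPolynomial (Fin (m + 1)) k) :
        MvPowerSeries (Fin (m + 1)) k)) ?_).trans (qp_coe (stdQuad_isHomogeneous k (m + 1)))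
      rw [map_sum, map_sum, stdQuad, ← MvPolynomial.coeToMvPowerSeries.ringHom_apply, map_sum,
        ← Finset.sum_sub_distrib]
      refine Ideal.sum_mem _ fun l _ => ?_
      rw [map_mul, map_mul, MvPolynomial.coeToMvPowerSeries.ringHom_apply, MvPolynomial.coe_mul, MvPolynomial.coe_X,
        MvPolynomial.coe_X]
      show w l * w (partner l) - _ ∈ _
      have : w l * w (partner l) - MvPowerSeries.X l * MvPowerSeries.X (partner l) =
          (w l - MvPowerSeries.X l) * w (partner l) + (w (partner l) - MvPowerSeries.X (partner l)) * MvPowerSeries.X l := by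
        ring
      rw [this, show (3 : ℕ) = 2 + 1 from rfl, pow_succ]
      exact add_mem (Ideal.mul_mem_mul (hw l) (hwV _)) (Ideal.mul_mem_mul (hw _) (Ideal.subset_span ⟨l, rfl⟩))
    rw [e]
    exact nondeg_stdQuad k _

/-- The quadric with a node on a linearly embedded variety. -/
theorem oneNode_of_linear (j₀ : Fin (r + 1)) (χ₀ : A i j₀ →ₐ[k] k)
    (hII : ∀ W : LefPen.Form r k 1, π i j₀ W.1 ∈ RingHom.ker χ₀ ^ 2 → π i j₀ W.1 = 0) :
    ∃ F : LefPen.Form r k 2, OneNode i F (m + 1) := by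
  classical
  haveI := isIntegral i
  haveI : ∀ l, Algebra.Smooth k (A i l) := fun l => smooth i l
  obtain ⟨P, τ, hτ⟩ := exists_isExp (locally_std i (m + 1) j₀) χ₀
  choose L hL using fun l => exists_form i le_rfl j₀ χ₀ (P.y l - algebraMap k (A i j₀) (χ₀ (P.y l)))
  let Lo : Option (Fin (m + 1)) → LefPen.Form r k 1 := fun o =>
    o.elim ⟨MvPolynomial.X j₀, LefPen.X_mem r k j₀⟩ L
  have hjet0 : ∀ o, P.jet χ₀ hτ.hf (π i j₀ (Lo o).1) = Pi.single o 1 := by
    rintro (_ | l)
    · show P.jet χ₀ hτ.hf (π i j₀ (MvPolynomial.X j₀)) = _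
      rw [π_X_self, ← map_one (algebraMap k (A i j₀)), P.jet_algebraMap]
    · rw [← P.jet_y χ₀ hτ.hf l, ← sub_eq_zero, ← map_sub]
      exact P.jet_eq_zero_of_mem_sq χ₀ hτ.hf (hL l)
  have hχL : ∀ o, χ₀ (π i j₀ (Lo o).1) = Pi.single (M := fun _ => k) o 1 none := fun o => by
    rw [← hjet0 o, P.jet_none]
  -- every linear form is a combination on `X`
  have hcomb : ∀ G : LefPen.Form r k 1, ∀ (s : Fin (r + 1)), π i s G.1 =
      ∑ o, P.jet χ₀ hτ.hf (π i j₀ G.1) o • π i s (Lo o).1 := by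
    intro G s
    let a := P.jet χ₀ hτ.hf (π i j₀ G.1)
    let W : LefPen.Form r k 1 := G - ∑ o, a o • Lo o
    have hW : ∀ t, π i t W.1 = π i t G.1 - ∑ o, a o • π i t (Lo o).1 := fun t => by
      show πL i t W = _
      rw [map_sub, map_sum]
      simp only [map_smul]
      rfl
    have h0 : π i j₀ W.1 = 0 := hII W (P.mem_sq_of_jet (locally_std i (m + 1) j₀) χ₀ hτ.hf (by
      rw [hW, map_sub, map_sum]
      simp only [map_smul, hjet0]
      rw [sub_eq_zero]
      funext o
      simp [Finset.sum_apply, Pi.single_apply, a]))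
    have := π_form_eq_zero i W j₀ s ⟨_, pX_mem i j₀ χ₀⟩ h0
    rw [hW, sub_eq_zero] at this
    exact this
  let F : LefPen.Form r k 2 := ⟨∑ l ∈ evens (m + 1), (L l).1 * (L (partner l)).1,
    (mem_homogeneousSubmodule _ _).2 (IsHomogeneous.sum _ _ _ fun l _ =>
      ((mem_homogeneousSubmodule _ _).1 (L l).2).mul ((mem_homogeneousSubmodule _ _).1 (L (partner l)).2))⟩
  have hFs : ∀ s, π i s F.1 = ∑ l ∈ evens (m + 1), π i s (L l).1 * π i s (L (partner l)).1 := fun s => by
    simp [F, map_sum]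
  refine ⟨F, j₀, χ₀, node_of_lin i j₀ χ₀ P τ hτ (fun l => π i j₀ (L l).1) hL F (hFs j₀), fun s χ hs => ?_⟩
  obtain ⟨P', hP'⟩ := exists_coord (locally_std i (m + 1) s) χ
  let Φ : (Option (Fin (m + 1)) → k) →ₗ[k] (Option (Fin (m + 1)) → k) :=
    Fintype.linearCombination k fun o => P'.jet χ hP' (π i s (Lo o).1)
  have hΦ : ∀ v, Φ v = ∑ o, v o • P'.jet χ hP' (π i s (Lo o).1) := fun v => Fintype.linearCombination_apply k _ v
  have hinj : Function.Injective Φ := by
    rw [LinearMap.injective_iff_surjective]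
    intro w
    obtain ⟨z, hz⟩ := P'.jet_surjective χ hP' w
    obtain ⟨G, hG⟩ := exists_form i le_rfl s χ z
    refine ⟨P.jet χ₀ hτ.hf (π i j₀ G.1), ?_⟩
    have e := P'.jet_eq_zero_of_mem_sq χ hP' hG
    rw [map_sub, sub_eq_zero, hz, hcomb G s, map_sum] at e
    rw [hΦ, ← e]
    exact Finset.sum_congr rfl fun o _ => by rw [map_smul]
  let w : Fin (m + 1) → k := fun l => χ (π i s (L l).1)
  let v : Option (Fin (m + 1)) → k :=
    ∑ l ∈ evens (m + 1), (w l • Pi.single (some (partner l)) 1 + w (partner l) • Pi.single (some l) 1)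
  have hQ : MvPolynomial.eval w (stdQuad k (m + 1)) = 0 := by
    have h0 := apply_eq_zero_of_mem_sq i hs
    rw [hFs, map_sum] at h0
    simpa [stdQuad, w] using h0
  have hv : v = 0 := by
    refine hinj ?_
    rw [map_zero]
    have e : Φ v = ∑ l ∈ evens (m + 1),
        (w l • P'.jet χ hP' (π i s (L (partner l)).1) + w (partner l) • P'.jet χ hP' (π i s (L l).1)) := by
      rw [show v = _ from rfl, map_sum]
      refine Finset.sum_congr rfl fun l _ => ?_
      rw [map_add, map_smul, map_smul]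
      simp only [Φ, Fintype.linearCombination_apply_single, one_smul]
      rfl
    rw [e]
    funext o
    cases o with
    | none =>
      simp only [Finset.sum_apply, Pi.add_apply, Pi.smul_apply, smul_eq_mul, P'.jet_none]
      simp only [stdQuad, map_sum, map_mul, eval_X] at hQ
      rw [Finset.sum_add_distrib]
      simp only [w, mul_comm (χ (π i s (L (partner _)).1))]
      rw [hQ, add_zero]
      rfl
    | some l =>
      have h2 := congrFun (P'.jet_eq_zero_of_mem_sq χ hP' hs) (some l)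
      rw [hFs, map_sum, Finset.sum_apply] at h2
      simp only [P'.jet_mul] at h2
      rw [Finset.sum_apply]
      exact h2
  have hd : ∀ p, MvPolynomial.eval w (pderiv p (stdQuad k (m + 1))) = 0 := by
    intro p
    have hmon : ∀ a b : Fin (m + 1), MvPolynomial.eval w (pderiv p (MvPolynomial.X a * MvPolynomial.X b)) =
        (if a = p then w b else 0) + (if b = p then w a else 0) := by
      intro a b
      rw [pderiv_mul, map_add, map_mul, map_mul, eval_X, eval_X]
      congr 1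
      · by_cases h : a = p
        · subst h; simp
        · rw [pderiv_X_of_ne h, if_neg h, map_zero, zero_mul]
      · by_cases h : b = p
        · subst h; simp
        · rw [pderiv_X_of_ne h, if_neg h, map_zero, mul_zero]
    have h := congrFun hv (some p)
    simp only [v, Finset.sum_apply, Pi.add_apply, Pi.smul_apply, smul_eq_mul, Pi.single_apply, Option.some.injEq,
      mul_ite, mul_one, mul_zero, Pi.zero_apply] at h
    rw [stdQuad, map_sum, map_sum, ← h]
    refine Finset.sum_congr rfl fun l _ => ?_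
    rw [hmon, add_comm]
    simp only [eq_comm (a := p)]
  have hw : w = 0 := by
    by_contra hne
    obtain ⟨p, hp⟩ := nondeg_stdQuad k (m + 1) w hne hQ
    exact hp (hd p)
  refine samePt_of_vanForm i j₀ χ₀ s χ fun a => ?_
  rw [hcomb (vanForm i j₀ χ₀ a) s, map_sum, Fintype.sum_option, P.jet_none, χ_vanForm_self, zero_smul, map_zero,
    zero_add]
  refine Finset.sum_eq_zero fun l _ => ?_
  rw [map_smul, show χ (π i s (Lo (some l)).1) = w l from rfl, hw, Pi.zero_apply, smul_zero]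

/-- A form with exactly one node, from polynomials controlling the other points. -/
theorem exists_oneNode_of_bad (hd : 2 ≤ d) (j₀ : Fin (r + 1)) (χ₀ : A i j₀ →ₐ[k] k)
    (hbad : ∀ {M : ℕ} (g : Fin M → LefPen.Form r k d),
      (∀ F ∈ singAt i d j₀ χ₀, ∃ c, mem g c = F) → ∀ (l a : Fin (r + 1)),
        ∃ G : MvPolynomial (Fin M) k, G ≠ 0 ∧ ∀ (χ : A i l →ₐ[k] k) c,
          χ (π i l (vanForm i j₀ χ₀ a).1) ≠ 0 → π i l (mem g c).1 ∈ RingHom.ker χ ^ 2 →
            MvPolynomial.eval c G = 0) :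
    ∃ F : LefPen.Form r k d, OneNode i F (m + 1) := by
  classical
  haveI := smooth i j₀
  haveI : Module.Finite k (LefPen.Form r k d) := (Groth.Agent.LefPen22.finrank_form k r d).2
  haveI : Module.Free k ↥(singAt i d j₀ χ₀) := Module.Free.of_divisionRing k ↥(singAt i d j₀ χ₀)
  haveI : Module.Finite k ↥(singAt i d j₀ χ₀) := FiniteDimensional.finiteDimensional_submodule _
  let B := Module.finBasis k (singAt i d j₀ χ₀)
  let g : Fin (Module.finrank k (singAt i d j₀ χ₀)) → LefPen.Form r k d := fun t => (B t : LefPen.Form r k d)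
  have hg : ∀ F ∈ singAt i d j₀ χ₀, ∃ c, mem g c = F := fun F hF => by
    refine ⟨B.equivFun ⟨F, hF⟩, ?_⟩
    have e := congrArg Subtype.val (B.sum_equivFun ⟨F, hF⟩)
    rw [Submodule.coe_sum] at e
    exact e
  have hmem : ∀ c, mem g c ∈ singAt i d j₀ χ₀ := fun c =>
    Submodule.sum_mem _ fun t _ => Submodule.smul_mem _ _ (B t).2
  obtain ⟨P, τ, hτ⟩ := exists_isExp (locally_std i (m + 1) j₀) χ₀
  obtain ⟨M, idx, E, hidx, hE0, hE⟩ := exists_disc _ (stdQuad_isHomogeneous k (m + 1)) (nondeg_stdQuad k (m + 1))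
  let Gn : MvPolynomial (Fin (Module.finrank k (singAt i d j₀ χ₀))) k := MvPolynomial.aeval (fun t =>
    ∑ s, MvPolynomial.C (MvPowerSeries.coeff (idx t) (τ (algebraMap (A i j₀) P.B (π i j₀ (g s).1)))) *
      MvPolynomial.X s) E
  have hGn : ∀ c, MvPolynomial.eval c Gn = MvPolynomial.eval
      (fun t => (qp (τ (algebraMap (A i j₀) P.B (π i j₀ (mem g c).1)))).coeff (idx t)) E := by
    intro c
    show MvPolynomial.eval c (MvPolynomial.aeval _ E) = _
    rw [← MvPolynomial.aeval_eq_eval, ← MvPolynomial.aeval_eq_eval]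
    simp only [RingHom.coe_coe, MvPolynomial.comp_aeval_apply, MvPolynomial.aeval_eq_eval]
    refine congrArg (fun f => MvPolynomial.eval f E) (funext fun t => ?_)
    rw [coeff_qp _ (hidx t), π_mem, map_sum (algebraMap (A i j₀) P.B), map_sum τ, map_sum, map_sum]
    refine Finset.sum_congr rfl fun s _ => ?_
    rw [← IsScalarTower.coe_toAlgHom' k (A i j₀) P.B, map_smul, map_smul, map_smul, smul_eq_mul]
    simp [mul_comm]
  obtain ⟨H, hH, hHq⟩ := exists_node i j₀ χ₀ P τ hτ d hd
  obtain ⟨c₁, hc₁⟩ := hg H hH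
  have hGn0 : Gn ≠ 0 := fun e => hE0 (by
    have := hGn c₁
    rw [e, map_zero, hc₁, hHq] at this
    exact this.symm)
  choose G hG0 hG using fun p : Fin (r + 1) × Fin (r + 1) => hbad g hg p.1 p.2
  obtain ⟨c, hc⟩ : ∃ c, MvPolynomial.eval c (Gn * ∏ p, G p) ≠ 0 := by
    by_contra! h
    exact mul_ne_zero hGn0 (Finset.prod_ne_zero_iff.2 fun p _ => hG0 p)
      (MvPolynomial.funext fun c => (h c).trans (map_zero _).symm)
  rw [map_mul, map_prod, mul_ne_zero_iff, Finset.prod_ne_zero_iff] at hc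
  refine ⟨mem g c, j₀, χ₀, nodeAt_of_one i _ (Nat.le_add_left 1 m) j₀ χ₀ (hmem c) P τ hτ ?_, fun l χ hl => ?_⟩
  · by_contra hnd
    exact hc.1 ((hGn c).trans (hE _ (qp_isHomogeneous _) hnd))
  · refine samePt_of_vanForm i j₀ χ₀ l χ fun a => ?_
    by_contra ha
    exact hc.2 (l, a) (Finset.mem_univ _) (hG (l, a) χ c ha hl)

/-- A form with exactly one node exists in every degree at least two. -/
theorem exists_oneNode (hd : 2 ≤ d) : ∃ F : LefPen.Form r k d, OneNode i F (m + 1) := by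
  classical
  obtain ⟨j₀, ⟨χ₀⟩⟩ := exists_point i
  by_cases hd3 : 3 ≤ d
  · refine exists_oneNode_of_bad i hd j₀ χ₀ fun {M} g hg l a => ?_
    let V := vanForm i j₀ χ₀ a
    let U : LefPen.Form r k 2 := ⟨V.1 * V.1, (mem_homogeneousSubmodule _ _).2
      (((mem_homogeneousSubmodule _ _).1 V.2).mul ((mem_homogeneousSubmodule _ _).1 V.2))⟩
    obtain ⟨G, h0, hG⟩ := bad_poly_full (m := m) i g (show 2 + (d - 2) = d by omega) (by omega) U l
      (fun Gf F hF => hg F (by
        rw [mem_singAt, hF, map_mul]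
        refine Ideal.mul_mem_right _ _ ?_
        show π i j₀ (V.1 * V.1) ∈ _
        rw [map_mul]
        exact mul_vanForm_mem i (χ_vanForm_self i j₀ χ₀ a) (χ_vanForm_self i j₀ χ₀ a)))
    refine ⟨G, h0, fun χ c ha hl => hG χ c ⟨?_, hl⟩⟩
    show χ (π i l (V.1 * V.1)) ≠ 0
    rw [map_mul, map_mul]
    exact mul_ne_zero ha ha
  obtain rfl : d = 2 := by omega
  by_cases hI : ∃ W : LefPen.Form r k 1, π i j₀ W.1 ∈ RingHom.ker χ₀ ^ 2 ∧ π i j₀ W.1 ≠ 0
  swap
  · push Not at hI
    exact oneNode_of_linear i j₀ χ₀ hI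
  obtain ⟨W, hW, hW0⟩ := hI
  refine exists_oneNode_of_bad i hd j₀ χ₀ fun {M} g hg l a => ?_
  obtain ⟨G₁, h1, hG₁⟩ := bad_poly_full (m := m) i g (show 1 + 1 = 2 from rfl) le_rfl W l
    (fun Gf F hF => hg F (by rw [mem_singAt, hF, map_mul]; exact Ideal.mul_mem_right _ _ hW))
  obtain ⟨G₂, h2, hG₂⟩ := bad_poly_hyper (m := m) i g rfl j₀ χ₀ W hW0 (vanForm i j₀ χ₀ a) l
    (fun Gf F hGf hF => hg F (by
      rw [mem_singAt, hF, map_mul]
      exact mul_vanForm_mem i (χ_vanForm_self i j₀ χ₀ a) hGf))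
  refine ⟨G₁ * G₂, mul_ne_zero h1 h2, fun χ c ha hl => ?_⟩
  rw [map_mul]
  by_cases hWχ : χ (π i l W.1) = 0
  · exact mul_eq_zero_of_right _ (hG₂ χ c ⟨hWχ, ha, hl⟩)
  · exact mul_eq_zero_of_left (hG₁ χ c ⟨hWχ, hl⟩) _

end Groth.Agent.LefPen13
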