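import Groth.Agent.Lib.LefPen13.Trans2
import Groth.Agent.Lib.LefPen13.Count

/-! # Families whose jets have large rank on a small set -/

set_option autoImplicit false
set_option linter.style.haveILetI false
set_option backward.isDefEq.respectTransparency false
set_option backward.isDefEq.respectTransparency.types false
universe u

noncomputable section

namespace Groth.Agent.LefPen13

namespace Coord

variable {k : Type u} [Field k] {A : Type u} [CommRing A] [Algebra k A] {n : ℕ} (P : Coord k A n)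

/-- Value and derivatives. -/
def jrow (a : A) (o : Option (Fin n)) : P.B :=
  o.elim (algebraMap A P.B a) fun l => P.pd l (algebraMap A P.B a)

/-- The jet at a point. -/
def jet (χ : A →ₐ[k] k) (hχ : χ P.f ≠ 0) : A →ₗ[k] (Option (Fin n) → k) where
  toFun a o := P.pt χ hχ (P.jrow a o)
  map_add' a b := funext fun o => by
    cases o <;> simp [jrow, P.pd_add]
  map_smul' c a := funext fun o => by
    have e : algebraMap A P.B (c • a) = c • algebraMap A P.B a := by
      rw [← IsScalarTower.coe_toAlgHom' k A P.B, map_smul]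
    cases o <;> simp [jrow, e, P.pd_smul]

theorem jet_none (χ : A →ₐ[k] k) (hχ : χ P.f ≠ 0) (a : A) : P.jet χ hχ a none = χ a :=
  P.piece.pt_algebraMap χ hχ a

theorem jet_eq_zero_of_mem_sq (χ : A →ₐ[k] k) (hχ : χ P.f ≠ 0) {a : A} (ha : a ∈ RingHom.ker χ ^ 2) :
    P.jet χ hχ a = 0 := by
  have h := Ideal.mem_map_of_mem (algebraMap A P.B) ha
  rw [Ideal.map_pow] at h
  have hsq : algebraMap A P.B a ∈ RingHom.ker (P.pt χ hχ) ^ 2 := by
    refine Ideal.pow_right_mono (Ideal.map_le_iff_le_comap.2 fun w hw => ?_) 2 h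
    show P.pt χ hχ (algebraMap A P.B w) = 0
    exact (P.piece.pt_algebraMap χ hχ w).trans hw
  funext o
  cases o with
  | none => exact RingHom.mem_ker.1 (Ideal.pow_le_self two_ne_zero hsq)
  | some l => exact P.pd_eq_zero_of_mem_sq hsq l

theorem jet_mul (χ : A →ₐ[k] k) (hχ : χ P.f ≠ 0) (a b : A) (l : Fin n) :
    P.jet χ hχ (a * b) (some l) = χ a * P.jet χ hχ b (some l) + χ b * P.jet χ hχ a (some l) := by
  show P.pt χ hχ (P.pd l (algebraMap A P.B (a * b))) = _
  rw [map_mul, P.pd_mul, map_add, map_mul, map_mul]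
  erw [P.piece.pt_algebraMap χ hχ, P.piece.pt_algebraMap χ hχ]
  rfl

variable [IsAlgClosed k] [Algebra.Smooth k A]

theorem mem_sq_of_jet (hA : RingHom.Locally (RingHom.IsStandardSmoothOfRelativeDimension n) (algebraMap k A))
    (χ : A →ₐ[k] k) (hχ : χ P.f ≠ 0) {a : A} (h : P.jet χ hχ a = 0) : a ∈ RingHom.ker χ ^ 2 :=
  mem_sq_of_grad hA P χ hχ ((P.jet_none χ hχ a).symm.trans (congrFun h none)) (funext fun l => congrFun h (some l))

omit [IsAlgClosed k] [Algebra.Smooth k A] in
theorem jet_y (χ : A →ₐ[k] k) (hχ : χ P.f ≠ 0) (l : Fin n) :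
    P.jet χ hχ (P.y l - algebraMap k A (χ (P.y l))) = Pi.single (some l) 1 := by
  funext o
  cases o with
  | none => rw [P.jet_none, map_sub, AlgHom.commutes]; simp
  | some l' =>
    show P.pt χ hχ (P.pd l' (algebraMap A P.B _)) = _
    rw [map_sub, ← IsScalarTower.algebraMap_apply, sub_eq_add_neg, P.pd_add,
      show -algebraMap k P.B (χ (P.y l)) = algebraMap k P.B (-χ (P.y l)) from (map_neg _ _).symm,
      P.pd_algebraMap, add_zero, P.pd_y]
    by_cases h : l = l'
    · subst h; simp
    · rw [if_neg h, map_zero, Pi.single_eq_of_ne (by simpa using Ne.symm h)]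

omit [IsAlgClosed k] [Algebra.Smooth k A] in
theorem jet_algebraMap (χ : A →ₐ[k] k) (hχ : χ P.f ≠ 0) (c : k) :
    P.jet χ hχ (algebraMap k A c) = Pi.single none c := by
  funext o
  cases o with
  | none => rw [P.jet_none, AlgHom.commutes]; simp
  | some l =>
    show P.pt χ hχ (P.pd l (algebraMap A P.B _)) = _
    rw [← IsScalarTower.algebraMap_apply, P.pd_algebraMap, map_zero]
    simp

/-- Every jet is attained. -/
theorem jet_surjective (χ : A →ₐ[k] k) (hχ : χ P.f ≠ 0) : Function.Surjective (P.jet χ hχ) := by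
  classical
  intro w
  let z : A := algebraMap k A (w none) + ∑ l, w (some l) • (P.y l - algebraMap k A (χ (P.y l)))
  refine ⟨z, funext fun o => ?_⟩
  have hy := P.jet_y χ hχ
  have h1 := P.jet_algebraMap χ hχ (w none)
  simp only [z, map_add, map_sum, map_smul, h1, hy, Pi.add_apply, Finset.sum_apply, Pi.smul_apply, smul_eq_mul]
  cases o with
  | none => simp [Pi.single_eq_of_ne]
  | some l => simp [Pi.single_apply]

/-- The jets of the multiples of a function not vanishing at the point. -/
theorem exists_mul_jet (χ : A →ₐ[k] k) (hχ : χ P.f ≠ 0) {u : A} (hu : χ u ≠ 0) (w : Option (Fin n) → k) :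
    ∃ z : A, P.jet χ hχ (u * z) = w := by
  let c := χ u
  obtain ⟨z, hz⟩ := P.jet_surjective χ hχ fun o =>
    o.elim (w none / c) fun l => (w (some l) - w none / c * P.jet χ hχ u (some l)) / c
  refine ⟨z, funext fun o => ?_⟩
  have h0 : χ z = w none / c := by rw [← P.jet_none χ hχ z, hz]; rfl
  cases o with
  | none => rw [P.jet_none, map_mul, h0, mul_div_cancel₀ _ hu]
  | some l =>
    rw [P.jet_mul, hz, h0]
    simp only [Option.elim_some]
    show c * _ + _ = _
    rw [mul_div_cancel₀ _ (show c ≠ 0 from hu)]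
    ring

end Coord

variable {k : Type u} [Field k] [IsAlgClosed k] {A : Type u} [CommRing A] [Algebra k A] {n : ℕ}

theorem sum_swap {R : Type u} [CommRing R] {s M : ℕ} (v : Fin s → R) (C : Fin s → Fin M → R) (Q : Fin M → R) :
    ∑ t, (∑ o, v o * C o t) * Q t = ∑ o, v o * ∑ t, C o t * Q t := by
  simp only [Finset.sum_mul, Finset.mul_sum, mul_assoc]
  exact Finset.sum_comm

/-- The count on a small closed or open part of a chart. -/
theorem exists_bad_poly (P : Coord k A n) {B' : Type u} [CommRing B'] [Algebra k B'] [Algebra.FiniteType k B']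
    (φ : P.B →ₐ[k] B') {s e M : ℕ} (he : e < s) (hdim : ringKrullDim B' ≤ e) (g : Fin M → A)
    (hrank : ∀ (p : B' →ₐ[k] k), ∃ sel : Fin s → Option (Fin n), ∀ w : Fin s → k,
      ∃ c : Fin M → k, ∀ o, ∑ t, c t * p (φ (P.jrow (g t) (sel o))) = w o) :
    ∃ G : MvPolynomial (Fin M) k, G ≠ 0 ∧ ∀ (p : B' →ₐ[k] k) (c : Fin M → k),
      (∀ o, ∑ t, c t * p (φ (P.jrow (g t) o)) = 0) → MvPolynomial.eval c G = 0 := by
  classical
  haveI : IsNoetherianRing B' := Algebra.FiniteType.isNoetherianRing k B'
  let H : Set B' := {h | ∃ G : MvPolynomial (Fin M) k, G ≠ 0 ∧ ∀ (p : B' →ₐ[k] k) (c : Fin M → k), p h ≠ 0 →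
      (∀ o, ∑ t, c t * p (φ (P.jrow (g t) o)) = 0) → MvPolynomial.eval c G = 0}
  have hH : Ideal.span H = ⊤ := by
    by_contra hne
    obtain ⟨N, hN, hle⟩ := Ideal.exists_le_maximal _ hne
    haveI := hN
    obtain ⟨p₀, hp₀⟩ := exists_algHom_ker (k := k) N
    obtain ⟨sel, hsel⟩ := hrank p₀
    choose C hC using fun o : Fin s => hsel (Pi.single o 1)
    let R : Fin M → Fin s → B' := fun t o => φ (P.jrow (g t) (sel o))
    let Mx : Matrix (Fin s) (Fin s) B' := Matrix.of fun o o' => ∑ t, algebraMap k B' (C o t) * R t o'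
    have hMx : Mx.map p₀ = 1 := by
      ext o o'
      simp only [Mx, R, Matrix.map_apply, Matrix.of_apply, map_sum, map_mul, AlgHom.commutes, Algebra.algebraMap_self,
        RingHom.id_apply]
      rw [hC o o', Matrix.one_apply, Pi.single_apply]
      exact if_congr ⟨Eq.symm, Eq.symm⟩ rfl rfl
    have hp1 : p₀ Mx.det = 1 := by
      rw [AlgHom.map_det, AlgHom.mapMatrix_apply, hMx, Matrix.det_one]
    let Bh := Localization.Away Mx.det
    let ι : B' →+* Bh := algebraMap B' Bh
    haveI : Algebra.FiniteType k Bh :=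
      Algebra.FiniteType.trans (S := B') inferInstance (IsLocalization.finiteType_of_monoid_fg (Submonoid.powers Mx.det) Bh)
    have hsurj : Function.Surjective (Fintype.linearCombination Bh fun t o => ι (R t o)) := by
      intro w
      have hu : IsUnit (Mx.map ι) := by
        rw [Matrix.isUnit_iff_isUnit_det, ← RingHom.mapMatrix_apply, ← RingHom.map_det]
        exact IsLocalization.Away.algebraMap_isUnit Mx.det
      obtain ⟨v, hv⟩ : ∃ v, Matrix.vecMul v (Mx.map ι) = w :=
        ⟨Matrix.vecMul w ↑hu.unit⁻¹, by rw [Matrix.vecMul_vecMul]; erw [hu.val_inv_mul]; rw [Matrix.vecMul_one]⟩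
      refine ⟨fun t => ∑ o, v o * ι (algebraMap k B' (C o t)), funext fun o' => ?_⟩
      rw [Fintype.linearCombination_apply, Finset.sum_apply, ← hv]
      simp only [Pi.smul_apply, smul_eq_mul, Matrix.vecMul, dotProduct, Matrix.map_apply, Mx, Matrix.of_apply, map_sum,
        map_mul]
      exact sum_swap (R := Bh) v (fun o t => ι (algebraMap k B' (C o t))) (fun t => ι (R t o'))
    obtain ⟨G, hG0, hG⟩ := exists_count (k := k) (B := Bh) he
      ((ringKrullDim_le_of_isLocalization (Submonoid.powers Mx.det) Bh).trans hdim) (fun t o => ι (R t o)) hsurj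
    have hmem : Mx.det ∈ H := by
      refine ⟨G, hG0, fun p c hp hc => ?_⟩
      let ph : Bh →ₐ[k] k := IsLocalization.liftAlgHom (M := Submonoid.powers Mx.det) (f := p) (fun y => by
        obtain ⟨a, ha⟩ := y.2
        rw [show (y : B') = Mx.det ^ a from ha.symm, map_pow]
        exact (isUnit_iff_ne_zero.2 hp).pow a)
      refine hG ph c fun o => ?_
      rw [← hc (sel o)]
      exact Finset.sum_congr rfl fun t _ => congrArg (c t * ·) (IsLocalization.lift_eq _ _)
    have := RingHom.mem_ker.1 (hp₀.symm.le (hle (Ideal.subset_span hmem)))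
    rw [hp1] at this
    exact one_ne_zero this
  obtain ⟨T, hT, hT1⟩ := Submodule.mem_span_finite_of_mem_span
    ((Ideal.eq_top_iff_one _).1 hH : (1 : B') ∈ Submodule.span B' H)
  choose G hG0 hG using fun h : T => hT h.2
  refine ⟨∏ h : T, G h, Finset.prod_ne_zero_iff.2 fun h _ => hG0 h, fun p c hc => ?_⟩
  obtain ⟨h, hh, hph⟩ : ∃ h ∈ T, p h ≠ 0 := by
    by_contra! hall
    have : Ideal.span (T : Set B') ≤ RingHom.ker p := Ideal.span_le.2 fun h hh => hall h hh
    have h1 := RingHom.mem_ker.1 (this hT1)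
    rw [map_one] at h1
    exact one_ne_zero h1
  rw [map_prod]
  exact Finset.prod_eq_zero (Finset.mem_univ (⟨h, hh⟩ : T)) (hG ⟨h, hh⟩ p c hph hc)

end Groth.Agent.LefPen13
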