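import Mathlib

/-! # A general line avoids a codimension two set -/

set_option autoImplicit false
universe u

open MvPolynomial

noncomputable section

namespace Groth.Agent.LefPen13

variable {k : Type u} [Field k] {N : ℕ}

/-- Restriction to the lines of direction `h`. -/
def lineMap (h : Fin N → k) : MvPolynomial (Fin N) k →+* Polynomial (MvPolynomial (Fin N) k) :=
  MvPolynomial.eval₂Hom (Polynomial.C.comp MvPolynomial.C)
    (fun i => Polynomial.C (MvPolynomial.X i) + Polynomial.C (MvPolynomial.C (h i)) * Polynomial.X)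

/-- The shear. -/
def shear (h : Fin N → k) : Polynomial (MvPolynomial (Fin N) k) →+* Polynomial (MvPolynomial (Fin N) k) :=
  Polynomial.eval₂RingHom (lineMap h) Polynomial.X

theorem shear_comp (h : Fin N → k) : (shear (-h)).comp (shear h) = RingHom.id _ := by
  refine Polynomial.ringHom_ext' (MvPolynomial.ringHom_ext (fun a => ?_) fun i => ?_) ?_
  · simp [shear, lineMap]
  · simp [shear, lineMap]
    ring
  · simp [shear]

/-- The shear as an automorphism. -/
def shearEquiv (h : Fin N → k) : Polynomial (MvPolynomial (Fin N) k) ≃+* Polynomial (MvPolynomial (Fin N) k) :=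
  RingEquiv.ofRingHom (shear h) (shear (-h)) (by simpa using shear_comp (-h)) (shear_comp h)

/-- Elimination of the variable between polynomials without common factor. -/
theorem exists_elim {R : Type u} [CommRing R] [IsDomain R] (f g : Polynomial R) (hf : Prime f) (hfg : ¬ f ∣ g) :
    ∃ (r : R) (a b : Polynomial R), r ≠ 0 ∧ Polynomial.C r = a * f + b * g := by
  let I : Ideal (Polynomial R) := Ideal.span {f}
  have : I.IsPrime := (Ideal.span_singleton_prime hf.ne_zero).2 hf
  let x : Polynomial R ⧸ I := Ideal.Quotient.mk I Polynomial.X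
  have e : ∀ p, Polynomial.aeval x p = Ideal.Quotient.mk I p := fun p => by
    show Polynomial.aeval (Ideal.Quotient.mkₐ R I Polynomial.X) p = _
    rw [Polynomial.aeval_algHom_apply, Polynomial.aeval_X_left_apply]
    rfl
  have hX : IsAlgebraic R x := ⟨f, hf.ne_zero, by
    rw [e]; exact Ideal.Quotient.eq_zero_iff_mem.2 (Ideal.mem_span_singleton_self _)⟩
  have halg : IsAlgebraic R (Ideal.Quotient.mk I g) := by
    rw [← e]
    have hle : Algebra.adjoin R {x} ≤ Subalgebra.algebraicClosure R (Polynomial R ⧸ I) :=
      Algebra.adjoin_le (Set.singleton_subset_iff.2 hX)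
    exact hle (Polynomial.aeval_mem_adjoin_singleton R x)
  have hne : Ideal.Quotient.mk I g ≠ 0 := fun h =>
    hfg (Ideal.mem_span_singleton.1 (Ideal.Quotient.eq_zero_iff_mem.1 h))
  obtain ⟨r, hr, z, hz⟩ := halg.exists_nonzero_dvd (mem_nonZeroDivisors_of_ne_zero hne)
  obtain ⟨w, rfl⟩ := Ideal.Quotient.mk_surjective z
  have h2 : Ideal.Quotient.mk I (Polynomial.C r) = Ideal.Quotient.mk I (g * w) := by
    rw [map_mul]; exact hz
  rw [Ideal.Quotient.eq, Ideal.mem_span_singleton] at h2
  obtain ⟨v, hv⟩ := h2
  exact ⟨r, v, w, hr, by linear_combination hv⟩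

/-- Two hypersurfaces without common component miss a general line of a given direction simultaneously. -/
theorem exists_line_poly (f g : MvPolynomial (Fin N) k) (hf : Prime f) (hfg : ¬ f ∣ g) (h : Fin N → k) :
    ∃ R : MvPolynomial (Fin N) k, R ≠ 0 ∧ ∀ (c : Fin N → k) (t : k), MvPolynomial.eval c R ≠ 0 →
      MvPolynomial.eval (c + t • h) f = 0 → MvPolynomial.eval (c + t • h) g ≠ 0 := by
  classical
  let f' := shearEquiv h (Polynomial.C f)
  let g' := shearEquiv h (Polynomial.C g)
  have hf' : Prime f' := (MulEquiv.prime_iff (shearEquiv h).toMulEquiv).2 (Polynomial.prime_C_iff.2 hf)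
  have hfg' : ¬ f' ∣ g' := fun hd => hfg (by
    have := map_dvd (shearEquiv h).symm hd
    simp only [f', g', RingEquiv.symm_apply_apply] at this
    exact Polynomial.C_dvd_iff_dvd_coeff _ _ |>.1 this 0 |> fun e => by simpa using e)
  obtain ⟨R, a, b, hR, hv⟩ := exists_elim f' g' hf' hfg'
  refine ⟨R, hR, fun c t hc hft hgt => hc ?_⟩
  let ev : Polynomial (MvPolynomial (Fin N) k) →+* k :=
    (Polynomial.evalRingHom t).comp (Polynomial.mapRingHom (MvPolynomial.eval c))
  have hev : ∀ p, ev (shearEquiv h (Polynomial.C p)) = MvPolynomial.eval (c + t • h) p := fun p => by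
    show ev (shear h (Polynomial.C p)) = _
    rw [← RingHom.comp_apply, ← RingHom.comp_apply]
    refine RingHom.congr_fun (MvPolynomial.ringHom_ext (fun a => ?_) fun i => ?_) p
    · simp [ev, shear, lineMap]
    · simp [ev, shear, lineMap]
      ring
  have := congrArg ev hv
  rw [map_add, map_mul, map_mul, hev, hev, hft, hgt, mul_zero, mul_zero, add_zero] at this
  simpa [ev] using this

end Groth.Agent.LefPen13
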