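import Groth.Agent.Lib.LefPen13.Pencil
import Groth.Agent.Lib.LefPen13.Line
import Groth.Agent.Lib.LefPen13.Jets

/-! # Lefschetz pencils through a transversal hypersurface -/

set_option autoImplicit false
set_option linter.style.haveILetI false
set_option linter.unusedSectionVars false
set_option backward.isDefEq.respectTransparency false
set_option backward.isDefEq.respectTransparency.types false

universe u

open CategoryTheory CategoryTheory.Limits AlgebraicGeometry TopologicalSpace MvPolynomial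

noncomputable section

namespace Groth.Agent.LefPen13

/-- Bertini for jets on a smooth affine variety. -/
theorem exists_bad_affine {k : Type u} [Field k] [IsAlgClosed k] {Q : Type u} [CommRing Q] [Algebra k Q]
    [Algebra.Smooth k Q] {N : ℕ} (g : Fin N → Q)
    (hjet : ∀ (ψ : Q →ₐ[k] k) (z : Q), ∃ c : Fin N → k, (∑ t, c t • g t) - z ∈ RingHom.ker ψ ^ 2) :
    ∃ G : MvPolynomial (Fin N) k, G ≠ 0 ∧ ∀ (ψ : Q →ₐ[k] k) c, Bad g ψ c → MvPolynomial.eval c G = 0 := by
  classical
  have hjet' : ∀ (M : Ideal Q), M.IsMaximal → ∀ z : Q, ∃ c : Fin N → k, (∑ t, c t • g t) - z ∈ M ^ 2 := by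
    intro M hM z
    obtain ⟨ψ, rfl⟩ := exists_algHom_ker (k := k) M
    exact hjet ψ z
  choose f hf G hG hgood using fun p : PrimeSpectrum Q =>
    BertiniJets13.exists_nhd p.asIdeal (0 : Q) g hjet'
  obtain ⟨t, ht⟩ := CompactSpace.isCompact_univ.elim_finite_subcover
    (fun p : PrimeSpectrum Q => (PrimeSpectrum.basicOpen (f p) : Set (PrimeSpectrum Q)))
    (fun p => (PrimeSpectrum.basicOpen (f p)).2) (fun p _ => Set.mem_iUnion.2 ⟨p, hf p⟩)
  refine ⟨∏ p ∈ t, G p, Finset.prod_ne_zero_iff.2 fun p _ => hG p, fun χ c hc => ?_⟩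
  have hM : (RingHom.ker χ).IsMaximal := RingHom.ker_isMaximal_of_surjective χ.toRingHom
    fun a => ⟨algebraMap k _ a, χ.commutes a⟩
  obtain ⟨p, hp, hpM⟩ := Set.mem_iUnion₂.1 (ht (Set.mem_univ (⟨RingHom.ker χ, hM.isPrime⟩ : PrimeSpectrum Q)))
  rw [map_prod]
  refine Finset.prod_eq_zero hp ?_
  by_contra hne
  refine hgood p c hne (RingHom.ker χ) hM hpM ?_
  rw [zero_add]
  exact hc

variable {k : Type u} [Field k] [IsAlgClosed k] {r : ℕ} {X : Scheme.{u}} (i : X ⟶ CohB1.ProjSpace r k)
  [IsClosedImmersion i] [Smooth (i ≫ CohB1.ProjSpace.toSpec r k)] {d : ℕ} {N : ℕ}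
  (b : Module.Basis (Fin N) k (LefPen.Form r k d))

include b in
/-- A general form gives a transversal base locus with a given transversal one. -/
theorem exists_base_poly (hd : 1 ≤ d) (H₀ : LefPen.Form r k d) (h₀ : ¬ Singular i H₀) :
    ∃ E : MvPolynomial (Fin N) k, E ≠ 0 ∧ ∀ G, BaseSing i H₀ G → MvPolynomial.eval (b.equivFun G) E = 0 := by
  classical
  haveI : ∀ j, Algebra.Smooth k (A i j) := fun j => smooth i j
  have key : ∀ j : Fin (r + 1), ∃ E : MvPolynomial (Fin N) k, E ≠ 0 ∧ ∀ (χ : A i j →ₐ[k] k) G,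
      BasePt χ (π i j H₀.1) (π i j G.1) → MvPolynomial.eval (b.equivFun G) E = 0 := by
    intro j
    let I := Ideal.span {π i j H₀.1}
    haveI : Algebra.Smooth k (A i j ⧸ I) := BertiniJets13.smooth_quotient (π i j H₀.1) fun M hM hmem => by
      obtain ⟨χ, rfl⟩ := exists_algHom_ker (k := k) M
      exact h₀ ⟨j, χ, hmem⟩
    let q : A i j →ₐ[k] A i j ⧸ I := Ideal.Quotient.mkₐ k I
    have hker : ∀ ψ : A i j ⧸ I →ₐ[k] k, (RingHom.ker (ψ.comp q)).map q.toRingHom = RingHom.ker ψ := fun ψ => by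
      refine le_antisymm (Ideal.map_le_iff_le_comap.2 fun a ha => ha) fun z hz => ?_
      obtain ⟨a, rfl⟩ := Ideal.Quotient.mk_surjective z
      exact Ideal.mem_map_of_mem q.toRingHom (show a ∈ RingHom.ker (ψ.comp q) from hz)
    have hpush : ∀ (ψ : A i j ⧸ I →ₐ[k] k) (a : A i j), a ∈ RingHom.ker (ψ.comp q) ^ 2 → q a ∈ RingHom.ker ψ ^ 2 :=
      fun ψ a ha => by
        rw [← hker ψ, ← Ideal.map_pow]
        exact Ideal.mem_map_of_mem q.toRingHom ha
    obtain ⟨E, hE0, hE⟩ := exists_bad_affine (fun t => q (fam i b j t)) fun ψ z => by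
      obtain ⟨a, rfl⟩ := Ideal.Quotient.mk_surjective z
      obtain ⟨c, hc⟩ := jets i b hd j (ψ.comp q) a
      refine ⟨c, ?_⟩
      have := hpush ψ _ hc
      simp only [map_sub, map_sum, map_smul] at this
      exact this
    refine ⟨E, hE0, fun χ G ⟨hh, hg, s, t, hst, hsq⟩ => ?_⟩
    have hns : π i j H₀.1 ∉ RingHom.ker χ ^ 2 := fun h => h₀ ⟨j, χ, h⟩
    have ht : t ≠ 0 := by
      rintro rfl
      have hs : s ≠ 0 := hst.resolve_right (not_not.2 rfl)
      rw [zero_smul, add_zero, Algebra.smul_def, Ideal.unit_mul_mem_iff_mem _ ((isUnit_iff_ne_zero.2 hs).map _)] at hsq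
      exact hns hsq
    let ψ : A i j ⧸ I →ₐ[k] k := Ideal.Quotient.liftₐ I χ fun a ha => by
      obtain ⟨z, rfl⟩ := Ideal.mem_span_singleton'.1 ha
      rw [map_mul, hh, mul_zero]
    refine hE ψ _ ?_
    have h1 := hpush ψ _ (show s • π i j H₀.1 + t • π i j G.1 ∈ RingHom.ker (ψ.comp q) ^ 2 from hsq)
    rw [map_add, map_smul, map_smul,
      show q (π i j H₀.1) = 0 from Ideal.Quotient.eq_zero_iff_mem.2 (Ideal.mem_span_singleton_self _), smul_zero,
      zero_add, Algebra.smul_def, Ideal.unit_mul_mem_iff_mem _ ((isUnit_iff_ne_zero.2 ht).map _)] at h1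
    show ∑ x, b.equivFun G x • q (fam i b j x) ∈ _
    rw [← Finset.sum_congr rfl fun x _ => map_smul q (b.equivFun G x) (fam i b j x), ← map_sum, sum_fam,
      LinearEquiv.symm_apply_apply]
    exact h1
  choose E hE0 hE using key
  refine ⟨∏ j, E j, Finset.prod_ne_zero_iff.2 fun j _ => hE0 j, fun G ⟨j, χ, hb⟩ => ?_⟩
  rw [map_prod]
  exact Finset.prod_eq_zero (Finset.mem_univ j) (hE j χ G hb)

omit [IsAlgClosed k] [IsClosedImmersion i] [Smooth (i ≫ CohB1.ProjSpace.toSpec r k)] in
theorem singular_zero [Nonempty (Σ j : Fin (r + 1), A i j →ₐ[k] k)] : Singular i (0 : LefPen.Form r k d) := by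
  obtain ⟨j, χ⟩ := ‹Nonempty (Σ j : Fin (r + 1), A i j →ₐ[k] k)›
  exact ⟨j, χ, by rw [Submodule.coe_zero, map_zero]; exact zero_mem _⟩

include b in
/-- An irreducible equation of the singular forms. -/
theorem exists_prime_eqn [IrreducibleSpace X] [Nonempty (Σ j : Fin (r + 1), A i j →ₐ[k] k)] (hd : 1 ≤ d) :
    ∃ f : MvPolynomial (Fin N) k, Prime f ∧ ∀ F, Singular i F → MvPolynomial.eval (b.equivFun F) f = 0 := by
  classical
  obtain ⟨E, hE0, hE⟩ := exists_nonsingular_poly i b hd
  induction E using UniqueFactorizationMonoid.induction_on_prime with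
  | h₁ => exact absurd rfl hE0
  | h₂ E hu => exact absurd (hE 0 (singular_zero i)) (hu.map (MvPolynomial.eval (b.equivFun 0))).ne_zero
  | h₃ E p hE' hp ih =>
    rcases singular_irreducible i b hd p E (fun F hF => by rw [← map_mul]; exact hE F hF) with h | h
    · exact ⟨p, hp, h⟩
    · exact ih hE' h

include b in
/-- The transversal pencil yields a second equation. -/
theorem exists_eqn_of_line [Nonempty (Σ j : Fin (r + 1), A i j →ₐ[k] k)] (f : MvPolynomial (Fin N) k)
    (hfS : ∀ F, Singular i F → MvPolynomial.eval (b.equivFun F) f = 0) (F G : LefPen.Form r k d)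
    (hns : ∀ s t : k, (s ≠ 0 ∨ t ≠ 0) → ¬ Singular i (s • F + t • G)) :
    ∃ g : MvPolynomial (Fin N) k, ¬ f ∣ g ∧ ∀ H, Singular i H → MvPolynomial.eval (b.equivFun H) g = 0 := by
  classical
  by_contra! hall
  have hf0 : ∀ s t : k, (s ≠ 0 ∨ t ≠ 0) → MvPolynomial.eval (b.equivFun (s • F + t • G)) f ≠ 0 := by
    intro s t hst h0
    obtain ⟨E, hE0, hE⟩ := singular_closed i b _ (hns s t hst)
    by_cases hd : f ∣ E
    · obtain ⟨w, rfl⟩ := hd
      exact hE0 (by rw [map_mul, h0, zero_mul])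
    · obtain ⟨H, hH, hH'⟩ := hall E hd
      exact hH' (hE H hH)
  let P : Polynomial (Polynomial k) := MvPolynomial.eval₂ (Polynomial.C.comp Polynomial.C) (fun x =>
    Polynomial.C (Polynomial.X * Polynomial.C (b.equivFun F x)) + Polynomial.X * Polynomial.C (Polynomial.C (b.equivFun G x))) f
  have hP : ∀ s t : k, (P.map (Polynomial.evalRingHom s)).eval t = MvPolynomial.eval (b.equivFun (s • F + t • G)) f := by
    intro s t
    show ((Polynomial.evalRingHom t).comp (Polynomial.mapRingHom (Polynomial.evalRingHom s))) P = _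
    rw [map_add, map_smul, map_smul]
    simp only [P, MvPolynomial.eval₂_comp_left]
    refine congrArg₂ (fun (u : k →+* k) v => MvPolynomial.eval₂ u v f) ?_ ?_
    · ext a
      simp
    · funext x
      simp
      ring
  have hconst : ∀ l, 1 ≤ l → P.coeff l = 0 := by
    intro l hl
    refine Polynomial.eq_zero_of_infinite_isRoot _ ((Set.finite_singleton (0 : k)).infinite_compl.mono fun s hs => ?_)
    have hdeg : (P.map (Polynomial.evalRingHom s)).natDegree = 0 := by
      by_contra hne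
      obtain ⟨t, ht⟩ := IsAlgClosed.exists_root (P.map (Polynomial.evalRingHom s))
        (fun h => hne (Polynomial.natDegree_eq_of_degree_eq_some h))
      exact hf0 s t (Or.inl hs) ((hP s t).symm.trans ht)
    show (P.coeff l).eval s = 0
    rw [← Polynomial.coe_evalRingHom, ← Polynomial.coeff_map]
    exact Polynomial.coeff_eq_zero_of_natDegree_lt (by omega)
  have h01 : MvPolynomial.eval (b.equivFun (0 : LefPen.Form r k d)) f = 0 := hfS 0 (singular_zero i)
  refine hf0 0 1 (Or.inr one_ne_zero) ?_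
  have e0 := hP 0 0
  simp only [zero_smul, zero_add] at e0
  rw [h01] at e0
  rw [← hP 0 1]
  have hP0 : P = Polynomial.C (P.coeff 0) := by
    ext1 l
    rcases Nat.eq_zero_or_pos l with rfl | hl
    · simp
    · rw [hconst l hl, Polynomial.coeff_C, if_neg (by omega)]
  rw [hP0] at e0 ⊢
  simpa using e0

include b in
/-- Through a transversal hypersurface a general line is a Lefschetz pencil. -/
theorem exists_good_poly_through {m : ℕ} [SmoothOfRelativeDimension (m + 1) (i ≫ CohB1.ProjSpace.toSpec r k)]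
    (hd : 1 ≤ d) (j₁ : Fin (r + 1)) (χ₁ : A i j₁ →ₐ[k] k) (f g : MvPolynomial (Fin N) k) (hf : Prime f)
    (hfg : ¬ f ∣ g) (hfS : ∀ F, Singular i F → MvPolynomial.eval (b.equivFun F) f = 0)
    (hgS : ∀ F, Singular i F → MvPolynomial.eval (b.equivFun F) g ≠ 0 → OneNode i F (m + 1))
    (H₀ : LefPen.Form r k d) (h₀ : ¬ Singular i H₀) :
    ∃ E : MvPolynomial (Fin N) k, E ≠ 0 ∧ ∀ G, MvPolynomial.eval (b.equivFun G) E ≠ 0 → Good i (m + 1) H₀ G := by
  classical
  haveI : Nonempty (Σ j : Fin (r + 1), A i j →ₐ[k] k) := ⟨⟨j₁, χ₁⟩⟩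
  haveI := smooth i j₁
  obtain ⟨E₁, hE₁, hE₁'⟩ := exists_base_poly i b hd H₀ h₀
  obtain ⟨R, hR, hR'⟩ := exists_line_poly f g hf hfg (b.equivFun H₀)
  let h := b.equivFun H₀
  obtain ⟨p, hp⟩ : ∃ p, h p ≠ 0 := by
    by_contra! hall
    exact h₀ (by rw [show H₀ = 0 from b.equivFun.map_eq_zero_iff.1 (funext hall)]; exact singular_zero i)
  obtain ⟨q, hq⟩ : ∃ q, q ≠ p := by
    by_contra! hall
    obtain ⟨P, hP⟩ := exists_coord (locally_std i (m + 1) j₁) χ₁
    choose z hz using P.jet_surjective χ₁ hP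
    choose G hG using fun w => exists_form i hd j₁ χ₁ (z w)
    have hG' : ∀ w, P.jet χ₁ hP (π i j₁ (G w).1) = w := fun w => by
      have := P.jet_eq_zero_of_mem_sq χ₁ hP (hG w)
      rwa [map_sub, hz, sub_eq_zero] at this
    let w₀ : Option (Fin (m + 1)) → k := Pi.single none 1
    let w₁ : Option (Fin (m + 1)) → k := Pi.single (some 0) 1
    have hsame : ∀ F : LefPen.Form r k d, F = b.equivFun F p • b p := fun F => by
      conv_lhs => rw [← b.sum_equivFun F]
      exact Finset.sum_eq_single p (fun x _ hx => absurd (hall x) hx) (by simp)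
    have e : ∀ w, w = b.equivFun (G w) p • P.jet χ₁ hP (π i j₁ (b p).1) := fun w => by
      conv_lhs => rw [← hG' w, hsame (G w)]
      rw [π_smul, map_smul]
    have a0 : b.equivFun (G w₀) p ≠ 0 := fun h0 => by
      have := congrFun (e w₀) none
      rw [h0, zero_smul] at this
      simp [w₀] at this
    have b0 : P.jet χ₁ hP (π i j₁ (b p).1) (some 0) = 0 := by
      have := congrFun (e w₀) (some 0)
      simp only [Pi.smul_apply, smul_eq_mul, w₀, Pi.single_apply, reduceCtorEq, if_false] at this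
      exact (mul_eq_zero.1 this.symm).resolve_left a0
    have := congrFun (e w₁) (some 0)
    simp [w₁, b0] at this
  let L : MvPolynomial (Fin N) k := MvPolynomial.C (h p) * MvPolynomial.X q - MvPolynomial.C (h q) * MvPolynomial.X p
  have hL : L ≠ 0 := fun e => hp (by
    have := congrArg (MvPolynomial.eval (Pi.single q 1)) e
    simpa [L, Ne.symm hq] using this)
  refine ⟨E₁ * R * L, mul_ne_zero (mul_ne_zero hE₁ hR) hL, fun G hG => ?_⟩
  simp only [map_mul, mul_ne_zero_iff] at hG
  obtain ⟨⟨hb, hr⟩, hl⟩ := hG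
  refine ⟨?_, fun hbs => hb (hE₁' G hbs), ⟨0, by rwa [zero_smul, add_zero]⟩, fun s t hst hs => ?_⟩
  · rw [LinearIndependent.pair_iff]
    intro s t hst
    have h1 := congrArg b.equivFun hst
    rw [map_add, map_smul, map_smul, map_zero] at h1
    have hp' := congrFun h1 p
    have hq' := congrFun h1 q
    simp only [Pi.add_apply, Pi.smul_apply, smul_eq_mul, Pi.zero_apply] at hp' hq'
    have hl' : h p * b.equivFun G q - h q * b.equivFun G p ≠ 0 := by simpa [L] using hl
    have ht : t = 0 := (mul_eq_zero.1 (show t * (h p * b.equivFun G q - h q * b.equivFun G p) = 0 by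
      linear_combination h p * hq' - h q * hp')).resolve_right hl'
    rw [ht, zero_mul, add_zero] at hp'
    exact ⟨(mul_eq_zero.1 hp').resolve_right hp, ht⟩
  · by_cases ht : t = 0
    · rw [ht, zero_smul, add_zero] at hs
      exact absurd ((singular_smul i (hst.resolve_right (not_not.2 ht)) H₀).1 hs) h₀
    · have e : s • H₀ + t • G = t • (G + (s / t) • H₀) := by
        rw [smul_add, smul_smul, mul_div_cancel₀ _ ht, add_comm]
      rw [e] at hs ⊢
      rw [singular_smul i ht] at hs
      refine oneNode_smul i ht (hgS _ hs ?_)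
      rw [map_add, map_smul]
      refine hR' _ _ hr ?_
      rw [← map_smul, ← map_add]
      exact hfS _ hs

end Groth.Agent.LefPen13
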