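import Groth.Agent.Lib.LefPen13.Node
import Mathlib.RingTheory.MvPolynomial.Ideal

/-! # Second order coefficients of expansions as regular functions of the point -/

set_option autoImplicit false
set_option linter.style.haveILetI false
universe u

open KaehlerDifferential
open Groth.Agent.H2Alg

noncomputable section

namespace Groth.Agent.LefPen13

/-- Lifting against the filtration by powers of an ideal. -/
theorem exists_lift_pow {k : Type*} [CommRing k] {B R : Type*} [CommRing B] [Algebra k B] [Algebra.FormallySmooth k B]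
    [CommRing R] [Algebra k R] (J : Ideal R) (g : B →ₐ[k] R ⧸ J ^ 2) :
    ∃ rep : B → R, (∀ z, Ideal.Quotient.mk (J ^ 2) (rep z) = g z) ∧ (∀ a b, rep (a + b) - (rep a + rep b) ∈ J ^ 3) ∧
      (∀ a b, rep (a * b) - rep a * rep b ∈ J ^ 3) ∧ (∀ (c : k) a, rep (c • a) - c • rep a ∈ J ^ 3) := by
  have h32 : J ^ 3 ≤ J ^ 2 := Ideal.pow_le_pow_right (by norm_num)
  let F : (R ⧸ J ^ 3) →ₐ[k] R ⧸ J ^ 2 := Ideal.Quotient.factorₐ k h32
  have hFs : Function.Surjective F := Ideal.Quotient.factor_surjective h32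
  have hFn : IsNilpotent (RingHom.ker (F : (R ⧸ J ^ 3) →+* R ⧸ J ^ 2)) := by
    refine ⟨2, le_bot_iff.1 ?_⟩
    have hle : RingHom.ker (F : (R ⧸ J ^ 3) →+* R ⧸ J ^ 2) ≤ (J ^ 2).map (Ideal.Quotient.mk (J ^ 3)) := by
      intro x hx
      obtain ⟨x, rfl⟩ := Ideal.Quotient.mk_surjective x
      exact Ideal.mem_map_of_mem _ (Ideal.Quotient.eq_zero_iff_mem.1 hx)
    refine (Ideal.pow_right_mono hle 2).trans ?_
    rw [← Ideal.map_pow, ← pow_mul]
    exact ((Ideal.map_mono (Ideal.pow_le_pow_right (by norm_num))).trans_eq (Ideal.map_quotient_self _))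
  let Θ := Algebra.FormallySmooth.liftOfSurjective g F hFs hFn
  choose rep hrep using fun z : B => Ideal.Quotient.mk_surjective (Θ z)
  refine ⟨rep, fun z => ?_, fun a b => Ideal.Quotient.eq.1 ?_, fun a b => Ideal.Quotient.eq.1 ?_, fun c a => Ideal.Quotient.eq.1 ?_⟩
  · rw [← Algebra.FormallySmooth.liftOfSurjective_apply g F hFs hFn z]
    show _ = F (Θ z)
    rw [← hrep]
    rfl
  · rw [map_add, hrep, hrep, hrep, map_add]
  · rw [map_mul, hrep, hrep, hrep, map_mul]
  · rw [hrep, map_smul, show Ideal.Quotient.mk (J ^ 3) (c • rep a) = c • Ideal.Quotient.mk (J ^ 3) (rep a) from rfl, hrep]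

namespace Coord

variable {k : Type u} [Field k] {A : Type u} [CommRing A] [Algebra k A] {n : ℕ} (P : Coord k A n)

theorem pd_add (l : Fin n) (a b : P.B) : P.pd l (a + b) = P.pd l a + P.pd l b := by
  simp [pd]

theorem pd_mul (l : Fin n) (a b : P.B) : P.pd l (a * b) = a * P.pd l b + b * P.pd l a := by
  rw [pd, Derivation.leibniz, map_add, map_smul, map_smul]
  rfl

theorem pd_algebraMap (l : Fin n) (c : k) : P.pd l (algebraMap k P.B c) = 0 := by
  simp [pd]

theorem pd_smul (l : Fin n) (c : k) (a : P.B) : P.pd l (c • a) = c • P.pd l a := by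
  rw [Algebra.smul_def, pd_mul, pd_algebraMap, mul_zero, add_zero, Algebra.smul_def]

theorem pd_one (l : Fin n) : P.pd l 1 = 0 := by rw [← map_one (algebraMap k P.B), pd_algebraMap]

theorem pd_zero (l : Fin n) : P.pd l 0 = 0 := by simp [pd]

/-- The linear part of the expansion of a function at a point. -/
def lin (p : P.B →ₐ[k] k) (z : P.B) : MvPolynomial (Fin n) k :=
  ∑ s, MvPolynomial.C (p (P.pd s z)) * MvPolynomial.X s

theorem lin_isHomogeneous (p : P.B →ₐ[k] k) (z : P.B) : (P.lin p z).IsHomogeneous 1 :=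
  MvPolynomial.IsHomogeneous.sum _ _ _ fun s _ => (MvPolynomial.isHomogeneous_X k s).C_mul _

/-- The expansion to first order. -/
theorem expansion_lin {χ : A →ₐ[k] k} {τ : P.B →ₐ[k] MvPowerSeries (Fin n) k} (hτ : IsExp P χ τ) (z : P.B) :
    τ z - ((MvPolynomial.C (P.pt χ hτ.hf z) + P.lin (P.pt χ hτ.hf) z : MvPolynomial (Fin n) k) :
      MvPowerSeries (Fin n) k) ∈ PSHom.V n k ^ 2 := by
  classical
  refine PSHom.mem_pow fun d hd => ?_
  rw [map_sub, MvPolynomial.coeff_coe, MvPolynomial.coeff_add]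
  rcases Nat.lt_or_ge d.degree 1 with h | h
  · have hd0 : d = 0 := (Finsupp.degree_eq_zero_iff d).1 (by omega)
    subst hd0
    rw [MvPolynomial.coeff_zero_C, (P.lin_isHomogeneous _ z).coeff_eq_zero (by simp), add_zero,
      MvPowerSeries.coeff_zero_eq_constantCoeff_apply, hτ.hcc, sub_self]
  · have hd1 : d.degree = 1 := by omega
    obtain ⟨s, hs⟩ : ∃ s, d s ≠ 0 := by
      by_contra hc
      push Not at hc
      rw [show d = 0 from Finsupp.ext hc] at hd1
      simp at hd1
    have hds : d = Finsupp.single s 1 := by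
      have hle : Finsupp.single s 1 ≤ d := by
        rw [Finsupp.single_le_iff]; omega
      have he : d = Finsupp.single s 1 + (d - Finsupp.single s 1) := (add_tsub_cancel_of_le hle).symm
      have hz := congrArg Finsupp.degree he
      rw [map_add, Finsupp.degree_single, hd1] at hz
      have hz0 : d - Finsupp.single s 1 = 0 := (Finsupp.degree_eq_zero_iff _).1 (by omega)
      rwa [hz0, add_zero] at he
    subst hds
    have h1 := MvPowerSeries.coeff_pderiv (R := k) (i := s) (τ z) 0
    rw [zero_add, Finsupp.zero_apply, Nat.cast_zero, zero_add, mul_one, MvPowerSeries.coeff_zero_eq_constantCoeff_apply,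
      hτ.hpd, hτ.hcc] at h1
    rw [← h1, lin, MvPolynomial.coeff_sum, Finset.sum_eq_single s
      (fun b _ hb => by rw [MvPolynomial.coeff_C_mul, MvPolynomial.coeff_X, if_neg (fun e => hb
        (Finsupp.single_left_injective one_ne_zero e)), mul_zero]) (by simp),
      MvPolynomial.coeff_C_mul, MvPolynomial.coeff_X, if_pos rfl, mul_one, MvPolynomial.coeff_C,
      if_neg (fun e => by simpa using congrArg Finsupp.degree e), zero_add, sub_self]

variable [Algebra.Smooth k A]

set_option maxHeartbeats 1000000 in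
/-- The coefficients of degree two of the expansion of an element of the square of the maximal ideal of a point
are values of linear differential operators. -/
theorem exists_hasse : ∃ hs : (Fin n →₀ ℕ) → (P.B →ₗ[k] P.B),
    ∀ (χ : A →ₐ[k] k) (τ : P.B →ₐ[k] MvPowerSeries (Fin n) k) (hτ : IsExp P χ τ),
      ∀ h ∈ RingHom.ker χ ^ 2, ∀ e : Fin n →₀ ℕ, e.degree = 2 →
        MvPowerSeries.coeff e (τ (algebraMap A P.B h)) = P.pt χ hτ.hf (hs e (algebraMap A P.B h)) := by
  classical
  haveI : Algebra.Smooth A P.B := inferInstance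
  haveI : Algebra.Smooth k P.B := Algebra.Smooth.comp k A P.B
  let SB := MvPolynomial (Fin n) P.B
  let J : Ideal SB := MvPolynomial.idealOfVars (Fin n) P.B
  let L : P.B → SB := fun z => MvPolynomial.C z + ∑ l, MvPolynomial.C (P.pd l z) * MvPolynomial.X l
  have hXJ : ∀ l, (MvPolynomial.X l : SB) ∈ J := fun l => Ideal.subset_span ⟨l, rfl⟩
  have hLmul : ∀ a b, L (a * b) - L a * L b ∈ J ^ 2 := by
    intro a b
    have e : L (a * b) - L a * L b =
        -((∑ l, MvPolynomial.C (P.pd l a) * MvPolynomial.X l) * (∑ l, MvPolynomial.C (P.pd l b) * MvPolynomial.X l)) := by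
      have e1 : (∑ l, MvPolynomial.C (P.pd l (a * b)) * (MvPolynomial.X l : SB)) =
          MvPolynomial.C a * (∑ l, MvPolynomial.C (P.pd l b) * MvPolynomial.X l) +
            MvPolynomial.C b * (∑ l, MvPolynomial.C (P.pd l a) * MvPolynomial.X l) := by
        rw [Finset.mul_sum, Finset.mul_sum, ← Finset.sum_add_distrib]
        refine Finset.sum_congr rfl fun l _ => ?_
        rw [pd_mul, map_add, map_mul, map_mul]
        ring
      simp only [L, e1, map_mul]
      ring
    rw [e, pow_two]
    exact neg_mem (Ideal.mul_mem_mul (Ideal.sum_mem _ fun l _ => Ideal.mul_mem_left _ _ (hXJ l))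
      (Ideal.sum_mem _ fun l _ => Ideal.mul_mem_left _ _ (hXJ l)))
  have hL0 : ∀ c : k, L (algebraMap k P.B c) = algebraMap k SB c := by
    intro c
    simp only [L, pd_algebraMap, map_zero, zero_mul, Finset.sum_const_zero, add_zero]
    rfl
  let Θ₁ : P.B →ₐ[k] SB ⧸ J ^ 2 :=
    { toFun := fun z => Ideal.Quotient.mk _ (L z)
      map_one' := by
        have := congrArg (Ideal.Quotient.mk (J ^ 2)) (hL0 1)
        rw [map_one, map_one, map_one] at this
        exact this
      map_mul' := fun a b => by rw [← map_mul]; exact Ideal.Quotient.eq.2 (hLmul a b)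
      map_zero' := by
        have := congrArg (Ideal.Quotient.mk (J ^ 2)) (hL0 0)
        rw [map_zero, map_zero, map_zero] at this
        exact this
      map_add' := fun a b => by
        rw [← map_add]
        congr 1
        simp only [L, map_add, pd_add, add_mul, Finset.sum_add_distrib]
        ring
      commutes' := fun c => congrArg (Ideal.Quotient.mk (J ^ 2)) (hL0 c) }
  obtain ⟨rep, hrepL, hadd, hmul, hsmul⟩ := exists_lift_pow J Θ₁
  have hco : ∀ x y : SB, x - y ∈ J ^ 3 → ∀ e : Fin n →₀ ℕ, e.degree < 3 → x.coeff e = y.coeff e := by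
    intro x y hxy e he
    have := (MvPolynomial.mem_pow_idealOfVars_iff' 3 _).1 hxy e he
    rwa [MvPolynomial.coeff_sub, sub_eq_zero] at this
  let hs : (Fin n →₀ ℕ) → (P.B →ₗ[k] P.B) := fun e =>
    if he : e.degree < 3 then
      { toFun := fun z => (rep z).coeff e
        map_add' := fun a b => by
          rw [← MvPolynomial.coeff_add]
          exact hco _ _ (hadd a b) e he
        map_smul' := fun c a => by
          rw [RingHom.id_apply, ← MvPolynomial.coeff_smul]
          exact hco _ _ (hsmul c a) e he }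
    else 0
  refine ⟨hs, fun χ τ hτ => ?_⟩
  let p := P.pt χ hτ.hf
  let Ψ : SB →ₐ[k] MvPowerSeries (Fin n) k :=
    (MvPolynomial.coeToMvPowerSeries.algHom k).comp (MvPolynomial.mapAlgHom p)
  have hΨ : ∀ x : SB, Ψ x = ((MvPolynomial.map p.toRingHom x : MvPolynomial (Fin n) k) : MvPowerSeries (Fin n) k) :=
    fun x => rfl
  have hΨJ : ∀ N, ∀ x ∈ J ^ N, Ψ x ∈ PSHom.V n k ^ N := fun N x hx => PSHom.mem_pow fun d hd => by
    rw [hΨ, MvPolynomial.coeff_coe, MvPolynomial.coeff_map, (MvPolynomial.mem_pow_idealOfVars_iff' N x).1 hx d hd,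
      map_zero]
  let T := PSHom.V n k ^ 3
  have hΨL : ∀ z, Ψ (L z) =
      ((MvPolynomial.C (p z) + P.lin p z : MvPolynomial (Fin n) k) : MvPowerSeries (Fin n) k) := fun z => by
    rw [hΨ]
    congr 1
    simp [L, lin]
  have hlin : ∀ a, Ψ (rep (algebraMap A P.B a)) - τ (algebraMap A P.B a) ∈ PSHom.V n k ^ 2 := fun a => by
    have h1 : rep (algebraMap A P.B a) - L (algebraMap A P.B a) ∈ J ^ 2 :=
      Ideal.Quotient.eq.1 (hrepL (algebraMap A P.B a))
    have := sub_mem (hΨJ 2 _ h1) (P.expansion_lin hτ (algebraMap A P.B a))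
    rw [map_sub, hΨL] at this
    change Ψ _ - ((MvPolynomial.C (p _) + P.lin p _ : MvPolynomial (Fin n) k) : MvPowerSeries (Fin n) k) -
      (_ - ((MvPolynomial.C (p _) + P.lin p _ : MvPolynomial (Fin n) k) : MvPowerSeries (Fin n) k)) ∈ _ at this
    rwa [sub_sub_sub_cancel_right] at this
  have hker : ∀ a ∈ RingHom.ker χ, τ (algebraMap A P.B a) ∈ PSHom.V n k := fun a ha => by
    have := (hτ.hmem 1 a).1 (by rwa [pow_one])
    rwa [pow_one] at this
  intro h hh e he
  suffices key : Ψ (rep (algebraMap A P.B h)) - τ (algebraMap A P.B h) ∈ T by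
    have h2 := PSHom.coeff_eq_zero_of_mem_pow key (d := e) (by omega)
    rw [map_sub, sub_eq_zero, hΨ, MvPolynomial.coeff_coe, MvPolynomial.coeff_map] at h2
    rw [← h2]
    simp only [hs, dif_pos (show e.degree < 3 by omega)]
    rfl
  rw [pow_two] at hh
  induction hh using Submodule.mul_induction_on' with
  | mem_mul_mem a ha b hb =>
    rw [map_mul (algebraMap A P.B), map_mul τ]
    have h3 := hΨJ 3 _ (hmul (algebraMap A P.B a) (algebraMap A P.B b))
    rw [map_sub, map_mul] at h3
    rw [← sub_add_sub_cancel _ (Ψ (rep (algebraMap A P.B a)) * Ψ (rep (algebraMap A P.B b))) _]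
    refine add_mem h3 ?_
    have e1 : Ψ (rep (algebraMap A P.B a)) * Ψ (rep (algebraMap A P.B b)) -
        τ (algebraMap A P.B a) * τ (algebraMap A P.B b) =
        (Ψ (rep (algebraMap A P.B a)) - τ (algebraMap A P.B a)) * (Ψ (rep (algebraMap A P.B b)) - τ (algebraMap A P.B b) + τ (algebraMap A P.B b)) +
          (Ψ (rep (algebraMap A P.B b)) - τ (algebraMap A P.B b)) * τ (algebraMap A P.B a) := by ring
    rw [e1, show T = PSHom.V n k ^ 2 * PSHom.V n k from pow_succ _ 2]
    exact add_mem (Ideal.mul_mem_mul (hlin a) (add_mem (Ideal.pow_le_self two_ne_zero (hlin b)) (hker b hb)))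
      (Ideal.mul_mem_mul (hlin b) (hker a ha))
  | add a _ b _ ha hb =>
    have h3 := hΨJ 3 _ (hadd (algebraMap A P.B a) (algebraMap A P.B b))
    rw [map_sub, map_add] at h3
    rw [map_add (algebraMap A P.B), map_add τ]
    convert add_mem h3 (add_mem ha hb) using 1
    ring

end Coord

end Groth.Agent.LefPen13
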