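import Groth.Agent.Lib.LefPen13.Homog
import Groth.Agent.Lib.LefPen13.Hasse

/-! # Degenerate double points form a closed set -/

set_option autoImplicit false
set_option linter.style.haveILetI false
set_option backward.isDefEq.respectTransparency false
set_option backward.isDefEq.respectTransparency.types false

universe u

open CategoryTheory CategoryTheory.Limits AlgebraicGeometry TopologicalSpace MvPolynomial
open Groth.Agent.H2Alg

noncomputable section

namespace Groth.Agent.LefPen13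

/-- Non-degenerate quadratic forms form an open set. -/
theorem exists_disc {k : Type u} [Field k] [IsAlgClosed k] {n : ℕ} (q₀ : MvPolynomial (Fin n) k)
    (hq₀ : q₀.IsHomogeneous 2) (hnd : Nondeg q₀) :
    ∃ (M : ℕ) (idx : Fin M → (Fin n →₀ ℕ)) (E : MvPolynomial (Fin M) k), (∀ t, (idx t).degree = 2) ∧
      MvPolynomial.eval (fun t => q₀.coeff (idx t)) E ≠ 0 ∧
      ∀ q : MvPolynomial (Fin n) k, q.IsHomogeneous 2 → ¬ Nondeg q →
        MvPolynomial.eval (fun t => q.coeff (idx t)) E = 0 := by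
  classical
  let T := (Finset.univ : Finset (Fin n)).finsuppAntidiag 2
  have hT : ∀ e : Fin n →₀ ℕ, e ∈ T ↔ e.degree = 2 := fun e => by simp [T, Finsupp.degree_eq_sum]
  let eT := Fintype.equivFin T
  let idx : Fin (Fintype.card T) → (Fin n →₀ ℕ) := fun t => (eT.symm t).1
  let P2 : MvPolynomial (Fin n) (MvPolynomial (Fin (Fintype.card T)) k) :=
    ∑ t, monomial (idx t) (MvPolynomial.X t)
  have hidx : ∀ t, (idx t).degree = 2 := fun t => (hT _).1 (eT.symm t).2
  have hP2 : P2.IsHomogeneous 2 := IsHomogeneous.sum _ _ _ fun t _ => isHomogeneous_monomial _ (hidx t)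
  have hmap : ∀ q : MvPolynomial (Fin n) k, q.IsHomogeneous 2 →
      MvPolynomial.map (MvPolynomial.eval fun t => q.coeff (idx t)) P2 = q := by
    intro q hq
    rw [map_sum]
    simp only [map_monomial, eval_X]
    ext e
    rw [coeff_sum]
    by_cases he : e.degree = 2
    · rw [Finset.sum_eq_single (eT ⟨e, (hT e).2 he⟩)]
      · simp [idx]
      · intro t _ ht
        rw [coeff_monomial, if_neg]
        intro h
        exact ht (eT.symm.injective (Subtype.ext (h.trans (by simp [idx]))))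
      · simp
    · rw [hq.coeff_eq_zero he]
      refine Finset.sum_eq_zero fun t _ => ?_
      rw [coeff_monomial, if_neg]
      intro h
      exact he (h ▸ hidx t)
  let Bd : (Fin n → k) → (Fin (Fintype.card T) → k) → Prop := fun v c =>
    v ≠ 0 ∧ ev v c P2 = 0 ∧ ∀ l, ev v c (pderiv l P2) = 0
  obtain ⟨E, hE0, hE⟩ := elim Bd (fun v c h => h.1) (fun t => q₀.coeff (idx t)) (by
    intro v hv
    by_cases h0 : MvPolynomial.eval v q₀ = 0
    · obtain ⟨l, hl⟩ := hnd v hv h0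
      refine ⟨1, pderiv l P2, hP2.pderiv, ?_, fun v' c' h => h.2.2 l⟩
      rw [ev_apply, ← pderiv_map, hmap q₀ hq₀]
      exact hl
    · refine ⟨2, P2, hP2, ?_, fun v' c' h => h.2.1⟩
      rw [ev_apply, hmap q₀ hq₀]
      exact h0)
  refine ⟨_, idx, E, hidx, hE0, fun q hq hnq => ?_⟩
  rw [Nondeg] at hnq
  push Not at hnq
  obtain ⟨v, hv, h0, hl⟩ := hnq
  refine hE v _ ⟨hv, ?_, fun l => ?_⟩
  · rw [ev_apply, hmap q hq, h0]
  · rw [ev_apply, ← pderiv_map, hmap q hq, hl l]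

/-- Clearing denominators. -/
theorem exists_clear {A B : Type u} [CommRing A] [CommRing B] [Algebra A B] (f : A) [IsLocalization.Away f B]
    {σ : Type*} (Q : MvPolynomial σ B) :
    ∃ (N : ℕ) (QA : MvPolynomial σ A), MvPolynomial.map (algebraMap A B) QA = MvPolynomial.C (algebraMap A B f ^ N) * Q := by
  classical
  induction Q using MvPolynomial.induction_on with
  | C b =>
    obtain ⟨⟨a, ⟨s, N, rfl⟩⟩, h⟩ := IsLocalization.surj (Submonoid.powers f) b
    refine ⟨N, MvPolynomial.C a, ?_⟩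
    rw [map_C, ← map_mul, mul_comm, ← h, map_pow]
  | add p q hp hq =>
    obtain ⟨N, P, hP⟩ := hp; obtain ⟨M, Q, hQ⟩ := hq
    refine ⟨N + M, MvPolynomial.C (f ^ M) * P + MvPolynomial.C (f ^ N) * Q, ?_⟩
    simp only [map_add, map_mul, map_C, map_pow, hP, hQ, pow_add]
    ring
  | mul_X p t hp =>
    obtain ⟨N, P, hP⟩ := hp
    exact ⟨N, P * MvPolynomial.X t, by rw [map_mul, map_X, hP, mul_assoc]⟩

variable {k : Type u} [Field k] [IsAlgClosed k] {r : ℕ} {X : Scheme.{u}} (i : X ⟶ CohB1.ProjSpace r k)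
  [IsClosedImmersion i] {d : ℕ}

section Indep

variable (H : LefPen.Form r k d) [Smooth (i ≫ CohB1.ProjSpace.toSpec r k)]

/-- One non-degenerate expansion suffices. -/
theorem nodeAt_of_one {n : ℕ} (hn : 1 ≤ n) (j : Fin (r + 1)) (χ : A i j →ₐ[k] k) (hs : π i j H.1 ∈ RingHom.ker χ ^ 2)
    (P : Coord k (A i j) n) (τ : P.B →ₐ[k] MvPowerSeries (Fin n) k) (hτ : IsExp P χ τ)
    (hN : Nondeg (qp (τ (algebraMap (A i j) P.B (π i j H.1))))) : NodeAt i H n j χ := by
  refine ⟨hs, fun P' τ' hτ' => ?_⟩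
  obtain ⟨E, hE⟩ := exists_cpl_secP i H j χ (apply_eq_zero_of_mem_sq i hs) P τ hτ
  obtain ⟨E', hE'⟩ := exists_cpl_secP i H j χ (apply_eq_zero_of_mem_sq i hs) P' τ' hτ'
  refine nondeg_of_ringEquiv hn ((hτ.hmem 2 _).1 hs) ((hτ'.hmem 2 _).1 hs) (E.symm.trans E') (fun c => ?_) hN
  show E' (E.symm _) = _
  rw [← hE c, E.symm_apply_apply]
  exact hE' c

theorem NodeAt.samePt {m : ℕ} [SmoothOfRelativeDimension (m + 1) (i ≫ CohB1.ProjSpace.toSpec r k)]
    {j l : Fin (r + 1)} {χ : A i j →ₐ[k] k} {χ' : A i l →ₐ[k] k} (h : NodeAt i H (m + 1) j χ)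
    (hsame : SamePt i j χ l χ') : NodeAt i H (m + 1) l χ' := by
  have hs : π i l H.1 ∈ RingHom.ker χ' ^ 2 := (hsame.singular_iff i H).2 h.1
  rw [← isOrdQuadSing_iff i H l χ' hs, ← (secP_eq_iff i H χ (apply_eq_zero_of_mem_sq i h.1) χ' _).2 hsame]
  exact (isOrdQuadSing_iff i H j χ h.1).2 h

end Indep

variable {m : ℕ} (b : Module.Basis (Fin m) k (LefPen.Form r k d))
  [Smooth (i ≫ CohB1.ProjSpace.toSpec r k)]

/-- Near a node there is no degenerate double point. -/
theorem exists_sep_degen {n : ℕ} (hn : 1 ≤ n) [SmoothOfRelativeDimension n (i ≫ CohB1.ProjSpace.toSpec r k)]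
    (j : Fin (r + 1)) (χ : A i j →ₐ[k] k) (c₀ : Fin m → k) (hnode : NodeAt i (b.equivFun.symm c₀) n j χ) :
    ∃ Q : MvPolynomial (Fin m) (A i j), MvPolynomial.eval₂ χ.toRingHom c₀ Q ≠ 0 ∧
      ∀ χ' c, π i j (b.equivFun.symm c).1 ∈ RingHom.ker χ' ^ 2 → ¬ NodeAt i (b.equivFun.symm c) n j χ' →
        MvPolynomial.eval₂ χ'.toRingHom c Q = 0 := by
  classical
  haveI := smooth i j
  obtain ⟨P, τ, hτ⟩ := exists_isExp (locally_std i n j) χ
  obtain ⟨M, idx, E, hidx, hE0, hE⟩ := exists_disc _ (qp_isHomogeneous _) (hnode.2 P τ hτ)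
  obtain ⟨hs, hhs⟩ := P.exists_hasse
  let L : Fin M → MvPolynomial (Fin m) P.B := fun t =>
    ∑ s, MvPolynomial.C (hs (idx t) (algebraMap (A i j) P.B (fam i b j s))) * MvPolynomial.X s
  obtain ⟨N, QA, hQA⟩ := exists_clear (A := A i j) P.f (MvPolynomial.eval₂ (algebraMap k (MvPolynomial (Fin m) P.B)) L E)
  have key : ∀ (χ' : A i j →ₐ[k] k) (hf : χ' P.f ≠ 0) (τ' : P.B →ₐ[k] MvPowerSeries (Fin n) k), IsExp P χ' τ' → ∀ c,
      π i j (b.equivFun.symm c).1 ∈ RingHom.ker χ' ^ 2 →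
      MvPolynomial.eval₂ χ'.toRingHom c QA = χ' P.f ^ N *
        MvPolynomial.eval (fun t => (qp (τ' (algebraMap (A i j) P.B (π i j (b.equivFun.symm c).1)))).coeff (idx t)) E := by
    intro χ' hf τ' hτ' c hc
    let p := P.pt χ' hτ'.hf
    have hp : p.toRingHom.comp (algebraMap (A i j) P.B) = χ'.toRingHom := RingHom.ext fun a => P.piece.pt_algebraMap χ' hτ'.hf a
    have h1 : MvPolynomial.eval₂ χ'.toRingHom c QA = MvPolynomial.eval₂ p.toRingHom c (MvPolynomial.map (algebraMap (A i j) P.B) QA) := by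
      rw [MvPolynomial.eval₂_map, hp]
    rw [h1, hQA, MvPolynomial.eval₂_mul, MvPolynomial.eval₂_C, map_pow]
    congr 1
    · congr 1
      exact P.piece.pt_algebraMap χ' hτ'.hf P.f
    show eval₂Hom p.toRingHom c (eval₂Hom (algebraMap k (MvPolynomial (Fin m) P.B)) L E) = _
    rw [← RingHom.comp_apply]
    refine congrArg (fun φ : MvPolynomial (Fin M) k →+* k => φ E) (MvPolynomial.ringHom_ext (fun a => ?_) fun t => ?_)
    · rw [RingHom.comp_apply, eval₂Hom_C, MvPolynomial.eval_C, IsScalarTower.algebraMap_apply k P.B (MvPolynomial (Fin m) P.B),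
        MvPolynomial.algebraMap_eq, eval₂Hom_C]
      exact p.commutes a
    · rw [RingHom.comp_apply, eval₂Hom_X', MvPolynomial.eval_X, coeff_qp _ (hidx t), hhs χ' τ' hτ' _ hc _ (hidx t),
        ← sum_fam, map_sum, map_sum, map_sum]
      simp only [L, map_mul, eval₂Hom_C, eval₂Hom_X']
      rw [map_sum]
      refine Finset.sum_congr rfl fun s _ => ?_
      rw [← IsScalarTower.coe_toAlgHom' k (A i j) P.B, map_smul, map_smul, map_smul, smul_eq_mul, mul_comm]
      rfl
  refine ⟨MvPolynomial.C P.f * QA, ?_, fun χ' c hc hn' => ?_⟩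
  · rw [MvPolynomial.eval₂_mul, MvPolynomial.eval₂_C, key χ hτ.hf τ hτ c₀ hnode.1]
    exact mul_ne_zero hτ.hf (mul_ne_zero (pow_ne_zero _ hτ.hf) hE0)
  · rw [MvPolynomial.eval₂_mul, MvPolynomial.eval₂_C]
    by_cases hf : χ' P.f = 0
    · exact mul_eq_zero_of_left hf _
    obtain ⟨τ', h1, h2, h3, h4⟩ := P.exists_expansion (locally_std i n j) χ' hf
    have hτ' : IsExp P χ' τ' := ⟨hf, h1, h2, h3, h4⟩
    rw [key χ' hf τ' hτ' c hc, hE _ (qp_isHomogeneous _) (fun h => hn' (nodeAt_of_one i _ hn j χ' hc P τ' hτ' h)),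
      mul_zero, mul_zero]

end Groth.Agent.LefPen13
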