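import Groth.Agent.Lib.LefPen13.Hasse

/-! # Near a non-degenerate double point there is no second singular point -/

set_option autoImplicit false
set_option linter.style.haveILetI false
universe u v

open scoped TensorProduct
open Groth.Agent.H2Alg

noncomputable section

namespace Groth.Agent.LefPen13

section Nakayama

variable {k : Type u} [Field k] [IsAlgClosed k] {R : Type v} [CommRing R] [Algebra k R]

theorem pow_le_sup (𝔪 I J : Ideal R) {n : ℕ} (δ : Fin n → R) (hδ : ∀ l, δ l ∈ I)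
    (hgen : I ≤ Ideal.span (Set.range δ) ⊔ (𝔪 * I ⊔ J)) :
    ∀ D : ℕ, I ^ D ≤ Ideal.span (Set.range δ) ^ D ⊔ (𝔪 * I ^ D ⊔ J) := by
  intro D
  have hS : Ideal.span (Set.range δ) ≤ I := Ideal.span_le.2 (by rintro _ ⟨l, rfl⟩; exact hδ l)
  induction D with
  | zero => simp
  | succ D ih =>
    rw [pow_succ]
    refine (Ideal.mul_mono_left ih).trans ?_
    rw [Ideal.sup_mul, Ideal.sup_mul]
    refine sup_le ?_ (sup_le ?_ ?_)
    · refine (Ideal.mul_mono_right hgen).trans ?_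
      rw [Ideal.mul_sup, Ideal.mul_sup, ← pow_succ]
      refine sup_le le_sup_left (sup_le ?_ (Ideal.mul_le_right.trans (le_sup_right.trans le_sup_right)))
      refine le_trans ?_ (le_sup_left.trans le_sup_right)
      rw [mul_left_comm]
      exact Ideal.mul_mono_right (Ideal.mul_mono_left (Ideal.pow_right_mono hS D))
    · rw [mul_assoc]
      exact le_sup_left.trans le_sup_right
    · exact Ideal.mul_le_left.trans (le_sup_right.trans le_sup_right)

omit [IsAlgClosed k] [Algebra k R] in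
theorem absorb (𝔪 I J : Ideal R) (a b : ℕ) : I ^ a * (J ⊔ 𝔪 * I ^ b) ≤ J ⊔ 𝔪 * I ^ (a + b) := by
  rw [Ideal.mul_sup, mul_left_comm, ← pow_add]
  exact sup_le_sup Ideal.mul_le_right le_rfl

/-- The infinitesimal criterion. -/
theorem nakayama_core [IsNoetherianRing R] (𝔪 I J : Ideal R) (_hI : I ≤ 𝔪) (hJ : J ≤ 𝔪) {n : ℕ} (δ : Fin n → R)
    (hδ : ∀ l, δ l ∈ I) (hgen : I ≤ Ideal.span (Set.range δ) ⊔ (𝔪 * I ⊔ J)) (q : MvPolynomial (Fin n) k)
    (hq : q.IsHomogeneous 2) (hnd : Nondeg q) (h2 : MvPolynomial.aeval δ q ∈ J ⊔ 𝔪 * I ^ 2)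
    (h1 : ∀ l, MvPolynomial.aeval δ (MvPolynomial.pderiv l q) ∈ J ⊔ 𝔪 * I) :
    ∃ (D : ℕ) (e : R), e - 1 ∈ 𝔪 ∧ ∀ x ∈ I ^ D, e * x ∈ J := by
  classical
  let gens : Set (MvPolynomial (Fin n) k) := insert q (Set.range fun l => MvPolynomial.pderiv l q)
  have hzero : ∀ x ∈ MvPolynomial.zeroLocus k (Ideal.span gens), x = 0 := by
    intro x hx
    by_contra hx0
    have hev : ∀ p ∈ gens, MvPolynomial.eval x p = 0 := fun p hp => by
      rw [← MvPolynomial.aeval_eq_eval]; exact hx _ (Ideal.subset_span hp)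
    obtain ⟨l, hl⟩ := hnd x hx0 (hev q (Set.mem_insert _ _))
    exact hl (hev _ (Set.mem_insert_of_mem _ ⟨l, rfl⟩))
  have hpow : ∀ l, ∃ N : ℕ, (MvPolynomial.X l : MvPolynomial (Fin n) k) ^ (N + 1) ∈ Ideal.span gens := by
    intro l
    have h0 : (MvPolynomial.X l : MvPolynomial (Fin n) k) ∈ (Ideal.span gens).radical := by
      rw [← MvPolynomial.vanishingIdeal_zeroLocus_eq_radical (K := k)]
      intro x hx
      rw [hzero x hx]
      simp
    obtain ⟨N, hN⟩ := h0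
    exact ⟨N, by rw [pow_succ]; exact Ideal.mul_mem_right _ _ hN⟩
  choose N hN using hpow
  let D := ∑ l, N l + 1
  have hS : Ideal.span (Set.range δ) ≤ I := Ideal.span_le.2 (by rintro _ ⟨l, rfl⟩; exact hδ l)
  have hmonI : ∀ (β : Fin n →₀ ℕ) (c : k), MvPolynomial.aeval δ (MvPolynomial.monomial β c) ∈ I ^ β.degree := by
    intro β c
    rw [MvPolynomial.aeval_monomial, Finsupp.prod_pow, Finsupp.degree_eq_sum, ← Finset.prod_pow_eq_pow_sum]
    exact Ideal.mul_mem_left _ _ (Ideal.prod_mem_prod fun l _ => Ideal.pow_mem_pow (hδ l) _)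
  have hgenmem : ∀ (g : MvPolynomial (Fin n) k) (e : ℕ), g.IsHomogeneous e → MvPolynomial.aeval δ g ∈ J ⊔ 𝔪 * I ^ e →
      ∀ (f : MvPolynomial (Fin n) k) (E : ℕ),
        MvPolynomial.aeval δ (MvPolynomial.homogeneousComponent E (f * g)) ∈ J ⊔ 𝔪 * I ^ E := by
    intro g e hg hge f E
    induction f using MvPolynomial.induction_on' with
    | add f f' hf hf' => rw [add_mul, map_add, map_add]; exact add_mem hf hf'
    | monomial β c =>
    rw [MvPolynomial.homogeneousComponent_of_mem ((MvPolynomial.mem_homogeneousSubmodule _ _).2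
      ((MvPolynomial.isHomogeneous_monomial c (n := β.degree) rfl).mul hg))]
    split_ifs with hE
    · rw [map_mul, hE]
      have := Ideal.mul_mem_mul (hmonI β c) hge
      exact absorb 𝔪 I J _ _ this
    · simp
  have hspan : ∀ p ∈ Ideal.span gens, ∀ (f : MvPolynomial (Fin n) k) (E : ℕ),
      MvPolynomial.aeval δ (MvPolynomial.homogeneousComponent E (f * p)) ∈ J ⊔ 𝔪 * I ^ E := by
    intro p hp
    induction hp using Submodule.span_induction with
    | mem p hp =>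
      rcases hp with rfl | ⟨l, rfl⟩
      · exact hgenmem _ 2 hq h2
      · exact hgenmem _ 1 hq.pderiv (by rw [pow_one]; exact h1 l)
    | zero => intro f E; simp
    | add p p' _ _ hp hp' =>
      intro f E
      rw [mul_add, map_add, map_add]
      exact add_mem (hp f E) (hp' f E)
    | smul c p _ hp =>
      intro f E
      rw [smul_eq_mul, ← mul_assoc]
      exact hp (f * c) E
  have hβ : ∀ β : Fin n →₀ ℕ, β.degree = D →
      MvPolynomial.aeval δ (MvPolynomial.monomial β (1 : k)) ∈ J ⊔ 𝔪 * I ^ D := by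
    intro β hb
    obtain ⟨l, hl⟩ : ∃ l, N l + 1 ≤ β l := by
      by_contra hc
      push Not at hc
      have h3 : ∑ l, β l ≤ ∑ l, N l := Finset.sum_le_sum fun l _ => Nat.lt_succ_iff.1 (hc l)
      rw [Finsupp.degree_eq_sum] at hb
      omega
    have hsplit : (MvPolynomial.monomial β (1 : k)) =
        MvPolynomial.monomial (β - Finsupp.single l (N l + 1)) 1 * MvPolynomial.X l ^ (N l + 1) := by
      rw [MvPolynomial.X_pow_eq_monomial, MvPolynomial.monomial_mul, one_mul,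
        tsub_add_cancel_of_le (Finsupp.single_le_iff.2 hl)]
    have := hspan _ (hN l) (MvPolynomial.monomial (β - Finsupp.single l (N l + 1)) 1) D
    rwa [← hsplit, MvPolynomial.homogeneousComponent_of_mem ((MvPolynomial.mem_homogeneousSubmodule _ _).2
      (MvPolynomial.isHomogeneous_monomial _ hb)), if_pos rfl] at this
  have hD : I ^ D ≤ J ⊔ 𝔪 * I ^ D := by
    refine (pow_le_sup 𝔪 I J δ hδ hgen D).trans (sup_le ?_ (sup_le le_sup_right le_sup_left))
    have e : Ideal.span (Set.range δ) =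
        (MvPolynomial.idealOfVars (Fin n) k).map (MvPolynomial.aeval δ : MvPolynomial (Fin n) k →ₐ[k] R) := by
      rw [Ideal.map_span, ← Set.range_comp]
      simp [Function.comp_def]
    rw [e, ← Ideal.map_pow, MvPolynomial.pow_idealOfVars_eq_span, Ideal.map_span, Ideal.span_le]
    rintro _ ⟨_, ⟨β, hb, rfl⟩, rfl⟩
    exact hβ β hb
  let mk := Ideal.Quotient.mk J
  have hN' : (I ^ D).map mk ≤ 𝔪.map mk • (I ^ D).map mk := by
    rw [smul_eq_mul, ← Ideal.map_mul]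
    refine (Ideal.map_mono hD).trans ?_
    rw [Ideal.map_sup, Ideal.map_quotient_self, bot_sup_eq]
  obtain ⟨r, hr, hr0⟩ := Submodule.exists_sub_one_mem_and_smul_eq_zero_of_fg_of_le_smul (𝔪.map mk) ((I ^ D).map mk)
    (IsNoetherian.noetherian _) hN'
  obtain ⟨e, rfl⟩ := Ideal.Quotient.mk_surjective r
  refine ⟨D, e, ?_, fun x hx => ?_⟩
  · have : e - 1 ∈ (𝔪.map mk).comap mk := by rw [Ideal.mem_comap, map_sub, map_one]; exact hr
    rwa [Ideal.comap_map_of_surjective _ Ideal.Quotient.mk_surjective, ← RingHom.ker_eq_comap_bot, Ideal.mk_ker,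
      sup_eq_left.2 hJ] at this
  · rw [← Ideal.Quotient.eq_zero_iff_mem, map_mul, ← smul_eq_mul]
    exact hr0 _ (Ideal.mem_map_of_mem mk hx)

end Nakayama

namespace Coord

variable {k : Type u} [Field k] {A : Type u} [CommRing A] [Algebra k A] {n : ℕ} (P : Coord k A n)

section Abstract

variable {R : Type v} [CommRing R] [Algebra k R] (ι₁ ι₂ : P.B →ₐ[k] R)

/-- Differences of the two factors. -/
def df (g : P.B) : R := ι₂ g - ι₁ g

/-- The second order remainder. -/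
def om (g : P.B) : R :=
  P.df ι₁ ι₂ g - ∑ l, ι₁ (P.pd l g) * P.df ι₁ ι₂ (algebraMap A P.B (P.y l))

theorem df_add (a b : P.B) : P.df ι₁ ι₂ (a + b) = P.df ι₁ ι₂ a + P.df ι₁ ι₂ b := by
  simp only [df, map_add]; ring

theorem df_mul (a b : P.B) : P.df ι₁ ι₂ (a * b) =
    ι₁ a * P.df ι₁ ι₂ b + ι₁ b * P.df ι₁ ι₂ a + P.df ι₁ ι₂ a * P.df ι₁ ι₂ b := by
  simp only [df, map_mul]; ring

theorem df_smul (c : k) (a : P.B) : P.df ι₁ ι₂ (c • a) = c • P.df ι₁ ι₂ a := by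
  simp only [df, map_smul, smul_sub]

theorem df_algebraMap (c : k) : P.df ι₁ ι₂ (algebraMap k P.B c) = 0 := by
  simp [df]

theorem om_add (a b : P.B) : P.om ι₁ ι₂ (a + b) = P.om ι₁ ι₂ a + P.om ι₁ ι₂ b := by
  simp only [om, df_add, pd_add, map_add, add_mul, Finset.sum_add_distrib]; ring

theorem om_mul (a b : P.B) : P.om ι₁ ι₂ (a * b) =
    ι₁ a * P.om ι₁ ι₂ b + ι₁ b * P.om ι₁ ι₂ a + P.df ι₁ ι₂ a * P.df ι₁ ι₂ b := by
  simp only [om, df_mul, pd_mul, map_add, map_mul, add_mul, mul_assoc, Finset.sum_add_distrib, ← Finset.mul_sum]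
  ring

theorem om_smul (c : k) (a : P.B) : P.om ι₁ ι₂ (c • a) = c • P.om ι₁ ι₂ a := by
  simp only [om, df_smul, pd_smul, map_smul, smul_mul_assoc, smul_sub, Finset.smul_sum]

theorem om_mem {I : Ideal R} (hI : ∀ g, P.df ι₁ ι₂ g ∈ I) (g : P.B) : P.om ι₁ ι₂ g ∈ I ^ 2 := by
  letI : Algebra P.B (R ⧸ I ^ 2) := ((Ideal.Quotient.mk (I ^ 2)).comp ι₁.toRingHom).toAlgebra
  haveI : IsScalarTower k P.B (R ⧸ I ^ 2) := IsScalarTower.of_algebraMap_eq fun c => by
    show algebraMap k (R ⧸ I ^ 2) c = Ideal.Quotient.mk _ (ι₁ (algebraMap k P.B c))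
    rw [ι₁.commutes]
    rfl
  let L : P.B →ₗ[k] R ⧸ I ^ 2 :=
    (Ideal.Quotient.mkₐ k (I ^ 2)).toLinearMap.comp (ι₂.toLinearMap - ι₁.toLinearMap)
  let D' : Derivation k P.B (R ⧸ I ^ 2) :=
    Derivation.mk' L fun a b => by
      show Ideal.Quotient.mk _ (P.df ι₁ ι₂ (a * b)) =
        Ideal.Quotient.mk _ (ι₁ a) * Ideal.Quotient.mk _ (P.df ι₁ ι₂ b) +
          Ideal.Quotient.mk _ (ι₁ b) * Ideal.Quotient.mk _ (P.df ι₁ ι₂ a)
      rw [df_mul, map_add, map_add, map_mul, map_mul,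
        Ideal.Quotient.eq_zero_iff_mem.2 (show P.df ι₁ ι₂ a * P.df ι₁ ι₂ b ∈ I ^ 2 by
          rw [pow_two]; exact Ideal.mul_mem_mul (hI a) (hI b)), add_zero]
  have h1 := D'.liftKaehlerDifferential_comp_D g
  rw [← P.b.sum_repr (KaehlerDifferential.D k P.B g), map_sum] at h1
  have h2 : ∀ l, D'.liftKaehlerDifferential (P.b.repr (KaehlerDifferential.D k P.B g) l • P.b l) =
      Ideal.Quotient.mk _ (ι₁ (P.pd l g) * P.df ι₁ ι₂ (algebraMap A P.B (P.y l))) := fun l => by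
    rw [map_smul, P.hb, Derivation.liftKaehlerDifferential_comp_D, map_mul]
    rfl
  simp only [h2, ← map_sum] at h1
  exact Ideal.Quotient.eq.1 h1.symm

variable {ι₁ ι₂} {𝔪 I : Ideal R} (hI : ∀ g, P.df ι₁ ι₂ g ∈ I) (hIm : I ≤ 𝔪) (p : P.B →ₐ[k] k)
  (hp : ∀ g, ι₁ g - algebraMap k R (p g) ∈ 𝔪)

/-- The images of the coordinates. -/
abbrev del (ι₁ ι₂ : P.B →ₐ[k] R) : Fin n → R := fun l => P.df ι₁ ι₂ (algebraMap A P.B (P.y l))

include hI hIm hp in
theorem df_lin (g : P.B) : P.df ι₁ ι₂ g - MvPolynomial.aeval (P.del ι₁ ι₂) (P.lin p g) ∈ 𝔪 * I := by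
  have e : P.df ι₁ ι₂ g - MvPolynomial.aeval (P.del ι₁ ι₂) (P.lin p g) =
      P.om ι₁ ι₂ g + ∑ l, (ι₁ (P.pd l g) - algebraMap k R (p (P.pd l g))) * P.df ι₁ ι₂ (algebraMap A P.B (P.y l)) := by
    simp only [lin, map_sum, map_mul, MvPolynomial.aeval_C, MvPolynomial.aeval_X, om, sub_mul, Finset.sum_sub_distrib]
    ring
  rw [e]
  refine add_mem ?_ (Ideal.sum_mem _ fun l _ => Ideal.mul_mem_mul (hp _) (hI _))
  refine (?_ : I ^ 2 ≤ 𝔪 * I) (P.om_mem ι₁ ι₂ hI g)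
  rw [pow_two]
  exact Ideal.mul_mono_left hIm

theorem aeval_lin_mem (ι₁ ι₂ : P.B →ₐ[k] R) {I : Ideal R} (hI : ∀ g, P.df ι₁ ι₂ g ∈ I) (p : P.B →ₐ[k] k) (g : P.B) :
    MvPolynomial.aeval (P.del ι₁ ι₂) (P.lin p g) ∈ I := by
  simp only [lin, map_sum, map_mul, MvPolynomial.aeval_X]
  exact Ideal.sum_mem _ fun l _ => Ideal.mul_mem_left _ _ (hI _)

theorem pderiv_lin (p : P.B →ₐ[k] k) (l : Fin n) (g : P.B) :
    MvPolynomial.pderiv l (P.lin p g) = MvPolynomial.C (p (P.pd l g)) := by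
  classical
  simp only [lin, map_sum, MvPolynomial.pderiv_C_mul]
  rw [Finset.sum_eq_single l]
  · simp
  · intro b _ hb; simp [MvPolynomial.pderiv_X_of_ne hb]
  · simp

include hI hIm hp in
/-- The quadratic part read in the infinitesimal neighbourhood of the diagonal. -/
theorem quad_mem (τ : P.B →ₐ[k] MvPowerSeries (Fin n) k)
    (hτ : ∀ z, τ z - ((MvPolynomial.C (p z) + P.lin p z : MvPolynomial (Fin n) k) : MvPowerSeries (Fin n) k) ∈
      PSHom.V n k ^ 2) {h : P.B} (hh : h ∈ RingHom.ker p ^ 2) :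
    P.om ι₁ ι₂ h - MvPolynomial.aeval (P.del ι₁ ι₂) (qp (τ h)) ∈ 𝔪 * I ^ 2 ∧
      ∀ l, P.df ι₁ ι₂ (P.pd l h) - MvPolynomial.aeval (P.del ι₁ ι₂) (MvPolynomial.pderiv l (qp (τ h))) ∈ 𝔪 * I := by
  rw [pow_two] at hh
  induction hh using Submodule.mul_induction_on' with
  | mem_mul_mem a ha b hb =>
    rw [RingHom.mem_ker] at ha hb
    have hτ0 : ∀ z, p z = 0 → τ z - ((P.lin p z : MvPolynomial (Fin n) k) : MvPowerSeries (Fin n) k) ∈ PSHom.V n k ^ 2 :=
      fun z hz => by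
        have := hτ z
        rwa [hz, map_zero, zero_add] at this
    have hV : ∀ z, p z = 0 → ((P.lin p z : MvPolynomial (Fin n) k) : MvPowerSeries (Fin n) k) ∈ PSHom.V n k :=
      fun z _ => by
        rw [← pow_one (PSHom.V n k)]
        exact PSHom.mem_pow fun d hd => by
          rw [MvPolynomial.coeff_coe]
          exact (P.lin_isHomogeneous p z).coeff_eq_zero (by omega)
    have hq : qp (τ (a * b)) = P.lin p a * P.lin p b := by
      refine (qp_eq_of_sub_mem ?_).trans (qp_coe ((P.lin_isHomogeneous p a).mul (P.lin_isHomogeneous p b)))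
      rw [map_mul, MvPolynomial.coe_mul, show (3 : ℕ) = 2 + 1 from rfl, pow_succ]
      have e : τ a * τ b - ((P.lin p a : MvPolynomial (Fin n) k) : MvPowerSeries (Fin n) k) * (P.lin p b : MvPolynomial (Fin n) k) =
          (τ a - (P.lin p a : MvPolynomial (Fin n) k)) * τ b +
            (τ b - (P.lin p b : MvPolynomial (Fin n) k)) * ((P.lin p a : MvPolynomial (Fin n) k) : MvPowerSeries (Fin n) k) := by ring
      rw [e]
      refine add_mem (Ideal.mul_mem_mul (hτ0 a ha) ?_) (Ideal.mul_mem_mul (hτ0 b hb) (hV a ha))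
      have := add_mem (Ideal.pow_le_self two_ne_zero (hτ0 b hb)) (hV b hb)
      rwa [sub_add_cancel] at this
    have h1a : ι₁ a ∈ 𝔪 := by simpa [ha] using hp a
    have h1b : ι₁ b ∈ 𝔪 := by simpa [hb] using hp b
    refine ⟨?_, fun l => ?_⟩
    · rw [hq, om_mul, map_mul]
      have e : ι₁ a * P.om ι₁ ι₂ b + ι₁ b * P.om ι₁ ι₂ a + P.df ι₁ ι₂ a * P.df ι₁ ι₂ b -
          MvPolynomial.aeval (P.del ι₁ ι₂) (P.lin p a) * MvPolynomial.aeval (P.del ι₁ ι₂) (P.lin p b) =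
          ι₁ a * P.om ι₁ ι₂ b + ι₁ b * P.om ι₁ ι₂ a +
            ((P.df ι₁ ι₂ a - MvPolynomial.aeval (P.del ι₁ ι₂) (P.lin p a)) * P.df ι₁ ι₂ b +
              (P.df ι₁ ι₂ b - MvPolynomial.aeval (P.del ι₁ ι₂) (P.lin p b)) * MvPolynomial.aeval (P.del ι₁ ι₂) (P.lin p a)) := by
        ring
      rw [e]
      refine add_mem (add_mem (Ideal.mul_mem_mul h1a (P.om_mem ι₁ ι₂ hI b)) (Ideal.mul_mem_mul h1b (P.om_mem ι₁ ι₂ hI a))) ?_
      rw [pow_two, ← mul_assoc]
      exact add_mem (Ideal.mul_mem_mul (P.df_lin hI hIm p hp a) (hI b))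
        (Ideal.mul_mem_mul (P.df_lin hI hIm p hp b) (P.aeval_lin_mem ι₁ ι₂ hI p a))
    · rw [hq, pd_mul, df_add, df_mul, df_mul, MvPolynomial.pderiv_mul, pderiv_lin, pderiv_lin, map_add, map_mul,
        map_mul, MvPolynomial.aeval_C, MvPolynomial.aeval_C]
      have e : ∀ (u v : R) (du dv cu cv lu lv : R),
          u * dv + v * du + du * dv - cv * lu =
            u * dv + (v - cv) * du + cv * (du - lu) + du * dv := fun u v du dv cu cv lu lv => by ring
      have key : ∀ (x y : P.B), p x = 0 → ι₁ x * P.df ι₁ ι₂ (P.pd l y) + ι₁ (P.pd l y) * P.df ι₁ ι₂ x +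
          P.df ι₁ ι₂ x * P.df ι₁ ι₂ (P.pd l y) -
          algebraMap k R (p (P.pd l y)) * MvPolynomial.aeval (P.del ι₁ ι₂) (P.lin p x) ∈ 𝔪 * I := by
        intro x y hx
        rw [e (ι₁ x) (ι₁ (P.pd l y)) (P.df ι₁ ι₂ x) (P.df ι₁ ι₂ (P.pd l y)) 0 (algebraMap k R (p (P.pd l y)))
          (MvPolynomial.aeval (P.del ι₁ ι₂) (P.lin p x)) 0]
        refine add_mem (add_mem (add_mem (Ideal.mul_mem_mul (by simpa [hx] using hp x) (hI _))
          (Ideal.mul_mem_mul (hp _) (hI _))) (Ideal.mul_mem_left _ _ (P.df_lin hI hIm p hp x))) ?_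
        exact Ideal.mul_mem_mul (hIm (hI _)) (hI _)
      have := add_mem (key a b ha) (key b a hb)
      convert this using 1
      ring
  | add a _ b _ ha hb =>
    have hab : qp (τ (a + b)) = qp (τ a) + qp (τ b) := by
      rw [map_add, qp, map_add, map_add]; rfl
    refine ⟨?_, fun l => ?_⟩
    · rw [om_add, hab, map_add, add_sub_add_comm]
      exact add_mem ha.1 hb.1
    · rw [pd_add, df_add, hab, map_add, map_add, add_sub_add_comm]
      exact add_mem (ha.2 l) (hb.2 l)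

include hI hIm hp in
/-- Separation of the diagonal in an abstract ring. -/
theorem diag_core [IsAlgClosed k] [IsNoetherianRing R] (hspan : I ≤ Ideal.span (Set.range fun g => P.df ι₁ ι₂ g))
    (τ : P.B →ₐ[k] MvPowerSeries (Fin n) k)
    (hτ : ∀ z, τ z - ((MvPolynomial.C (p z) + P.lin p z : MvPolynomial (Fin n) k) : MvPowerSeries (Fin n) k) ∈
      PSHom.V n k ^ 2) {m : ℕ} (g : Fin m → P.B) (cR : Fin m → R) (c₀ : Fin m → k)
    (hc : ∀ t, cR t - algebraMap k R (c₀ t) ∈ 𝔪) (h0 : ∑ t, c₀ t • g t ∈ RingHom.ker p ^ 2)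
    (hnd : Nondeg (qp (τ (∑ t, c₀ t • g t)))) (J : Ideal R)
    (hJ0 : ∀ ι ∈ ({ι₁, ι₂} : Set (P.B →ₐ[k] R)), ∑ t, cR t * ι (g t) ∈ J)
    (hJ1 : ∀ ι ∈ ({ι₁, ι₂} : Set (P.B →ₐ[k] R)), ∀ l, ∑ t, cR t * ι (P.pd l (g t)) ∈ J)
    (hJm : J ≤ 𝔪) :
    ∃ (D : ℕ) (e : R), e - 1 ∈ 𝔪 ∧ ∀ x ∈ I ^ D, e * x ∈ J := by
  have hc' : ∀ (L : P.B → R) (K : Ideal R), (∀ t, L (g t) ∈ K) →
      ∑ t, cR t * L (g t) - ∑ t, c₀ t • L (g t) ∈ 𝔪 * K := fun L K hL => by
    rw [← Finset.sum_sub_distrib]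
    refine Ideal.sum_mem _ fun t _ => ?_
    rw [Algebra.smul_def, ← sub_mul]
    exact Ideal.mul_mem_mul (hc t) (hL t)
  obtain ⟨hq2, hq1⟩ := P.quad_mem hI hIm p hp τ hτ h0
  refine nakayama_core 𝔪 I J hIm hJm (P.del ι₁ ι₂) (fun l => hI _) ?_ _ (qp_isHomogeneous _) hnd ?_ (fun l => ?_)
  · refine hspan.trans (Ideal.span_le.2 ?_)
    rintro _ ⟨z, rfl⟩
    have h1 := P.df_lin hI hIm p hp z
    have h2 : MvPolynomial.aeval (P.del ι₁ ι₂) (P.lin p z) ∈ Ideal.span (Set.range (P.del ι₁ ι₂)) := by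
      simp only [lin, map_sum, map_mul, MvPolynomial.aeval_X]
      exact Ideal.sum_mem _ fun l _ => Ideal.mul_mem_left _ _ (Ideal.subset_span ⟨l, rfl⟩)
    have := add_mem (Submodule.mem_sup_left (T := 𝔪 * I ⊔ J) h2) (Submodule.mem_sup_right (Submodule.mem_sup_left h1))
    rwa [add_sub_cancel] at this
  · have e1 : P.om ι₁ ι₂ (∑ t, c₀ t • g t) = ∑ t, c₀ t • P.om ι₁ ι₂ (g t) := by
      let L : P.B →ₗ[k] R := { toFun := P.om ι₁ ι₂, map_add' := P.om_add ι₁ ι₂, map_smul' := P.om_smul ι₁ ι₂ }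
      exact (map_sum L _ _).trans (Finset.sum_congr rfl fun t _ => map_smul L _ _)
    have e2 : ∑ t, cR t * P.om ι₁ ι₂ (g t) ∈ J := by
      have e : ∑ t, cR t * P.om ι₁ ι₂ (g t) = (∑ t, cR t * ι₂ (g t) - ∑ t, cR t * ι₁ (g t)) -
          ∑ l, (∑ t, cR t * ι₁ (P.pd l (g t))) * P.df ι₁ ι₂ (algebraMap A P.B (P.y l)) := by
        simp only [om, df, mul_sub, Finset.sum_sub_distrib, Finset.mul_sum, Finset.sum_mul, mul_assoc]
        congr 1
        congr 1 <;> first | rfl | exact Finset.sum_comm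
      rw [e]
      exact sub_mem (sub_mem (hJ0 _ (by simp)) (hJ0 _ (by simp)))
        (Ideal.sum_mem _ fun l _ => Ideal.mul_mem_right _ _ (hJ1 _ (by simp) l))
    rw [e1] at hq2
    have := sub_mem (sub_mem (Submodule.mem_sup_left (T := 𝔪 * I ^ 2) e2)
      (Submodule.mem_sup_right (hc' (P.om ι₁ ι₂) _ fun t => P.om_mem ι₁ ι₂ hI _))) (Submodule.mem_sup_right hq2)
    simpa using this
  · have e1 : P.df ι₁ ι₂ (P.pd l (∑ t, c₀ t • g t)) = ∑ t, c₀ t • P.df ι₁ ι₂ (P.pd l (g t)) := by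
      let L : P.B →ₗ[k] R :=
        { toFun := fun z => P.df ι₁ ι₂ (P.pd l z)
          map_add' := fun a b => by rw [pd_add, df_add]
          map_smul' := fun c a => by rw [pd_smul, df_smul]; rfl }
      exact (map_sum L _ _).trans (Finset.sum_congr rfl fun t _ => map_smul L _ _)
    have e2 : ∑ t, cR t * P.df ι₁ ι₂ (P.pd l (g t)) ∈ J := by
      simp only [df, mul_sub, Finset.sum_sub_distrib]
      exact sub_mem (hJ1 _ (by simp) l) (hJ1 _ (by simp) l)
    have hq := hq1 l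
    rw [e1] at hq
    have := sub_mem (sub_mem (Submodule.mem_sup_left (T := 𝔪 * I) e2)
      (Submodule.mem_sup_right (hc' (fun z => P.df ι₁ ι₂ (P.pd l z)) _ fun t => hI _))) (Submodule.mem_sup_right hq)
    simpa using this

end Abstract

section Tensor

variable {m : ℕ}

/-- Evaluation at a pair of points and a parameter. -/
def evPair (p₁ p₂ : P.B →ₐ[k] k) (c : Fin m → k) : MvPolynomial (Fin m) (P.B ⊗[k] P.B) →ₐ[k] k :=
  MvPolynomial.aevalTower (Algebra.TensorProduct.productMap p₁ p₂) c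

theorem evPair_C (p₁ p₂ : P.B →ₐ[k] k) (c : Fin m → k) (a b : P.B) :
    P.evPair p₁ p₂ c (MvPolynomial.C (a ⊗ₜ b)) = p₁ a * p₂ b := by
  simp [evPair]

theorem evPair_X (p₁ p₂ : P.B →ₐ[k] k) (c : Fin m → k) (t : Fin m) :
    P.evPair p₁ p₂ c (MvPolynomial.X t) = c t := by
  simp [evPair]

theorem pd_eq_zero_of_mem_sq {p : P.B →ₐ[k] k} {h : P.B} (hh : h ∈ RingHom.ker p ^ 2) (l : Fin n) :
    p (P.pd l h) = 0 := by
  rw [pow_two] at hh
  induction hh using Submodule.mul_induction_on' with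
  | mem_mul_mem a ha b hb => rw [pd_mul, map_add, map_mul, map_mul, RingHom.mem_ker.1 ha, RingHom.mem_ker.1 hb]; ring
  | add a _ b _ ha hb => rw [pd_add, map_add, ha, hb, add_zero]

variable [IsAlgClosed k] [Algebra.Smooth k A]

set_option maxHeartbeats 1000000 in
/-- Near a non-degenerate double point, two singular points coincide. -/
theorem exists_evPair (g : Fin m → P.B) (p : P.B →ₐ[k] k) (c₀ : Fin m → k)
    (τ : P.B →ₐ[k] MvPowerSeries (Fin n) k)
    (hτ : ∀ z, τ z - ((MvPolynomial.C (p z) + P.lin p z : MvPolynomial (Fin n) k) : MvPowerSeries (Fin n) k) ∈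
      PSHom.V n k ^ 2)
    (h0 : ∑ t, c₀ t • g t ∈ RingHom.ker p ^ 2) (hnd : Nondeg (qp (τ (∑ t, c₀ t • g t)))) :
    ∃ E : MvPolynomial (Fin m) (P.B ⊗[k] P.B), P.evPair p p c₀ E ≠ 0 ∧
      ∀ (p₁ p₂ : P.B →ₐ[k] k) c, p₁ ≠ p₂ → ∑ t, c t • g t ∈ RingHom.ker p₁ ^ 2 →
        ∑ t, c t • g t ∈ RingHom.ker p₂ ^ 2 → P.evPair p₁ p₂ c E = 0 := by
  classical
  haveI : Algebra.Smooth A P.B := inferInstance
  haveI : Algebra.Smooth k P.B := Algebra.Smooth.comp k A P.B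
  haveI : Algebra.FiniteType k P.B := inferInstance
  haveI : Algebra.FiniteType k (P.B ⊗[k] P.B) := Algebra.FiniteType.trans (R := k) (S := P.B) inferInstance inferInstance
  haveI : IsNoetherianRing (P.B ⊗[k] P.B) := Algebra.FiniteType.isNoetherianRing k _
  let R := MvPolynomial (Fin m) (P.B ⊗[k] P.B)
  let ι₁ : P.B →ₐ[k] R := (IsScalarTower.toAlgHom k (P.B ⊗[k] P.B) R).comp Algebra.TensorProduct.includeLeft
  let ι₂ : P.B →ₐ[k] R := (IsScalarTower.toAlgHom k (P.B ⊗[k] P.B) R).comp Algebra.TensorProduct.includeRight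
  have hι₁ : ∀ a, ι₁ a = MvPolynomial.C (a ⊗ₜ[k] (1 : P.B)) := fun a => rfl
  have hι₂ : ∀ a, ι₂ a = MvPolynomial.C ((1 : P.B) ⊗ₜ[k] a) := fun a => rfl
  let I : Ideal R := (KaehlerDifferential.ideal k P.B).map MvPolynomial.C
  have hIeq : I = Ideal.span (Set.range fun z => P.df ι₁ ι₂ z) := by
    show (KaehlerDifferential.ideal k P.B).map MvPolynomial.C = _
    rw [← KaehlerDifferential.span_range_eq_ideal, Ideal.map_span, ← Set.range_comp]
    congr 2
    funext z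
    simp only [Function.comp_apply, df, hι₁, hι₂, map_sub]
  have hI : ∀ z, P.df ι₁ ι₂ z ∈ I := fun z => by rw [hIeq]; exact Ideal.subset_span ⟨z, rfl⟩
  let 𝔪 : Ideal R := RingHom.ker (P.evPair p p c₀)
  have hev₁ : ∀ p₁ p₂ c z, P.evPair p₁ p₂ c (ι₁ z) = p₁ z := fun p₁ p₂ c z => by
    rw [hι₁, evPair_C, map_one, mul_one]
  have hev₂ : ∀ p₁ p₂ c z, P.evPair p₁ p₂ c (ι₂ z) = p₂ z := fun p₁ p₂ c z => by
    rw [hι₂, evPair_C, map_one, one_mul]
  have hIm : I ≤ 𝔪 := by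
    rw [hIeq, Ideal.span_le]
    rintro _ ⟨z, rfl⟩
    show P.evPair p p c₀ (P.df ι₁ ι₂ z) = 0
    rw [df, map_sub, hev₁, hev₂, sub_self]
  let J : Ideal R := Ideal.span
    (({∑ t, MvPolynomial.X t * ι₁ (g t), ∑ t, MvPolynomial.X t * ι₂ (g t)} : Set R) ∪
      (Set.range fun l => ∑ t, MvPolynomial.X t * ι₁ (P.pd l (g t))) ∪
      (Set.range fun l => ∑ t, MvPolynomial.X t * ι₂ (P.pd l (g t))))
  have hkill : ∀ p₁ p₂ c, ∑ t, c t • g t ∈ RingHom.ker p₁ ^ 2 → ∑ t, c t • g t ∈ RingHom.ker p₂ ^ 2 →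
      J ≤ RingHom.ker (P.evPair p₁ p₂ c) := by
    intro p₁ p₂ c h₁ h₂
    have hsum : ∀ (q : P.B →ₐ[k] k) (L : P.B →ₗ[k] P.B), ∑ t, c t * q (L (g t)) = q (L (∑ t, c t • g t)) := by
      intro q L
      simp [map_sum, map_smul]
    have hz : ∀ q : P.B →ₐ[k] k, ∑ t, c t • g t ∈ RingHom.ker q ^ 2 → ∑ t, c t * q (g t) = 0 := fun q hq =>
      (hsum q LinearMap.id).trans (RingHom.mem_ker.1 (Ideal.pow_le_self two_ne_zero hq))
    have hd : ∀ q : P.B →ₐ[k] k, ∑ t, c t • g t ∈ RingHom.ker q ^ 2 → ∀ l, ∑ t, c t * q (P.pd l (g t)) = 0 :=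
      fun q hq l => (hsum q { toFun := P.pd l, map_add' := P.pd_add l, map_smul' := P.pd_smul l }).trans
        (P.pd_eq_zero_of_mem_sq hq l)
    have hevX : ∀ t, P.evPair p₁ p₂ c (MvPolynomial.X t : R) = c t := P.evPair_X p₁ p₂ c
    rw [Ideal.span_le]
    rintro _ (((rfl | rfl) | ⟨l, rfl⟩) | ⟨l, rfl⟩) <;>
      simp only [SetLike.mem_coe, RingHom.mem_ker, map_sum, map_mul, hevX, hev₁, hev₂]
    exacts [hz p₁ h₁, hz p₂ h₂, hd p₁ h₁ l, hd p₂ h₂ l]
  have hp' : ∀ z, ι₁ z - algebraMap k R (p z) ∈ 𝔪 := fun z => by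
    show P.evPair p p c₀ _ = 0
    rw [map_sub, hev₁, AlgHom.commutes]; exact sub_self _
  have hX' : ∀ t, (MvPolynomial.X t : R) - algebraMap k R (c₀ t) ∈ 𝔪 := fun t => by
    show P.evPair p p c₀ _ = 0
    rw [map_sub, evPair_X, AlgHom.commutes]; exact sub_self _
  obtain ⟨D, e, he, heJ⟩ := P.diag_core (ι₁ := ι₁) (ι₂ := ι₂) (𝔪 := 𝔪) hI hIm p hp' hIeq.le τ hτ g
    (fun t => (MvPolynomial.X t : R)) c₀ hX' h0 hnd J
    (by rintro ι (rfl | rfl) <;> exact Ideal.subset_span (Or.inl (Or.inl (by simp))))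
    (by
      rintro ι (rfl | rfl) l
      · exact Ideal.subset_span (Or.inl (Or.inr ⟨l, rfl⟩))
      · exact Ideal.subset_span (Or.inr ⟨l, rfl⟩))
    (hkill p p c₀ h0 h0)
  refine ⟨e, fun h => ?_, fun p₁ p₂ c hne h₁ h₂ => ?_⟩
  · have := RingHom.mem_ker.1 he
    rw [map_sub, h, map_one, zero_sub, neg_eq_zero] at this
    exact one_ne_zero this
  · obtain ⟨z, hz⟩ : ∃ z, p₁ z ≠ p₂ z := by
      by_contra hc
      push Not at hc
      exact hne (AlgHom.ext hc)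
    have := RingHom.mem_ker.1 (hkill p₁ p₂ c h₁ h₂ (heJ _ (Ideal.pow_mem_pow (hI z) D)))
    rw [map_mul, map_pow, df, map_sub, hev₁, hev₂, mul_eq_zero] at this
    exact this.resolve_right (pow_ne_zero _ (sub_ne_zero.2 hz.symm))

end Tensor

end Coord

end Groth.Agent.LefPen13
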