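import Groth.Agent.Lib.LefPen13.Node

/-! # Existence of ordinary double points with given position -/

set_option autoImplicit false
set_option linter.style.haveILetI false
set_option backward.isDefEq.respectTransparency false
set_option backward.isDefEq.respectTransparency.types false

universe u

open CategoryTheory CategoryTheory.Limits AlgebraicGeometry TopologicalSpace MvPolynomial
open Groth.Agent.H2Alg

noncomputable section

namespace Groth.Agent.LefPen13

/-- The partner of a variable. -/
def partner {n : ℕ} (l : Fin n) : Fin n := if h : l.val + 1 < n then ⟨l.val + 1, h⟩ else l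

/-- The variables starting a pair. -/
def evens (n : ℕ) : Finset (Fin n) := Finset.univ.filter fun l => l.val % 2 = 0

/-- A split non-degenerate quadratic form. -/
def stdQuad (k : Type u) [Field k] (n : ℕ) : MvPolynomial (Fin n) k :=
  ∑ l ∈ evens n, MvPolynomial.X l * MvPolynomial.X (partner l)

theorem stdQuad_isHomogeneous (k : Type u) [Field k] (n : ℕ) : (stdQuad k n).IsHomogeneous 2 :=
  IsHomogeneous.sum _ _ _ fun l _ => (isHomogeneous_X k l).mul (isHomogeneous_X k _)

theorem nondeg_stdQuad (k : Type u) [Field k] (n : ℕ) : Nondeg (stdQuad k n) := by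
  classical
  intro v hv hQ
  by_contra hc
  push Not at hc
  have hd : ∀ p, (if p.val % 2 = 0 then v (partner p) else 0) +
      ∑ l ∈ evens n, (if partner l = p then v l else 0) = 0 := by
    intro p
    have hmon : ∀ a b : Fin n, MvPolynomial.eval v (pderiv p (MvPolynomial.X a * MvPolynomial.X b)) =
        (if a = p then v b else 0) + (if b = p then v a else 0) := by
      intro a b
      rw [pderiv_mul, map_add, map_mul, map_mul, eval_X, eval_X]
      congr 1
      · by_cases h : a = p
        · subst h; simp
        · rw [pderiv_X_of_ne h, if_neg h, map_zero, zero_mul]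
      · by_cases h : b = p
        · subst h; simp
        · rw [pderiv_X_of_ne h, if_neg h, map_zero, mul_zero]
    have h := hc p
    rw [stdQuad, map_sum, map_sum, Finset.sum_congr rfl fun l _ => hmon l (partner l),
      Finset.sum_add_distrib, Finset.sum_ite_eq'] at h
    simpa [evens] using h
  have hzero : ∀ l : Fin n, (l.val % 2 = 0 → l.val + 1 < n) → v l = 0 := by
    intro l hl
    by_cases he : l.val % 2 = 0
    · have h1 := hd ⟨l.val + 1, hl he⟩
      rw [if_neg (by simp; omega), zero_add, Finset.sum_eq_single l] at h1
      · simpa [partner, hl he] using h1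
      · intro b hb hbl
        rw [if_neg]
        intro e
        apply hbl
        simp only [evens, Finset.mem_filter] at hb
        have := congrArg Fin.val e
        unfold partner at this
        split at this
        · exact Fin.ext (by simpa using this)
        · simp at this; omega
      · simp [evens, he]
    · have h1 := hd ⟨l.val - 1, by omega⟩
      rw [if_pos (by simp; omega), Finset.sum_eq_zero, add_zero] at h1
      · have e : partner (⟨l.val - 1, by omega⟩ : Fin n) = l := by
          unfold partner
          rw [dif_pos (by simp; omega)]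
          exact Fin.ext (by simp; omega)
        rwa [e] at h1
      · intro b hb
        rw [if_neg]
        intro e
        simp only [evens, Finset.mem_filter] at hb
        have := congrArg Fin.val e
        unfold partner at this
        split at this
        · simp at this; omega
        · simp at this; omega
  by_cases hn : n % 2 = 0
  · exact hv (funext fun l => hzero l fun he => by omega)
  · apply hv
    let q : Fin n := ⟨n - 1, by omega⟩
    have hq : v q = 0 := by
      have h2 : MvPolynomial.eval v (stdQuad k n) = v q * v q := by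
        rw [stdQuad, map_sum, Finset.sum_eq_single q]
        · simp [partner, q, show ¬ (n - 1 + 1 < n) by omega]
        · intro b hb hbq
          have : b.val + 1 < n := by
            have : b.val ≠ n - 1 := fun e => hbq (Fin.ext e)
            omega
          simp [hzero b fun _ => this]
        · intro h
          simp [evens, q] at h
          omega
      rw [h2] at hQ
      exact mul_self_eq_zero.1 hQ
    funext l
    by_cases hl : l = q
    · rw [hl]; exact hq
    · exact hzero l fun he => by
        have : l.val ≠ n - 1 := fun e => hl (Fin.ext e)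
        omega

variable {k : Type u} [Field k] {r : ℕ} {X : Scheme.{u}} (i : X ⟶ CohB1.ProjSpace r k) [IsClosedImmersion i]

/-- A closed point is rational. -/
theorem exists_pX [IsAlgClosed k] [Smooth (i ≫ CohB1.ProjSpace.toSpec r k)] (x : X) (hx : IsClosed ({x} : Set X)) :
    ∃ (j : Fin (r + 1)) (χ : A i j →ₐ[k] k), pX i j χ = x := by
  obtain ⟨j, hj⟩ := Opens.mem_iSup.1 ((iSup_V i).ge (trivial : x ∈ (⊤ : X.Opens)))
  obtain ⟨p, hp⟩ : ∃ p : PrimeSpectrum (A i j), (isAffineOpen_V i j).fromSpec p = x := by
    have : x ∈ Set.range (isAffineOpen_V i j).fromSpec := by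
      rw [(isAffineOpen_V i j).range_fromSpec]
      exact hj
    exact this
  have hp' : IsClosed ({p} : Set (PrimeSpectrum (A i j))) := by
    have := hx.preimage (isAffineOpen_V i j).fromSpec.continuous
    rw [← hp, ← Set.image_singleton (f := (isAffineOpen_V i j).fromSpec), Set.preimage_image_eq _
      (isAffineOpen_V i j).fromSpec.isOpenEmbedding.injective] at this
    exact this
  haveI := (PrimeSpectrum.isClosed_singleton_iff_isMaximal p).1 hp'
  haveI := smooth i j
  obtain ⟨χ, hχ⟩ := exists_algHom_ker (k := k) p.asIdeal
  refine ⟨j, χ, ?_⟩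
  rw [← hp, pX]
  congr 1
  exact PrimeSpectrum.ext hχ

/-- A form with an ordinary double point at a given point. -/
theorem exists_node {n : ℕ} (j : Fin (r + 1)) (χ : A i j →ₐ[k] k) (P : Coord k (A i j) n)
    (τ : P.B →ₐ[k] MvPowerSeries (Fin n) k) (hτ : IsExp P χ τ) (d : ℕ) (hd : 2 ≤ d) :
    ∃ H : LefPen.Form r k d, π i j H.1 ∈ RingHom.ker χ ^ 2 ∧
      qp (τ (algebraMap (A i j) P.B (π i j H.1))) = stdQuad k n := by
  classical
  choose L hL using fun l => exists_form i le_rfl j χ (P.y l - algebraMap k (A i j) (χ (P.y l)))
  obtain ⟨e, rfl⟩ : ∃ e, d = e + 2 := ⟨d - 2, by omega⟩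
  let H : LefPen.Form r k (e + 2) :=
    ⟨∑ l ∈ evens n, MvPolynomial.X j ^ e * ((L l).1 * (L (partner l)).1),
      (mem_homogeneousSubmodule _ _).2 (IsHomogeneous.sum _ _ _ fun l _ =>
        (isHomogeneous_X_pow j e).mul (((mem_homogeneousSubmodule _ _).1 (L l).2).mul
          ((mem_homogeneousSubmodule _ _).1 (L (partner l)).2)))⟩
  let z : Fin n → A i j := fun l => π i j (L l).1
  have hz : ∀ l, z l ∈ RingHom.ker χ := fun l => by
    have h1 := Ideal.pow_le_self two_ne_zero (hL l)
    have h2 : χ (P.y l - algebraMap k (A i j) (χ (P.y l))) = 0 := by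
      rw [map_sub, AlgHom.commutes]; exact sub_self _
    rw [RingHom.mem_ker, map_sub, h2, sub_zero] at h1
    exact h1
  have hH : π i j H.1 = ∑ l ∈ evens n, z l * z (partner l) := by
    simp [H, z, map_sum, π_X_self]
  let w : Fin n → MvPowerSeries (Fin n) k := fun l => τ (algebraMap (A i j) P.B (z l))
  have hwV : ∀ l, w l ∈ PSHom.V n k := fun l => by
    have := (hτ.hmem 1 (z l)).1 (by rw [pow_one]; exact hz l)
    rwa [pow_one] at this
  have hw : ∀ l, w l - MvPowerSeries.X l ∈ PSHom.V n k ^ 2 := fun l => by
    have := (hτ.hmem 2 _).1 (hL l)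
    rw [map_sub, map_sub, map_sub, map_sub, hτ.hy, ← IsScalarTower.algebraMap_apply, AlgHom.commutes,
      MvPowerSeries.c_eq_algebraMap, add_sub_cancel_right] at this
    exact this
  refine ⟨H, ?_, ?_⟩
  · rw [hH, pow_two]
    exact Ideal.sum_mem _ fun l _ => Ideal.mul_mem_mul (hz l) (hz _)
  · rw [hH]
    refine (qp_eq_of_sub_mem (t := ((stdQuad k n : MvPolynomial (Fin n) k) : MvPowerSeries (Fin n) k)) ?_).trans
      (qp_coe (stdQuad_isHomogeneous k n))
    rw [map_sum, map_sum, stdQuad, ← MvPolynomial.coeToMvPowerSeries.ringHom_apply, map_sum, ← Finset.sum_sub_distrib]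
    refine Ideal.sum_mem _ fun l _ => ?_
    rw [map_mul, map_mul, MvPolynomial.coeToMvPowerSeries.ringHom_apply, MvPolynomial.coe_mul, MvPolynomial.coe_X,
      MvPolynomial.coe_X]
    show w l * w (partner l) - _ ∈ _
    have : w l * w (partner l) - MvPowerSeries.X l * MvPowerSeries.X (partner l) =
        (w l - MvPowerSeries.X l) * w (partner l) + (w (partner l) - MvPowerSeries.X (partner l)) * MvPowerSeries.X l := by
      ring
    rw [this, show (3 : ℕ) = 2 + 1 from rfl, pow_succ]
    exact add_mem (Ideal.mul_mem_mul (hw l) (hwV _)) (Ideal.mul_mem_mul (hw _) (Ideal.subset_span ⟨l, rfl⟩))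

end Groth.Agent.LefPen13
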