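import Groth.Agent.Lib.LefPen13.Jets
import Groth.Agent.Lib.LefPen13.Exists
import Groth.Agent.Lib.LefPen13.Degen

/-! # The forms with a prescribed singular point are otherwise generically nonsingular -/

set_option autoImplicit false
set_option linter.style.haveILetI false
set_option backward.isDefEq.respectTransparency false
set_option backward.isDefEq.respectTransparency.types false

universe u

open CategoryTheory CategoryTheory.Limits AlgebraicGeometry TopologicalSpace MvPolynomial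

noncomputable section

namespace Groth.Agent.LefPen13

variable {k : Type u} [Field k] {r : ℕ} {X : Scheme.{u}} (i : X ⟶ CohB1.ProjSpace r k) {d : ℕ}

/-- Dehomogenisation as a linear map. -/
def πL (j : Fin (r + 1)) : LefPen.Form r k d →ₗ[k] A i j where
  toFun F := π i j F.1
  map_add' F G := by rw [Submodule.coe_add, map_add]
  map_smul' c F := by rw [Submodule.coe_smul, smul_eq_C_mul, map_mul, π_C, Algebra.smul_def, RingHom.id_apply]

theorem π_mul_form {a b : ℕ} (U : LefPen.Form r k a) (G : LefPen.Form r k b) (hd : a + b = d) (j : Fin (r + 1)) :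
    ∃ F : LefPen.Form r k d, F.1 = U.1 * G.1 ∧ π i j F.1 = π i j U.1 * π i j G.1 :=
  ⟨⟨U.1 * G.1, (mem_homogeneousSubmodule _ _).2 (hd ▸ ((mem_homogeneousSubmodule _ _).1 U.2).mul
    ((mem_homogeneousSubmodule _ _).1 G.2))⟩, rfl, map_mul _ _ _⟩

/-- The linear form vanishing at the point `χ` attached to a coordinate. -/
def vanForm (j : Fin (r + 1)) (χ : A i j →ₐ[k] k) (a : Fin (r + 1)) : LefPen.Form r k 1 :=
  (⟨MvPolynomial.X a, LefPen.X_mem r k a⟩ : LefPen.Form r k 1) -
    coords i j χ a • (⟨MvPolynomial.X j, LefPen.X_mem r k j⟩ : LefPen.Form r k 1)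

theorem χ_vanForm (j : Fin (r + 1)) (χ : A i j →ₐ[k] k) (a : Fin (r + 1)) (l : Fin (r + 1)) (χ' : A i l →ₐ[k] k) :
    χ' (π i l (vanForm i j χ a).1) = coords i l χ' a - coords i j χ a * coords i l χ' j := by
  rw [χ_π]
  simp [vanForm, smul_eq_C_mul]

theorem χ_vanForm_self (j : Fin (r + 1)) (χ : A i j →ₐ[k] k) (a : Fin (r + 1)) :
    χ (π i j (vanForm i j χ a).1) = 0 := by
  rw [χ_vanForm, coords_self, mul_one, sub_self]

theorem samePt_of_vanForm (j : Fin (r + 1)) (χ : A i j →ₐ[k] k) (l : Fin (r + 1)) (χ' : A i l →ₐ[k] k)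
    (h : ∀ a, χ' (π i l (vanForm i j χ a).1) = 0) : SamePt i j χ l χ' := by
  have h' : ∀ a, coords i l χ' a = coords i j χ a * coords i l χ' j := fun a =>
    sub_eq_zero.1 ((χ_vanForm i j χ a l χ').symm.trans (h a))
  intro a b
  rw [h' a, h' b]
  ring

variable [IsAlgClosed k] [IsClosedImmersion i] [Smooth (i ≫ CohB1.ProjSpace.toSpec r k)] [IrreducibleSpace X]

omit [IrreducibleSpace X] in
/-- Finitely many coordinate systems suffice on a chart. -/
theorem exists_cover {n : ℕ} [SmoothOfRelativeDimension n (i ≫ CohB1.ProjSpace.toSpec r k)] (l : Fin (r + 1))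
    {M : ℕ} (Bad : (A i l →ₐ[k] k) → (Fin M → k) → Prop)
    (h : ∀ P : Coord k (A i l) n, ∃ G : MvPolynomial (Fin M) k, G ≠ 0 ∧
      ∀ χ c, χ P.f ≠ 0 → Bad χ c → MvPolynomial.eval c G = 0) :
    ∃ G : MvPolynomial (Fin M) k, G ≠ 0 ∧ ∀ χ c, Bad χ c → MvPolynomial.eval c G = 0 := by
  classical
  haveI := smooth i l
  let S : Set (A i l) := Set.range fun P : Coord k (A i l) n => P.f
  have hS : Ideal.span S = ⊤ := by
    by_contra hne
    obtain ⟨N, hN, hle⟩ := Ideal.exists_le_maximal _ hne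
    haveI := hN
    obtain ⟨χ, hχ⟩ := exists_algHom_ker (k := k) N
    obtain ⟨P, hP⟩ := exists_coord (locally_std i n l) χ
    exact hP (RingHom.mem_ker.1 (hχ.symm.le (hle (Ideal.subset_span ⟨P, rfl⟩))))
  obtain ⟨T, hT, hT1⟩ := Submodule.mem_span_finite_of_mem_span
    ((Ideal.eq_top_iff_one _).1 hS : (1 : A i l) ∈ Submodule.span (A i l) S)
  choose P hP using fun f : T => hT f.2
  choose G hG0 hG using fun f : T => h (P f)
  refine ⟨∏ f : T, G f, Finset.prod_ne_zero_iff.2 fun f _ => hG0 f, fun χ c hc => ?_⟩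
  obtain ⟨f, hf, hχf⟩ : ∃ f ∈ T, χ f ≠ 0 := by
    by_contra! hall
    have : Ideal.span (T : Set (A i l)) ≤ RingHom.ker χ := Ideal.span_le.2 fun f hf => hall f hf
    have h1 := RingHom.mem_ker.1 (this hT1)
    rw [map_one] at h1
    exact one_ne_zero h1
  rw [map_prod]
  refine Finset.prod_eq_zero (Finset.mem_univ (⟨f, hf⟩ : T)) (hG ⟨f, hf⟩ χ c ?_ hc)
  rw [show (P ⟨f, hf⟩).f = f from hP ⟨f, hf⟩]
  exact hχf

variable {m : ℕ} [hsm : SmoothOfRelativeDimension (m + 1) (i ≫ CohB1.ProjSpace.toSpec r k)]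
  {M : ℕ} (g : Fin M → LefPen.Form r k d)

/-- The member with coefficients `c`. -/
abbrev mem (c : Fin M → k) : LefPen.Form r k d := ∑ t, c t • g t

omit [IsAlgClosed k] [IsClosedImmersion i] [Smooth (i ≫ CohB1.ProjSpace.toSpec r k)] [IrreducibleSpace X] in
theorem π_mem (l : Fin (r + 1)) (c : Fin M → k) : π i l (mem g c).1 = ∑ t, c t • π i l (g t).1 :=
  (map_sum (πL i l) _ _).trans (Finset.sum_congr rfl fun t _ => map_smul (πL i l) _ _)

omit [IrreducibleSpace X] in
/-- Translation of jets. -/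
theorem sum_jrow (l : Fin (r + 1)) (P : Coord k (A i l) (m + 1)) (χ : A i l →ₐ[k] k) (hχ : χ P.f ≠ 0) (c : Fin M → k)
    (o : Option (Fin (m + 1))) :
    ∑ t, c t * P.pt χ hχ (P.jrow (π i l (g t).1) o) = P.jet χ hχ (π i l (mem g c).1) o := by
  rw [π_mem, map_sum, Finset.sum_apply]
  exact Finset.sum_congr rfl fun t _ => by rw [map_smul]; rfl

omit [IrreducibleSpace X] in
theorem exists_pt_eq (l : Fin (r + 1)) (P : Coord k (A i l) (m + 1)) (p : P.B →ₐ[k] k) :
    ∃ (χ : A i l →ₐ[k] k) (hχ : χ P.f ≠ 0), P.pt χ hχ = p ∧ ∀ a, p (algebraMap (A i l) P.B a) = χ a := by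
  let χ : A i l →ₐ[k] k := p.comp (IsScalarTower.toAlgHom k (A i l) P.B)
  have hχ : χ P.f ≠ 0 := ((IsLocalization.Away.algebraMap_isUnit (S := P.B) P.f).map p).ne_zero
  refine ⟨χ, hχ, ?_, fun a => rfl⟩
  exact AlgHom.coe_ringHom_injective (IsLocalization.ringHom_ext (Submonoid.powers P.f) (RingHom.ext fun a => P.piece.pt_algebraMap χ hχ a))

omit [IsClosedImmersion i] [IrreducibleSpace X] in
theorem ringKrullDim_B_le (l : Fin (r + 1)) [Algebra.Smooth k (A i l)] (P : Coord k (A i l) (m + 1)) :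
    ringKrullDim P.B ≤ (m + 1 : ℕ) := by
  haveI : Algebra.Smooth (A i l) P.B := inferInstance
  haveI : Algebra.Smooth k P.B := Algebra.Smooth.comp k (A i l) P.B
  simpa using BertiniJets13.ringKrullDim_le_card P.b (fun t => algebraMap (A i l) P.B (P.y t)) P.hb

omit [IrreducibleSpace X] in
include hsm in
/-- A region where the family has surjective jets. -/
theorem bad_poly_full {a b : ℕ} (hab : a + b = d) (hb : 1 ≤ b) (U : LefPen.Form r k a) (l : Fin (r + 1))
    (hU : ∀ (G : LefPen.Form r k b) (F : LefPen.Form r k d), F.1 = U.1 * G.1 → ∃ c, mem g c = F) :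
    ∃ G : MvPolynomial (Fin M) k, G ≠ 0 ∧ ∀ (χ : A i l →ₐ[k] k) c, χ (π i l U.1) ≠ 0 ∧
      π i l (mem g c).1 ∈ RingHom.ker χ ^ 2 → MvPolynomial.eval c G = 0 := by
  classical
  haveI := smooth i l
  refine exists_cover (n := m + 1) i l (fun χ c => χ (π i l U.1) ≠ 0 ∧ π i l (mem g c).1 ∈ RingHom.ker χ ^ 2) fun P => ?_
  let u : P.B := algebraMap (A i l) P.B (π i l U.1)
  let B' := Localization.Away u
  let φ : P.B →ₐ[k] B' := IsScalarTower.toAlgHom k P.B B'
  haveI : Algebra.Smooth (A i l) P.B := inferInstance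
  haveI : Algebra.Smooth k P.B := Algebra.Smooth.comp k (A i l) P.B
  haveI : Algebra.FiniteType k B' :=
    Algebra.FiniteType.trans (S := P.B) inferInstance (IsLocalization.finiteType_of_monoid_fg (Submonoid.powers u) B')
  let selE : Fin (m + 2) ≃ Option (Fin (m + 1)) := finSuccEquiv (m + 1)
  obtain ⟨G, hG0, hG⟩ := exists_bad_poly P φ (s := m + 2) (e := m + 1) (by omega)
    ((ringKrullDim_le_of_isLocalization (Submonoid.powers u) B').trans (ringKrullDim_B_le i l P))
    (fun t => π i l (g t).1) (fun p => by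
      obtain ⟨χ, hχ, hpt, hval⟩ := exists_pt_eq i l P (p.comp φ)
      have hu : χ (π i l U.1) ≠ 0 := by
        rw [← hval]
        exact ((IsLocalization.Away.algebraMap_isUnit (S := B') u).map p).ne_zero
      refine ⟨selE, fun w => ?_⟩
      obtain ⟨z, hz⟩ := P.exists_mul_jet χ hχ hu (fun o => w (selE.symm o))
      obtain ⟨Gf, hGf⟩ := exists_form i hb l χ z
      obtain ⟨F, hF, hFπ⟩ := π_mul_form i U Gf hab l
      obtain ⟨c, hc⟩ := hU Gf F hF
      refine ⟨c, fun o => ?_⟩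
      have e1 : P.jet χ hχ (π i l F.1) = P.jet χ hχ (π i l U.1 * z) := by
        rw [hFπ, ← sub_eq_zero, ← map_sub, ← mul_sub]
        exact P.jet_eq_zero_of_mem_sq χ hχ (Ideal.mul_mem_left _ _ hGf)
      show ∑ t, c t * (p.comp φ) (P.jrow (π i l (g t).1) (selE o)) = w o
      rw [← hpt, sum_jrow, hc, e1, hz]
      exact congrArg w (selE.symm_apply_apply o))
  refine ⟨G, hG0, fun χ c hχ ⟨hu, hsq⟩ => ?_⟩
  let p : B' →ₐ[k] k := IsLocalization.liftAlgHom (M := Submonoid.powers u) (f := P.pt χ hχ) (fun y => by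
    obtain ⟨e, he⟩ := y.2
    rw [show (y : P.B) = u ^ e from he.symm, map_pow]
    refine (isUnit_iff_ne_zero.2 ?_).pow e
    show P.pt χ hχ (algebraMap (A i l) P.B _) ≠ 0
    erw [P.piece.pt_algebraMap χ hχ]
    exact hu)
  have hp : ∀ z, p (φ z) = P.pt χ hχ z := fun z => IsLocalization.lift_eq _ _
  refine hG p c fun o => ?_
  simp only [hp]
  rw [sum_jrow, P.jet_eq_zero_of_mem_sq χ hχ hsq, Pi.zero_apply]

include hsm in
/-- The part of codimension one: the jets fill a hyperplane. -/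
theorem bad_poly_hyper (hd : d = 2) (j₀ : Fin (r + 1)) (χ₀ : A i j₀ →ₐ[k] k) (W : LefPen.Form r k 1)
    (hW : π i j₀ W.1 ≠ 0) (U : LefPen.Form r k 1) (l : Fin (r + 1))
    (hU : ∀ (G : LefPen.Form r k 1) (F : LefPen.Form r k d), χ₀ (π i j₀ G.1) = 0 → F.1 = U.1 * G.1 → ∃ c, mem g c = F) :
    ∃ G : MvPolynomial (Fin M) k, G ≠ 0 ∧ ∀ (χ : A i l →ₐ[k] k) c,
      χ (π i l W.1) = 0 ∧ χ (π i l U.1) ≠ 0 ∧ π i l (mem g c).1 ∈ RingHom.ker χ ^ 2 → MvPolynomial.eval c G = 0 := by
  classical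
  haveI := smooth i l
  refine exists_cover (n := m + 1) i l (fun χ c =>
    χ (π i l W.1) = 0 ∧ χ (π i l U.1) ≠ 0 ∧ π i l (mem g c).1 ∈ RingHom.ker χ ^ 2) fun P => ?_
  by_cases hne : ∃ χ : A i l →ₐ[k] k, χ P.f ≠ 0
  swap
  · exact ⟨1, one_ne_zero, fun χ c hχ _ => absurd ⟨χ, hχ⟩ hne⟩
  obtain ⟨χ₁, hχ₁⟩ := hne
  haveI := isIntegral i
  haveI := isDomain_of_pt i l χ₁
  have hWl : π i l W.1 ≠ 0 := fun e => hW (π_form_eq_zero i W l j₀ ⟨_, pX_mem i l χ₁⟩ e)
  have hf0 : P.f ≠ 0 := fun e => hχ₁ (by rw [e, map_zero])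
  haveI : IsDomain P.B := IsLocalization.isDomain_localization (powers_le_nonZeroDivisors_of_noZeroDivisors hf0)
  haveI : Algebra.Smooth (A i l) P.B := inferInstance
  haveI : Algebra.Smooth k P.B := Algebra.Smooth.comp k (A i l) P.B
  let w₀ : P.B := algebraMap (A i l) P.B (π i l W.1)
  have hw0 : w₀ ≠ 0 := fun e => hWl (IsLocalization.injective P.B
    (powers_le_nonZeroDivisors_of_noZeroDivisors hf0) (e.trans (map_zero _).symm))
  let B₀ := P.B ⧸ Ideal.span {w₀}
  have hdim0 : ringKrullDim B₀ ≤ (m : ℕ) := by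
    have h1 := ringKrullDim_quotient_succ_le_of_nonZeroDivisor (mem_nonZeroDivisors_of_ne_zero hw0)
    have h2 := h1.trans (ringKrullDim_B_le i l P)
    rcases hb : ringKrullDim B₀ with _ | ⟨_ | a⟩
    · exact bot_le
    · rw [show ringKrullDim B₀ = ((⊤ : ℕ∞) : WithBot ℕ∞) from hb] at h2
      have h3 : (⊤ : ℕ∞) + 1 ≤ ((m + 1 : ℕ) : ℕ∞) := WithBot.coe_le_coe.1 h2
      rw [top_add, top_le_iff] at h3
      exact absurd h3 (ENat.coe_ne_top _)
    · rw [show ringKrullDim B₀ = ((a : ℕ∞) : WithBot ℕ∞) from hb] at h2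
      have : a + 1 ≤ m + 1 := by exact_mod_cast h2
      show ((a : ℕ∞) : WithBot ℕ∞) ≤ _
      exact_mod_cast (show a ≤ m by omega)
  let u : B₀ := Ideal.Quotient.mk _ (algebraMap (A i l) P.B (π i l U.1))
  let B' := Localization.Away u
  let φ : P.B →ₐ[k] B' := (IsScalarTower.toAlgHom k B₀ B').comp (Ideal.Quotient.mkₐ k _)
  haveI : Algebra.FiniteType k B₀ := Algebra.FiniteType.of_surjective (Ideal.Quotient.mkₐ k _) Ideal.Quotient.mk_surjective
  haveI : Algebra.FiniteType k B' :=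
    Algebra.FiniteType.trans (S := B₀) inferInstance (IsLocalization.finiteType_of_monoid_fg (Submonoid.powers u) B')
  obtain ⟨G, hG0, hG⟩ := exists_bad_poly P φ (s := m + 1) (e := m) (by omega)
    ((ringKrullDim_le_of_isLocalization (Submonoid.powers u) B').trans hdim0) (fun t => π i l (g t).1) (fun p => by
      obtain ⟨χ, hχ, hpt, hval⟩ := exists_pt_eq i l P (p.comp φ)
      have hu : χ (π i l U.1) ≠ 0 := by
        rw [← hval]
        exact ((IsLocalization.Away.algebraMap_isUnit (S := B') u).map p).ne_zero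
      let R0 : Submodule k (Option (Fin (m + 1)) → k) := LinearMap.range
        ((P.jet χ hχ).comp ((πL i l).comp (Fintype.linearCombination k g)))
      have hR0 : ∀ w, w ∈ R0 ↔ ∃ c, P.jet χ hχ (π i l (mem g c).1) = w := fun w => by
        refine exists_congr fun c => ?_
        show P.jet χ hχ (π i l (Fintype.linearCombination k g c : LefPen.Form r k d).1) = w ↔ _
        rw [Fintype.linearCombination_apply]
      let v0 := P.jet χ hχ (π i l U.1 * π i l (MvPolynomial.X j₀))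
      have hspan : ∀ w, ∃ a : k, w - a • v0 ∈ R0 := by
        intro w
        obtain ⟨z, hz⟩ := P.exists_mul_jet χ hχ hu w
        obtain ⟨Gf, hGf⟩ := exists_form i le_rfl l χ z
        let a := χ₀ (π i j₀ Gf.1)
        let G' : LefPen.Form r k 1 := Gf - a • (⟨MvPolynomial.X j₀, LefPen.X_mem r k j₀⟩ : LefPen.Form r k 1)
        have hG' : χ₀ (π i j₀ G'.1) = 0 := by
          simp [G', a, Submodule.coe_sub, smul_eq_C_mul, π_X_self, π_C]
        obtain ⟨F, hF, hFπ⟩ := π_mul_form i U G' (show 1 + 1 = d by omega) l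
        obtain ⟨c, hc⟩ := hU G' F hG' hF
        refine ⟨a, (hR0 _).2 ⟨c, ?_⟩⟩
        rw [hc, hFπ, ← hz, show v0 = P.jet χ hχ (π i l U.1 * π i l (MvPolynomial.X j₀)) from rfl,
          ← map_smul, ← map_sub, ← sub_eq_zero, ← map_sub]
        refine P.jet_eq_zero_of_mem_sq χ hχ ?_
        have e : π i l U.1 * π i l G'.1 - (π i l U.1 * z - a • (π i l U.1 * π i l (MvPolynomial.X j₀))) =
            π i l U.1 * (π i l Gf.1 - z) := by
          simp only [G', Submodule.coe_sub, Submodule.coe_smul, smul_eq_C_mul, map_sub, map_mul, π_C, Algebra.smul_def,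
            MvPolynomial.algebraMap_eq]
          ring
        rw [e]
        exact Ideal.mul_mem_left _ _ hGf
      obtain ⟨o₀, ho₀⟩ : ∃ o₀, ∀ w : Option (Fin (m + 1)) → k, ∃ t : k, w - t • Pi.single o₀ (1 : k) ∈ R0 := by
        by_cases hall : ∀ o, (Pi.single o 1 : Option (Fin (m + 1)) → k) ∈ R0
        · refine ⟨none, fun w => ⟨0, ?_⟩⟩
          rw [zero_smul, sub_zero, pi_eq_sum_univ w]
          refine Submodule.sum_mem _ fun o _ => Submodule.smul_mem _ _ ?_
          convert hall o using 1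
          funext o'
          simp [Pi.single_apply, eq_comm]
        push Not at hall
        obtain ⟨o₀, ho⟩ := hall
        obtain ⟨a, ha⟩ := hspan (Pi.single o₀ 1)
        have ha0 : a ≠ 0 := fun e => ho (by rwa [e, zero_smul, sub_zero] at ha)
        refine ⟨o₀, fun w => ?_⟩
        obtain ⟨b, hb⟩ := hspan w
        refine ⟨b / a, ?_⟩
        have := sub_mem hb (Submodule.smul_mem _ (b / a) ha)
        rwa [smul_sub, smul_smul, div_mul_cancel₀ _ ha0, sub_sub_sub_cancel_right] at this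
      have hcard : Fintype.card {o : Option (Fin (m + 1)) // o ≠ o₀} = m + 1 := by
        rw [Fintype.card_subtype_compl, Fintype.card_option, Fintype.card_fin, Fintype.card_subtype_eq]
        omega
      let es := Fintype.equivFinOfCardEq hcard
      refine ⟨fun o => (es.symm o).1, fun w => ?_⟩
      let w' : Option (Fin (m + 1)) → k := fun o => if h : o ≠ o₀ then w (es ⟨o, h⟩) else 0
      obtain ⟨t, ht⟩ := ho₀ w'
      obtain ⟨c, hc⟩ := (hR0 _).1 ht
      refine ⟨c, fun o => ?_⟩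
      show ∑ t, c t * (p.comp φ) (P.jrow (π i l (g t).1) (es.symm o).1) = w o
      rw [← hpt, sum_jrow, hc]
      simp [w', (es.symm o).2])
  refine ⟨G, hG0, fun χ c hχ ⟨hW0, hu, hsq⟩ => ?_⟩
  have hev : ∀ a, P.pt χ hχ (algebraMap (A i l) P.B a) = χ a := P.piece.pt_algebraMap χ hχ
  have hwk : Ideal.span {w₀} ≤ RingHom.ker (P.pt χ hχ) := by
    rw [Ideal.span_singleton_le_iff_mem, RingHom.mem_ker]
    exact (hev _).trans hW0
  let p₀ : B₀ →ₐ[k] k := Ideal.Quotient.liftₐ _ (P.pt χ hχ) fun a ha => RingHom.mem_ker.1 (hwk ha)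
  let p : B' →ₐ[k] k := IsLocalization.liftAlgHom (M := Submonoid.powers u) (f := p₀) (fun y => by
    obtain ⟨e, he⟩ := y.2
    rw [show (y : B₀) = u ^ e from he.symm, map_pow]
    refine (isUnit_iff_ne_zero.2 ?_).pow e
    show P.pt χ hχ (algebraMap (A i l) P.B _) ≠ 0
    rw [hev]
    exact hu)
  have hp : ∀ z, p (φ z) = P.pt χ hχ z := fun z => IsLocalization.lift_eq _ _
  refine hG p c fun o => ?_
  simp only [hp]
  rw [sum_jrow, P.jet_eq_zero_of_mem_sq χ hχ hsq, Pi.zero_apply]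

end Groth.Agent.LefPen13
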