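import Groth.Agent.Lib.LefPen13.Node

/-! # Separating conditions by homogeneous polynomials -/

set_option autoImplicit false
set_option linter.style.haveILetI false
set_option backward.isDefEq.respectTransparency false
set_option backward.isDefEq.respectTransparency.types false

universe u

open CategoryTheory CategoryTheory.Limits AlgebraicGeometry TopologicalSpace MvPolynomial

noncomputable section

namespace Groth.Agent.LefPen13

section Poly

variable {k : Type u} [Field k] {σ : Type} [Fintype σ] [DecidableEq σ] {m : ℕ}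

omit [DecidableEq σ] in
/-- Scaling of the argument of a homogeneous polynomial. -/
theorem ev_smul {P : MvPolynomial σ (MvPolynomial (Fin m) k)} {D : ℕ} (hP : P.IsHomogeneous D) (t : k)
    (x : σ → k) (c : Fin m → k) : ev (fun l => t * x l) c P = t ^ D * ev x c P := by
  classical
  show eval₂ (eval c) _ P = _ * eval₂ (eval c) _ P
  rw [eval₂_eq', eval₂_eq', Finset.mul_sum]
  refine Finset.sum_congr rfl fun e he => ?_
  have hd : ∑ l, e l = D := by
    rw [← Finsupp.degree_eq_sum]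
    by_contra hne
    exact mem_support_iff.1 he (hP.coeff_eq_zero hne)
  simp only [mul_pow, Finset.prod_mul_distrib, Finset.prod_pow_eq_pow_sum, hd]
  ring

/-- Homogenisation with respect to one variable. -/
theorem homogenise (s : σ) (P0 : MvPolynomial σ (MvPolynomial (Fin m) k)) :
    ∃ (D : ℕ) (P : MvPolynomial σ (MvPolynomial (Fin m) k)), P.IsHomogeneous D ∧
      (∀ x c, x s = 0 → ev x c P = 0) ∧
      ∀ x y c, (∀ l, y l * x s = x l) → ev x c P = x s ^ D * ev y c P0 := by
  classical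
  let D := P0.totalDegree + 1
  let P : MvPolynomial σ (MvPolynomial (Fin m) k) :=
    ∑ e ∈ P0.support, monomial (e + Finsupp.single s (D - e.degree)) (coeff e P0)
  have hlt : ∀ e ∈ P0.support, e.degree < D := fun e he => by
    refine Nat.lt_succ_of_le ?_
    have := MvPolynomial.le_totalDegree he
    rwa [Finsupp.degree_apply]
  have hev : ∀ (x : σ → k) c, ev x c P =
      ∑ e ∈ P0.support, eval c (coeff e P0) * ((∏ l, x l ^ e l) * x s ^ (D - e.degree)) := by
    intro x c
    rw [map_sum]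
    refine Finset.sum_congr rfl fun e _ => ?_
    show eval₂ (eval c) x (monomial _ _) = _
    rw [eval₂_monomial, Finsupp.prod_add_index' (fun _ => pow_zero _) (fun _ _ _ => pow_add _ _ _),
      Finsupp.prod_single_index (h := fun l t => x l ^ t) (pow_zero _), Finsupp.prod_pow]
  refine ⟨D, P, IsHomogeneous.sum _ _ _ fun e he => isHomogeneous_monomial _ ?_, fun x c hx => ?_,
    fun x y c hy => ?_⟩
  · rw [map_add, Finsupp.degree_single]
    exact Nat.add_sub_cancel' (hlt e he).le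
  · rw [hev]
    refine Finset.sum_eq_zero fun e he => ?_
    rw [hx, zero_pow (by have := hlt e he; omega), mul_zero, mul_zero]
  · show _ = _ * eval₂ (eval c) y P0
    rw [hev, eval₂_eq', Finset.mul_sum]
    refine Finset.sum_congr rfl fun e he => ?_
    have h1 : (∏ l, x l ^ e l) = (∏ l, y l ^ e l) * x s ^ e.degree := by
      rw [Finsupp.degree_eq_sum, ← Finset.prod_pow_eq_pow_sum, ← Finset.prod_mul_distrib]
      exact Finset.prod_congr rfl fun l _ => by rw [← mul_pow, hy]
    rw [h1, mul_assoc (∏ l, y l ^ e l), ← pow_add, Nat.add_sub_cancel' (hlt e he).le]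
    ring

end Poly

section Var

variable {k : Type u} [Field k] {r : ℕ} {X : Scheme.{u}} (i : X ⟶ CohB1.ProjSpace r k) [IsClosedImmersion i] {m : ℕ}

theorem eq_of_coords_eq {l : Fin (r + 1)} {χ₁ χ₂ : A i l →ₐ[k] k} (h : coords i l χ₁ = coords i l χ₂) : χ₁ = χ₂ := by
  apply algHom_ext_of_ker
  refine SetLike.ext fun a => ?_
  obtain ⟨P, rfl⟩ := π_surjective i l a
  rw [RingHom.mem_ker, RingHom.mem_ker, χ_π, χ_π, h]

theorem SamePt.unique {j l : Fin (r + 1)} {χ : A i j →ₐ[k] k} {χ₁ χ₂ : A i l →ₐ[k] k} (h₁ : SamePt i j χ l χ₁)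
    (h₂ : SamePt i j χ l χ₂) : χ₁ = χ₂ := by
  obtain ⟨h0, e₁⟩ := SamePt.coords_eq i h₁
  obtain ⟨-, e₂⟩ := SamePt.coords_eq i h₂
  have key : ∀ a, coords i l χ₁ a = coords i l χ₂ a := by
    intro a
    have h3 : coords i j χ l * coords i l χ₁ a = coords i j χ l * coords i l χ₂ a := by rw [← e₁ a, ← e₂ a]
    exact mul_left_cancel₀ (a := coords i j χ l) h0 h3
  exact eq_of_coords_eq i (funext key)

/-- A point seen in another chart containing it. -/
theorem exists_samePt (j l : Fin (r + 1)) (χ : A i j →ₐ[k] k) (hl : coords i j χ l ≠ 0) :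
    ∃ χ' : A i l →ₐ[k] k, SamePt i j χ l χ' ∧ (∀ a, coords i l χ' a * coords i j χ l = coords i j χ a) ∧
      ∀ (d : ℕ) (G : LefPen.Form r k d),
        (π i l G.1 ∈ RingHom.ker χ' ^ 2 ↔ π i j G.1 ∈ RingHom.ker χ ^ 2) := by
  obtain ⟨χ', h1, h2⟩ := transfer i j l χ hl
  refine ⟨χ', fun a b => ?_, fun a => (h1 a).symm, h2⟩
  show χ _ * χ' _ = χ _ * χ' _
  rw [h1 a, h1 b]
  ring

theorem SamePt.singular_iff {j l : Fin (r + 1)} {χ : A i j →ₐ[k] k} {χ' : A i l →ₐ[k] k} (h : SamePt i j χ l χ')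
    {d : ℕ} (G : LefPen.Form r k d) : π i l G.1 ∈ RingHom.ker χ' ^ 2 ↔ π i j G.1 ∈ RingHom.ker χ ^ 2 := by
  obtain ⟨χ'', h1, -, h2⟩ := exists_samePt i j l χ h.coords_eq.1
  rw [h.unique i h1]
  exact h2 d G

theorem SamePt.symm {j l : Fin (r + 1)} {χ : A i j →ₐ[k] k} {χ' : A i l →ₐ[k] k} (h : SamePt i j χ l χ') :
    SamePt i l χ' j χ := fun a b => by
  rw [mul_comm, mul_comm (coords i l χ' b)]
  exact (h a b).symm

theorem SamePt.trans {j l s : Fin (r + 1)} {χ : A i j →ₐ[k] k} {χ' : A i l →ₐ[k] k} {χ'' : A i s →ₐ[k] k}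
    (h : SamePt i j χ l χ') (h' : SamePt i l χ' s χ'') : SamePt i j χ s χ'' := by
  rw [← pX_eq_iff] at h h' ⊢
  exact h.trans h'

/-- A polynomial separating a point from the bad ones. -/
theorem sep_at (Bd : ∀ j : Fin (r + 1), (A i j →ₐ[k] k) → (Fin m → k) → Prop)
    (hBd : ∀ j l χ χ' c, SamePt i j χ l χ' → Bd j χ c → Bd l χ' c) (c₀ : Fin m → k) (a : Fin (r + 1) → k)
    (j : Fin (r + 1)) (hj : a j ≠ 0)
    (hon : ∀ χ : A i j →ₐ[k] k, (∀ l, coords i j χ l * a j = a l) →
      ∃ Q : MvPolynomial (Fin m) (A i j), MvPolynomial.eval₂ χ.toRingHom c₀ Q ≠ 0 ∧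
        ∀ χ' c, Bd j χ' c → MvPolynomial.eval₂ χ'.toRingHom c Q = 0) :
    ∃ (D : ℕ) (P : MvPolynomial (Fin (r + 1)) (MvPolynomial (Fin m) k)), P.IsHomogeneous D ∧ ev a c₀ P ≠ 0 ∧
      ∀ l χ c, Bd l χ c → ev (coords i l χ) c P = 0 := by
  classical
  let a' : Fin (r + 1) → k := fun l => a l / a j
  suffices hP : ∃ P0 : MvPolynomial (Fin (r + 1)) (MvPolynomial (Fin m) k),
      ev a' c₀ P0 ≠ 0 ∧ ∀ χ c, Bd j χ c → ev (coords i j χ) c P0 = 0 by
    obtain ⟨P0, hne, hvan⟩ := hP
    obtain ⟨D, P, hPh, hP0, hPs⟩ := homogenise j P0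
    refine ⟨D, P, hPh, ?_, fun l χ c hb => ?_⟩
    · rw [hPs a a' _ fun l => div_mul_cancel₀ _ hj]
      exact mul_ne_zero (pow_ne_zero _ hj) hne
    · by_cases hl : coords i l χ j = 0
      · exact hP0 _ _ hl
      obtain ⟨χ', hsame, hco, -⟩ := exists_samePt i l j χ hl
      rw [hPs _ (coords i j χ') c hco, hvan χ' c (hBd l j χ χ' c hsame hb), mul_zero]
  by_cases hker : RingHom.ker (π i j) ≤ RingHom.ker (MvPolynomial.eval a')
  · obtain ⟨χ₀, hχ₀⟩ : ∃ χ₀ : A i j →+* k, ∀ P, χ₀ (π i j P) = MvPolynomial.eval a' P :=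
      ⟨(π i j).liftOfSurjective (π_surjective i j) ⟨MvPolynomial.eval a', hker⟩,
        fun P => RingHom.liftOfRightInverse_comp_apply _ _ _ _ P⟩
    obtain ⟨χ, hχ⟩ : ∃ χ : A i j →ₐ[k] k, ∀ P, χ (π i j P) = MvPolynomial.eval a' P :=
      ⟨{ χ₀ with commutes' := fun c => (hχ₀ (C c)).trans (MvPolynomial.eval_C c) }, hχ₀⟩
    have ea : coords i j χ = a' := funext fun l => by rw [coords, hχ, MvPolynomial.eval_X]
    obtain ⟨Q, hQ0, hQ⟩ := hon χ fun l => by rw [ea]; exact div_mul_cancel₀ _ hj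
    choose F hF using fun e => π_surjective i j (coeff e Q)
    let P0 : MvPolynomial (Fin (r + 1)) (MvPolynomial (Fin m) k) :=
      ∑ e ∈ Q.support, C (monomial e 1) * MvPolynomial.map MvPolynomial.C (F e)
    have hP0 : ∀ (χ' : A i j →ₐ[k] k) c, ev (coords i j χ') c P0 = MvPolynomial.eval₂ χ'.toRingHom c Q := by
      intro χ' c
      rw [MvPolynomial.eval₂_eq', map_sum]
      refine Finset.sum_congr rfl fun e _ => ?_
      have h1 : ∀ G : MvPolynomial (Fin (r + 1)) k, ev (coords i j χ') c (MvPolynomial.map C G) = χ' (π i j G) := by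
        intro G
        rw [ev_apply, MvPolynomial.map_map, show (eval c).comp C = RingHom.id k from RingHom.ext fun b => eval_C b,
          MvPolynomial.map_id, χ_π]
        try rfl
      rw [map_mul, h1, hF]
      show eval₂ (eval c) _ (C (monomial e 1)) * _ = _
      rw [eval₂_C, eval_monomial, one_mul, Finsupp.prod_pow, mul_comm]
      rfl
    refine ⟨P0, ?_, fun χ' c hb => (hP0 χ' c).trans (hQ χ' c hb)⟩
    rw [← ea, hP0]
    exact hQ0
  · obtain ⟨F, hF, hF'⟩ := SetLike.not_le_iff_exists.1 hker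
    refine ⟨MvPolynomial.map MvPolynomial.C F, ?_, fun χ c _ => ?_⟩
    · rw [ev_apply, MvPolynomial.map_map, show (eval c₀).comp C = RingHom.id k from
        RingHom.ext fun b => eval_C b, MvPolynomial.map_id]
      exact hF'
    · rw [ev_apply, MvPolynomial.map_map, show (eval c).comp C = RingHom.id k from RingHom.ext fun b => eval_C b,
        MvPolynomial.map_id]
      show MvPolynomial.eval _ F = 0
      rw [← χ_π, RingHom.mem_ker.1 hF, map_zero]

end Var

end Groth.Agent.LefPen13
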