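import Groth.Agent.Lib.LefPen13.Crit
import Groth.Agent.Lib.H2Alg.PSHom
import Groth.Agent.Lib.CplLocH7.Basic
import Groth.Agent.Lib.Compl.Dim
import Mathlib.RingTheory.MvPowerSeries.Derivative

/-! # Power series expansion at a rational point of a smooth affine variety -/

set_option autoImplicit false
set_option linter.style.haveILetI false
universe u

open IsLocalRing KaehlerDifferential
open Groth.Agent.H2Alg

noncomputable section

namespace Groth.Agent.LefPen13

variable {k : Type u} [Field k] {A : Type u} [CommRing A] [Algebra k A]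

/-- Coordinates on a chart of a variety of dimension `n`. -/
structure Coord (k : Type u) [Field k] (A : Type u) [CommRing A] [Algebra k A] (n : ℕ) where
  f : A
  b : Module.Basis (Fin n) (Localization.Away f) Ω[Localization.Away f⁄k]
  y : Fin n → A
  hb : ∀ l, b l = D k (Localization.Away f) (algebraMap A (Localization.Away f) (y l))

/-- The piece underlying coordinates. -/
abbrev Coord.piece {n : ℕ} (P : Coord k A n) : Piece k A := ⟨P.f, Fin n, P.b, P.y, P.hb⟩

theorem exists_coord [IsAlgClosed k] [Algebra.Smooth k A] {n : ℕ}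
    (hA : RingHom.Locally (RingHom.IsStandardSmoothOfRelativeDimension n) (algebraMap k A)) (χ : A →ₐ[k] k) :
    ∃ P : Coord k A n, χ P.f ≠ 0 := by
  haveI : (RingHom.ker χ).IsMaximal := RingHom.ker_isMaximal_of_surjective χ.toRingHom
    fun a => ⟨algebraMap k A a, χ.commutes a⟩
  obtain ⟨P, hP⟩ := exists_piece (k := k) (RingHom.ker χ)
  have hχ : χ P.f ≠ 0 := hP
  haveI : Algebra.Smooth A P.B := inferInstance
  haveI : Algebra.Smooth k P.B := Algebra.Smooth.comp k A P.B
  haveI : Nontrivial P.B := (P.pt χ hχ).toRingHom.domain_nontrivial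
  haveI : Subsingleton (Algebra.H1Cotangent k P.B) := inferInstance
  haveI : Algebra.IsStandardSmooth k P.B :=
    Algebra.IsStandardSmooth.of_basis_kaehlerDifferential P.b
      (by rintro _ ⟨l, rfl⟩; exact ⟨algebraMap A P.B (P.y l), (P.hb l).symm⟩)
  haveI hstd : Algebra.IsStandardSmoothOfRelativeDimension (Fintype.card P.κ) k P.B := by
    rw [Algebra.IsStandardSmoothOfRelativeDimension.iff_of_isStandardSmooth, rank_eq_card_basis P.b]
  haveI : (RingHom.ker (P.pt χ hχ)).IsMaximal := RingHom.ker_isMaximal_of_surjective (P.pt χ hχ).toRingHom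
    fun a => ⟨algebraMap k P.B a, (P.pt χ hχ).commutes a⟩
  have h1 := CurveCartier25.ringKrullDim_atPrime_of_standardSmooth k P.B (Fintype.card P.κ) (RingHom.ker (P.pt χ hχ))
  rw [IsLocalization.AtPrime.ringKrullDim_eq_height (RingHom.ker (P.pt χ hχ)),
    ← IsLocalization.height_under (Submonoid.powers P.f) (RingHom.ker (P.pt χ hχ))] at h1
  have e : (RingHom.ker (P.pt χ hχ)).under A = RingHom.ker χ := by
    ext a
    show P.pt χ hχ (algebraMap A P.B a) = 0 ↔ χ a = 0
    rw [P.pt_algebraMap]
  rw [e, height_ker_eq hA χ] at h1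
  have hn : Fintype.card P.κ = n := by exact_mod_cast h1.symm
  let eκ := Fintype.equivFinOfCardEq hn
  exact ⟨⟨P.f, P.b.reindex eκ, fun l => P.y (eκ.symm l), fun l => by
    rw [Module.Basis.reindex_apply]
    exact P.hb _⟩, hχ⟩

namespace Coord

variable {n : ℕ} (P : Coord k A n)

/-- The ring of the chart. -/
abbrev B : Type u := Localization.Away P.f

/-- The extension of a point to the chart. -/
abbrev pt (χ : A →ₐ[k] k) (hχ : χ P.f ≠ 0) : P.B →ₐ[k] k := P.piece.pt χ hχ

/-- The partial derivatives. -/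
def pd (l : Fin n) (z : P.B) : P.B := P.b.repr (D k P.B z) l

theorem pd_y (l s : Fin n) : P.pd l (algebraMap A P.B (P.y s)) = if s = l then 1 else 0 := by
  rw [pd, ← P.hb, Module.Basis.repr_self, Finsupp.single_apply]

variable [Algebra.Smooth k A]

/-- The maximal ideal of a point is generated by the coordinates up to its square. -/
theorem le_span_sup_sq (χ : A →ₐ[k] k) (hχ : χ P.f ≠ 0) :
    RingHom.ker χ ≤ Ideal.span (Set.range fun l => P.y l - algebraMap k A (χ (P.y l))) ⊔ RingHom.ker χ ^ 2 := by
  intro z hz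
  haveI : Algebra.Smooth A P.B := inferInstance
  haveI : Algebra.Smooth k P.B := Algebra.Smooth.comp k A P.B
  let w : A := ∑ l, algebraMap k A (P.pt χ hχ (P.pd l (algebraMap A P.B z))) * (P.y l - algebraMap k A (χ (P.y l)))
  have hw : w ∈ Ideal.span (Set.range fun l => P.y l - algebraMap k A (χ (P.y l))) :=
    Ideal.sum_mem _ fun l _ => Ideal.mul_mem_left _ _ (Ideal.subset_span ⟨l, rfl⟩)
  suffices z - w ∈ RingHom.ker χ ^ 2 by
    have := add_mem (Submodule.mem_sup_left hw) (Submodule.mem_sup_right this :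
      z - w ∈ Ideal.span (Set.range fun l => P.y l - algebraMap k A (χ (P.y l))) ⊔ RingHom.ker χ ^ 2)
    rwa [add_sub_cancel] at this
  rw [mem_sq_localization P.f χ (P.pt χ hχ) (P.piece.pt_algebraMap χ hχ), mem_sq_iff P.b]
  intro o
  cases o with
  | none =>
    rw [BertiniJets13.row_none, P.piece.pt_algebraMap, map_sub, show χ z = 0 from hz, zero_sub, neg_eq_zero, map_sum]
    exact Finset.sum_eq_zero fun l _ => by
      rw [map_mul, map_sub, AlgHom.commutes, AlgHom.commutes]
      simp
  | some s =>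
    rw [BertiniJets13.row_some]
    show P.pt χ hχ (P.pd s (algebraMap A P.B (z - w))) = 0
    have hpd : P.pd s (algebraMap A P.B w) = algebraMap k P.B (P.pt χ hχ (P.pd s (algebraMap A P.B z))) := by
      simp only [w, map_sum, map_mul, map_sub, ← IsScalarTower.algebraMap_apply k A P.B]
      rw [pd, map_sum, map_sum, Finsupp.finsetSum_apply]
      rw [Finset.sum_eq_single s]
      · rw [Derivation.leibniz, Derivation.map_algebraMap, smul_zero, add_zero, map_sub, Derivation.map_algebraMap,
          sub_zero, map_smul, Finsupp.smul_apply, smul_eq_mul,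
          show P.b.repr (D k P.B (algebraMap A P.B (P.y s))) s = P.pd s (algebraMap A P.B (P.y s)) from rfl,
          P.pd_y, if_pos rfl, mul_one]
      · intro l _ hl
        rw [Derivation.leibniz, Derivation.map_algebraMap, smul_zero, add_zero, map_sub, Derivation.map_algebraMap,
          sub_zero, map_smul, Finsupp.smul_apply, smul_eq_mul,
          show P.b.repr (D k P.B (algebraMap A P.B (P.y l))) s = P.pd s (algebraMap A P.B (P.y l)) from rfl,
          P.pd_y, if_neg hl, mul_zero]
      · simp
    rw [pd, map_sub, map_sub, map_sub, Finsupp.sub_apply, map_sub,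
      show P.b.repr (D k P.B (algebraMap A P.B z)) s = P.pd s (algebraMap A P.B z) from rfl,
      show P.b.repr (D k P.B (algebraMap A P.B w)) s = P.pd s (algebraMap A P.B w) from rfl, hpd]
    simp

/-- The power series expansion at a point. -/
theorem exists_expansion (hA : RingHom.Locally (RingHom.IsStandardSmoothOfRelativeDimension n) (algebraMap k A))
    (χ : A →ₐ[k] k) (hχ : χ P.f ≠ 0) :
    ∃ τ : P.B →ₐ[k] MvPowerSeries (Fin n) k,
      (∀ l, τ (algebraMap A P.B (P.y l)) = MvPowerSeries.X l + MvPowerSeries.C (χ (P.y l))) ∧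
      (∀ z, MvPowerSeries.constantCoeff (τ z) = P.pt χ hχ z) ∧
      (∀ (e : ℕ) (a : A), a ∈ RingHom.ker χ ^ e ↔ τ (algebraMap A P.B a) ∈ PSHom.V n k ^ e) ∧
      (∀ (l : Fin n) (z : P.B), MvPowerSeries.pderiv k l (τ z) = τ (P.pd l z)) := by
  classical
  haveI hM : (RingHom.ker χ).IsMaximal := RingHom.ker_isMaximal_of_surjective χ.toRingHom
    fun a => ⟨algebraMap k A a, χ.commutes a⟩
  haveI : IsNoetherianRing A := Algebra.FiniteType.isNoetherianRing k A
  let M := RingHom.ker χ
  let R := Localization.AtPrime M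
  haveI : IsNoetherianRing R := IsLocalization.isNoetherianRing M.primeCompl R inferInstance
  let C := CplLocH7.Cpl R
  haveI : IsRegularLocalRing R :=
    SmoothReg17.isRegularLocalRing_of_smooth (algebraMap k A) (RingHom.smooth_algebraMap.2 inferInstance) _
  haveI : IsAdicComplete (maximalIdeal C) C := by
    rw [CplLocH7.maximalIdeal_cpl]
    exact (IsAdicComplete.map_algebraMap_iff _ _).2
      (AdicCompletion.isAdicComplete (maximalIdeal R).fg_of_isNoetherianRing)
  let c : A →ₐ[k] C := (IsScalarTower.toAlgHom k R C).comp (IsScalarTower.toAlgHom k A R)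
  let a := fun l => χ (P.y l)
  have hyM : ∀ l, P.y l - algebraMap k A (a l) ∈ M := fun l => by
    show χ (P.y l - algebraMap k A (χ (P.y l))) = 0
    rw [map_sub, AlgHom.commutes]
    exact sub_self _
  have hc : ∀ (e : ℕ) (x : A), x ∈ M ^ e ↔ c x ∈ maximalIdeal C ^ e := by
    intro e x
    show _ ↔ algebraMap R C (algebraMap A R x) ∈ _
    rw [CplLocH7.mem_pow_iff, ← Localization.AtPrime.map_eq_maximalIdeal, ← Ideal.map_pow,
      IsLocalization.algebraMap_mem_map_algebraMap_iff M.primeCompl]
    refine ⟨fun h => ⟨1, one_mem _, by rwa [one_mul]⟩, fun ⟨s, hs, hsx⟩ => ?_⟩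
    rcases Nat.eq_zero_or_pos e with rfl | he
    · rw [pow_zero, Ideal.one_eq_top]; trivial
    have htop : Ideal.span {s} ⊔ M ^ e = ⊤ := Ideal.sup_pow_eq_top
      (hM.1.2 _ (by rw [right_lt_sup, Ideal.span_singleton_le_iff_mem]; exact hs))
    obtain ⟨r', hr', q, hq, hrq⟩ := Submodule.mem_sup.1 ((Ideal.eq_top_iff_one _).1 htop)
    obtain ⟨r, rfl⟩ := Ideal.mem_span_singleton'.1 hr'
    rw [← one_mul x, ← hrq, add_mul, mul_assoc]
    exact add_mem (Ideal.mul_mem_left _ _ hsx) (Ideal.mul_mem_right _ _ hq)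
  obtain ⟨ψ, hψ⟩ := PSHom.exists_algHom (A := k) (maximalIdeal C)
    (fun l => c (P.y l - algebraMap k A (a l))) (fun l => by
      have := (hc 1 _).1 (by rw [pow_one]; exact hyM l)
      rwa [pow_one] at this)
  have hmR : maximalIdeal R = (Ideal.span (Set.range fun l => P.y l - algebraMap k A (a l))).map (algebraMap A R) := by
    refine le_antisymm ?_ (by
      rw [← Localization.AtPrime.map_eq_maximalIdeal]
      exact Ideal.map_mono (Ideal.span_le.2 (by rintro _ ⟨l, rfl⟩; exact hyM l)))
    refine Submodule.le_of_le_smul_of_le_jacobson_bot (IsNoetherian.noetherian _)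
      (IsLocalRing.jacobson_eq_maximalIdeal (⊥ : Ideal R) bot_ne_top).ge ?_
    rw [smul_eq_mul, ← pow_two, ← Localization.AtPrime.map_eq_maximalIdeal, ← Ideal.map_pow, ← Ideal.map_sup]
    exact Ideal.map_mono (P.le_span_sup_sq χ hχ)
  have hV : (PSHom.V n k).map ψ = maximalIdeal C := by
    rw [CplLocH7.maximalIdeal_cpl]
    refine Eq.trans ?_ (congrArg (Ideal.map (algebraMap R (CplLocH7.Cpl R))) hmR).symm
    rw [Ideal.map_map, PSHom.V, Ideal.map_span, Ideal.map_span,
      ← Set.range_comp, ← Set.range_comp]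
    congr 2
    exact funext hψ
  have hres : ∀ t : C, ∃ s : k, t - algebraMap k C s ∈ maximalIdeal C := by
    intro t
    obtain ⟨x, hx⟩ := CplLocH7.exists_sub_mem_pow 1 t
    rw [pow_one] at hx
    obtain ⟨⟨z, s⟩, hz⟩ := IsLocalization.surj M.primeCompl x
    refine ⟨χ z / χ s, ?_⟩
    have h1 : x - algebraMap k R (χ z / χ s) ∈ maximalIdeal R := by
      have hsu : IsUnit (algebraMap A R s) := IsLocalization.map_units R s
      refine (Ideal.mul_unit_mem_iff_mem _ hsu).1 ?_
      rw [sub_mul, show x * algebraMap A R s = algebraMap A R z from hz,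
        IsScalarTower.algebraMap_apply k A R, ← map_mul, ← map_sub,
        IsLocalization.AtPrime.to_map_mem_maximal_iff R M]
      show χ _ = 0
      rw [map_sub, map_mul, AlgHom.commutes, Algebra.algebraMap_self, RingHom.id_apply,
        div_mul_cancel₀ _ (show χ s ≠ 0 from s.2), sub_self]
    have h2 : algebraMap R C (x - algebraMap k R (χ z / χ s)) ∈ maximalIdeal C := by
      rw [CplLocH7.maximalIdeal_cpl]
      exact Ideal.mem_map_of_mem _ h1
    rw [map_sub, ← IsScalarTower.algebraMap_apply] at h2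
    have h3 := add_mem hx h2
    erw [sub_add_sub_cancel] at h3
    exact h3
  have hsurj : Function.Surjective ψ := PSHom.surjective ψ (maximalIdeal C) hV hres
  have hbij : Function.Bijective ψ := by
    refine ⟨(injective_iff_map_eq_zero ψ).2 fun z hz => ?_, hsurj⟩
    by_contra hz0
    haveI := PSHom.isRegularLocalRing k n
    have h1 := ringKrullDim_quotient_succ_le_of_nonZeroDivisor (R := MvPowerSeries (Fin n) k)
      (r := z) (mem_nonZeroDivisors_of_ne_zero hz0)
    have h2 : ringKrullDim C ≤ ringKrullDim (MvPowerSeries (Fin n) k ⧸ Ideal.span {z}) := by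
      refine ringKrullDim_le_of_surjective (Ideal.Quotient.lift (Ideal.span {z}) ψ.toRingHom fun x hx => ?_)
        (Ideal.Quotient.lift_surjective_of_surjective _ _ hsurj)
      obtain ⟨w, rfl⟩ := Ideal.mem_span_singleton'.1 hx
      show ψ (w * z) = 0
      rw [map_mul, hz, mul_zero]
    rw [PSHom.ringKrullDim_eq] at h1
    rw [show ringKrullDim C = ringKrullDim R from Compl.ringKrullDim_maximalIdeal_adicCompletion R,
      IsLocalization.AtPrime.ringKrullDim_eq_height M, height_ker_eq hA χ] at h2
    have h3 : ((n : WithBot ℕ∞) + 1) ≤ n := (add_le_add h2 le_rfl).trans h1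
    have : n + 1 ≤ n := by exact_mod_cast h3
    omega
  let ψe := AlgEquiv.ofBijective ψ hbij
  let τ₀ : A →ₐ[k] MvPowerSeries (Fin n) k := ψe.symm.toAlgHom.comp c
  have hψτ : ∀ x, ψ (τ₀ x) = c x := fun x => ψe.apply_symm_apply (c x)
  have hy : ∀ l, τ₀ (P.y l) = MvPowerSeries.X l + MvPowerSeries.C (a l) := fun l => hbij.1 (by
    rw [hψτ, map_add, hψ, show MvPowerSeries.C (a l) = algebraMap k (MvPowerSeries (Fin n) k) (a l) from rfl,
      AlgHom.commutes, map_sub, AlgHom.commutes, sub_add_cancel])
  have hmem : ∀ (e : ℕ) (x : A), x ∈ M ^ e ↔ τ₀ x ∈ PSHom.V n k ^ e := by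
    intro e x
    rw [hc, ← hψτ, ← hV, ← Ideal.map_pow, Ideal.mem_map_iff_of_surjective _ hsurj]
    exact ⟨fun ⟨w, hw, h⟩ => hbij.1 h ▸ hw, fun h => ⟨_, h, rfl⟩⟩
  have hcc : ∀ x, MvPowerSeries.constantCoeff (τ₀ x) = χ x := by
    intro x
    have h1 := (hmem 1 (x - algebraMap k A (χ x))).1 (by
      rw [pow_one]
      show χ _ = 0
      rw [map_sub, AlgHom.commutes]
      exact sub_self _)
    rw [pow_one] at h1
    have h2 : MvPowerSeries.constantCoeff (τ₀ (x - algebraMap k A (χ x))) = 0 := by
      have hle : PSHom.V n k ≤ RingHom.ker (MvPowerSeries.constantCoeff (σ := Fin n) (R := k)) := by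
        rw [PSHom.V, Ideal.span_le]
        rintro _ ⟨l, rfl⟩
        simp
      exact hle h1
    rw [map_sub, AlgHom.commutes, map_sub, sub_eq_zero] at h2
    exact h2.trans (MvPowerSeries.constantCoeff_C _)
  have hu : IsUnit (τ₀ P.f) := MvPowerSeries.isUnit_iff_constantCoeff.2 (by
    rw [hcc]; exact isUnit_iff_ne_zero.2 hχ)
  let τ : P.B →ₐ[k] MvPowerSeries (Fin n) k :=
    { IsLocalization.Away.lift P.f (g := τ₀.toRingHom) hu with
      commutes' := fun s => by
        show IsLocalization.Away.lift P.f (g := τ₀.toRingHom) hu (algebraMap k P.B s) = _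
        rw [IsScalarTower.algebraMap_apply k A P.B]
        exact (IsLocalization.Away.lift_eq P.f (g := τ₀.toRingHom) hu _).trans (τ₀.commutes s) }
  have hτ : ∀ x, τ (algebraMap A P.B x) = τ₀ x := fun x =>
    IsLocalization.Away.lift_eq P.f (g := τ₀.toRingHom) hu x
  refine ⟨τ, fun l => (hτ _).trans (hy l), fun z => ?_, fun e x => by rw [hτ]; exact hmem e x, fun l z => ?_⟩
  · have : (MvPowerSeries.constantCoeff (σ := Fin n) (R := k)).comp τ.toRingHom = (P.pt χ hχ).toRingHom :=
      IsLocalization.ringHom_ext (Submonoid.powers P.f) (RingHom.ext fun x => by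
        show MvPowerSeries.constantCoeff (τ (algebraMap A P.B x)) = P.pt χ hχ (algebraMap A P.B x)
        rw [hτ, hcc, P.piece.pt_algebraMap])
    exact RingHom.congr_fun this z
  · letI := τ.toRingHom.toAlgebra
    haveI : IsScalarTower k P.B (MvPowerSeries (Fin n) k) :=
      IsScalarTower.of_algebraMap_eq fun s => (τ.commutes s).symm
    let D' : Derivation k P.B (MvPowerSeries (Fin n) k) :=
      (MvPowerSeries.pderiv k l).compAlgebraMap P.B
    have h1 : D'.liftKaehlerDifferential (D k P.B z) = MvPowerSeries.pderiv k l (τ z) :=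
      D'.liftKaehlerDifferential_comp_D z
    rw [← h1, ← P.b.sum_repr (D k P.B z), map_sum, Finset.sum_eq_single l]
    · rw [map_smul, P.hb, Derivation.liftKaehlerDifferential_comp_D]
      show τ (P.pd l z) * MvPowerSeries.pderiv k l (τ (algebraMap A P.B (P.y l))) = _
      rw [hτ, hy, map_add, MvPowerSeries.pderiv_X_self, MvPowerSeries.pderiv_C, add_zero, mul_one]
    · intro s _ hs
      rw [map_smul, P.hb, Derivation.liftKaehlerDifferential_comp_D]
      show τ (P.pd s z) * MvPowerSeries.pderiv k l (τ (algebraMap A P.B (P.y s))) = _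
      rw [hτ, hy, map_add, MvPowerSeries.pderiv_X_of_ne hs, MvPowerSeries.pderiv_C, add_zero, mul_zero]
    · simp

end Coord

end Groth.Agent.LefPen13
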