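import Groth.Agent.Lib.LefPen13.QuadDef

/-! # Ordinary quadratic singularities of hypersurface sections -/

set_option autoImplicit false
set_option linter.style.haveILetI false
set_option backward.isDefEq.respectTransparency false
set_option backward.isDefEq.respectTransparency.types false

universe u

open CategoryTheory CategoryTheory.Limits AlgebraicGeometry TopologicalSpace IsLocalRing
open Groth.Agent.H2Alg

noncomputable section

namespace Groth.Agent.LefPen13

/-- `τ` is the expansion at `χ` in the coordinates `P`. -/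
structure IsExp {k : Type u} [Field k] {A : Type u} [CommRing A] [Algebra k A] {n : ℕ} (P : Coord k A n)
    (χ : A →ₐ[k] k) (τ : P.B →ₐ[k] MvPowerSeries (Fin n) k) : Prop where
  hf : χ P.f ≠ 0
  hy : ∀ l, τ (algebraMap A P.B (P.y l)) = MvPowerSeries.X l + MvPowerSeries.C (χ (P.y l))
  hcc : ∀ z, MvPowerSeries.constantCoeff (τ z) = P.pt χ hf z
  hmem : ∀ (e : ℕ) (a : A), a ∈ RingHom.ker χ ^ e ↔ τ (algebraMap A P.B a) ∈ PSHom.V n k ^ e
  hpd : ∀ (l : Fin n) (z : P.B), MvPowerSeries.pderiv k l (τ z) = τ (P.pd l z)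

theorem exists_isExp {k : Type u} [Field k] [IsAlgClosed k] {A : Type u} [CommRing A] [Algebra k A]
    [Algebra.Smooth k A] {n : ℕ}
    (hA : RingHom.Locally (RingHom.IsStandardSmoothOfRelativeDimension n) (algebraMap k A)) (χ : A →ₐ[k] k) :
    ∃ (P : Coord k A n) (τ : P.B →ₐ[k] MvPowerSeries (Fin n) k), IsExp P χ τ := by
  obtain ⟨P, hP⟩ := exists_coord hA χ
  obtain ⟨τ, h1, h2, h3, h4⟩ := P.exists_expansion hA χ hP
  exact ⟨P, τ, hP, h1, h2, h3, h4⟩

/-- Completions of isomorphic local rings. -/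
theorem exists_cplEquiv_map {A B : Type u} [CommRing A] [IsLocalRing A] [CommRing B] [IsLocalRing B]
    (e : A ≃+* B) :
    ∃ E : AdicCompletion (maximalIdeal A) A ≃+* AdicCompletion (maximalIdeal B) B,
      ∀ a, E (algebraMap A _ a) = algebraMap B _ (e a) := by
  letI : Algebra A B := e.toRingHom.toAlgebra
  let f : A →ₐ[A] B := Algebra.ofId A B
  have hB : (maximalIdeal A).map (algebraMap A B) = maximalIdeal B :=
    IsLocalRing.map_maximalIdeal_of_surjective e.toRingHom e.surjective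
  have hA : (maximalIdeal A).map (algebraMap A A) = maximalIdeal A := Ideal.map_id _
  have hbij : ∀ n, Function.Bijective (CplLevelH7.lev (maximalIdeal A) f n) := fun n => by
    refine ⟨(injective_iff_map_eq_zero _).2 fun x hx => ?_, fun y => ?_⟩
    · obtain ⟨a, rfl⟩ := Ideal.Quotient.mk_surjective x
      rw [CplLevelH7.lev_mk, Ideal.Quotient.eq_zero_iff_mem, ← Ideal.map_pow] at hx
      rw [Ideal.Quotient.eq_zero_iff_mem, hA]
      exact (Ideal.apply_mem_of_equiv_iff (f := e)).1 hx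
    · obtain ⟨b, rfl⟩ := Ideal.Quotient.mk_surjective y
      exact ⟨Ideal.Quotient.mk _ (e.symm b), congrArg (Ideal.Quotient.mk _) (e.apply_symm_apply b)⟩
  have he := CplLevelH7.exists_cplEquiv (B := A) (T := B) (maximalIdeal A) f hbij
  rw [hA, hB] at he
  obtain ⟨E⟩ := he
  refine ⟨E.toRingEquiv, fun a => (E.commutes a).trans ?_⟩
  rfl

variable {k : Type u} [Field k] [IsAlgClosed k] {r : ℕ} {X : Scheme.{u}} (i : X ⟶ CohB1.ProjSpace r k)
  [IsClosedImmersion i] {d : ℕ} (H : LefPen.Form r k d)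

/-- An ordinary double point of the section. -/
def NodeAt (n : ℕ) (j : Fin (r + 1)) (χ : A i j →ₐ[k] k) : Prop :=
  π i j H.1 ∈ RingHom.ker χ ^ 2 ∧
    ∀ (P : Coord k (A i j) n) (τ : P.B →ₐ[k] MvPowerSeries (Fin n) k), IsExp P χ τ →
      Nondeg (qp (τ (algebraMap (A i j) P.B (π i j H.1))))

/-- The section has exactly one singular point, an ordinary double point. -/
def OneNode (n : ℕ) : Prop :=
  ∃ (j : Fin (r + 1)) (χ : A i j →ₐ[k] k), NodeAt i H n j χ ∧
    ∀ (l : Fin (r + 1)) (χ' : A i l →ₐ[k] k), π i l H.1 ∈ RingHom.ker χ' ^ 2 → SamePt i j χ l χ'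

variable [Smooth (i ≫ CohB1.ProjSpace.toSpec r k)]

theorem apply_eq_zero_of_mem_sq {j : Fin (r + 1)} {χ : A i j →ₐ[k] k} {a : A i j} (h : a ∈ RingHom.ker χ ^ 2) :
    χ a = 0 := RingHom.mem_ker.1 (Ideal.pow_le_self two_ne_zero h)

set_option maxHeartbeats 1000000 in
/-- The completion of the section at a rational point. -/
theorem exists_cpl_secP (j : Fin (r + 1)) (χ : A i j →ₐ[k] k) (hχ : χ (π i j H.1) = 0) {n : ℕ}
    (P : Coord k (A i j) n) (τ : P.B →ₐ[k] MvPowerSeries (Fin n) k) (hτ : IsExp P χ τ) :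
    ∃ E : AdicCompletion (maximalIdeal ((LefPen.Sec i ({H} : Set (LefPen.Form r k d))).presheaf.stalk (secP i H j χ hχ)))
        ((LefPen.Sec i ({H} : Set (LefPen.Form r k d))).presheaf.stalk (secP i H j χ hχ)) ≃+*
        (MvPowerSeries (Fin n) k ⧸ Ideal.span {τ (algebraMap (A i j) P.B (π i j H.1))}),
      ∀ c : k, E (algebraMap _ _ (LefPen.toStalk k (LefPen.secToSpec i ({H} : Set (LefPen.Form r k d))) (secP i H j χ hχ) c)) =
        Ideal.Quotient.mk _ (MvPowerSeries.C c) := by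
  haveI := smooth i j
  obtain ⟨E₁, hE₁⟩ := exists_stalkEquiv _ _ (secChart_toSpec i H j) (qPt i H j χ hχ)
  obtain ⟨E₂, hE₂⟩ := exists_cplEquiv_map E₁
  obtain ⟨E₃, hE₃⟩ := exists_cpl P (π i j H.1) χ hτ.hf hχ τ hτ.hy hτ.hcc hτ.hmem
  exact ⟨E₂.trans E₃, fun c => (congrArg E₃ ((hE₂ _).trans (congrArg _ (hE₁ c)))).trans (hE₃ c)⟩

/-- Ordinary quadratic singularities in terms of expansions. -/
theorem isOrdQuadSing_iff {m : ℕ} [SmoothOfRelativeDimension (m + 1) (i ≫ CohB1.ProjSpace.toSpec r k)]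
    (j : Fin (r + 1)) (χ : A i j →ₐ[k] k) (hs : π i j H.1 ∈ RingHom.ker χ ^ 2) :
    LefPen.IsOrdQuadSing k m (LefPen.secToSpec i ({H} : Set (LefPen.Form r k d)))
      (secP i H j χ (apply_eq_zero_of_mem_sq i hs)) ↔ NodeAt i H (m + 1) j χ := by
  haveI := smooth i j
  have hVP : ∀ {P : Coord k (A i j) (m + 1)} {τ : P.B →ₐ[k] MvPowerSeries (Fin (m + 1)) k}, IsExp P χ τ →
      τ (algebraMap (A i j) P.B (π i j H.1)) ∈ PSHom.V (m + 1) k ^ 2 := fun hτ => (hτ.hmem 2 _).1 hs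
  constructor
  · rintro ⟨-, Q, Q₂, e, he, hQ, hQ₂, hnd⟩
    refine ⟨hs, fun P τ hτ => ?_⟩
    obtain ⟨E, hE⟩ := exists_cpl_secP i H j χ (apply_eq_zero_of_mem_sq i hs) P τ hτ
    have hQV : Q ∈ PSHom.V (m + 1) k ^ 2 := PSHom.mem_pow fun t ht => hQ t ht
    have hqp : qp Q = Q₂.1 := by
      ext t
      by_cases ht : t.degree = 2
      · rw [coeff_qp Q ht, hQ₂ t ht]
      · rw [(qp_isHomogeneous Q).coeff_eq_zero ht,
          ((MvPolynomial.mem_homogeneousSubmodule _ _).1 Q₂.2).coeff_eq_zero ht]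
    refine nondeg_of_ringEquiv (Nat.le_add_left 1 m) hQV (hVP hτ) (e.symm.trans E) (fun c => ?_) ?_
    · show E (e.symm _) = _
      rw [← he c, e.symm_apply_apply]
      exact hE c
    · rw [hqp]
      exact (nondegQuad_iff Q₂).1 hnd
  · rintro ⟨-, hn⟩
    obtain ⟨P, τ, hτ⟩ := exists_isExp (locally_std i (m + 1) j) χ
    obtain ⟨E, hE⟩ := exists_cpl_secP i H j χ (apply_eq_zero_of_mem_sq i hs) P τ hτ
    refine ⟨isClosed_secP i H j χ _, _, ⟨qp (τ (algebraMap (A i j) P.B (π i j H.1))),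
      (MvPolynomial.mem_homogeneousSubmodule _ _).2 (qp_isHomogeneous _)⟩, E, hE, fun t ht => ?_, fun t ht => ?_, ?_⟩
    · exact PSHom.coeff_eq_zero_of_mem_pow (hVP hτ) ht
    · exact coeff_qp _ ht
    · exact (nondegQuad_iff _).2 (hn P τ hτ)

theorem NodeAt.ne_zero {n : ℕ} (hn : 1 ≤ n) [SmoothOfRelativeDimension n (i ≫ CohB1.ProjSpace.toSpec r k)]
    {j : Fin (r + 1)} {χ : A i j →ₐ[k] k} (h : NodeAt i H n j χ) : π i j H.1 ≠ 0 := by
  intro e
  haveI := smooth i j
  obtain ⟨P, τ, hτ⟩ := exists_isExp (locally_std i n j) χ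
  have h2 := h.2 P τ hτ
  rw [e, map_zero, map_zero] at h2
  exact h2.ne_zero hn (by rw [qp, map_zero, map_zero])

/-- The defining condition of the open stratum of the dual variety. -/
theorem oneOrdQuad_iff [IrreducibleSpace X] {n : ℕ} (hn : 1 ≤ n)
    [SmoothOfRelativeDimension n (i ≫ CohB1.ProjSpace.toSpec r k)] :
    LefPen.OneOrdQuad k n i H ↔ OneNode i H n := by
  obtain ⟨m, rfl⟩ : ∃ m, n = m + 1 := ⟨n - 1, by omega⟩
  haveI := isIntegral i
  show (∃ _, _) ↔ _
  simp only [Nat.add_sub_cancel]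
  constructor
  · rintro ⟨y, hy, hy2⟩
    obtain ⟨j, χ, hχ, rfl⟩ := exists_secP i H y hy2.1
    have hns : ¬ LefPen.SmoothAt (LefPen.secToSpec i ({H} : Set (LefPen.Form r k d))) (secP i H j χ hχ) := fun h =>
      (show secP i H j χ hχ ∈ ({secP i H j χ hχ}ᶜ : Set _) from hy ▸ h) rfl
    rw [smoothAt_secP_iff, not_or, not_not] at hns
    refine ⟨j, χ, (isOrdQuadSing_iff i H j χ hns.2).1 hy2, fun l χ' hl => ?_⟩
    rw [← secP_eq_iff i H χ hχ χ' (apply_eq_zero_of_mem_sq i hl)]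
    by_contra hne
    have h : LefPen.SmoothAt (LefPen.secToSpec i ({H} : Set (LefPen.Form r k d))) (secP i H l χ' _) :=
      hy.ge (fun e => hne e.symm)
    rw [smoothAt_secP_iff] at h
    refine hns.1 ?_
    exact π_form_eq_zero i H l j ⟨_, pX_mem i l χ'⟩ (h.resolve_right (not_not.2 hl))
  · rintro ⟨j, χ, hnode, huniq⟩
    have h0 := NodeAt.ne_zero i H hn hnode
    refine ⟨secP i H j χ (apply_eq_zero_of_mem_sq i hnode.1), ?_, (isOrdQuadSing_iff i H j χ hnode.1).2 hnode⟩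
    refine Set.ext fun y => ⟨fun hy e => ?_, fun hy => ?_⟩
    · rw [Set.mem_singleton_iff] at e
      subst e
      have := (smoothAt_secP_iff i H j χ _).1 hy
      exact this.elim h0 (fun h => h hnode.1)
    · by_contra hc
      refine hy (eq_of_not_smoothAt i H _ (fun l χ' hl hns => ?_) y hc)
      rw [smoothAt_secP_iff, not_or, not_not] at hns
      exact ((secP_eq_iff i H χ _ χ' hl).2 (huniq l χ' hns.2)).symm

end Groth.Agent.LefPen13
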