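import Groth.Agent.Lib.LefPen13.Degen
import Groth.Agent.Lib.LefPen13.Diag

/-! # The forms with a single ordinary double point form an open subset of the singular ones -/

set_option autoImplicit false
set_option linter.style.haveILetI false
set_option backward.isDefEq.respectTransparency false
set_option backward.isDefEq.respectTransparency.types false

universe u

open CategoryTheory CategoryTheory.Limits AlgebraicGeometry TopologicalSpace MvPolynomial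
open scoped TensorProduct

noncomputable section

namespace Groth.Agent.LefPen13

variable {k : Type u} [Field k] [IsAlgClosed k] {r : ℕ} {X : Scheme.{u}} (i : X ⟶ CohB1.ProjSpace r k)
  [IsClosedImmersion i]

/-- A function of two points as a polynomial in their coordinates. -/
theorem exists_rep {n : ℕ} {N : ℕ} (j : Fin (r + 1)) (P : Coord k (A i j) n)
    (E : MvPolynomial (Fin N) (P.B ⊗[k] P.B)) :
    ∃ G : MvPolynomial (Fin (r + 1) ⊕ Fin (r + 1)) (MvPolynomial (Fin N) k), ∃ e : ℕ,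
      ∀ (χ₁ χ₂ : A i j →ₐ[k] k) (h₁ : χ₁ P.f ≠ 0) (h₂ : χ₂ P.f ≠ 0) (c : Fin N → k),
        ev (Sum.elim (coords i j χ₁) (coords i j χ₂)) c G =
          (χ₁ P.f * χ₂ P.f) ^ e * P.evPair (P.pt χ₁ h₁) (P.pt χ₂ h₂) c E := by
  classical
  obtain ⟨F, hF⟩ := π_surjective i j P.f
  let L : MvPolynomial (Fin (r + 1)) k → MvPolynomial (Fin (r + 1) ⊕ Fin (r + 1)) (MvPolynomial (Fin N) k) :=
    fun Q => rename Sum.inl (MvPolynomial.map MvPolynomial.C Q)
  let R : MvPolynomial (Fin (r + 1)) k → MvPolynomial (Fin (r + 1) ⊕ Fin (r + 1)) (MvPolynomial (Fin N) k) :=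
    fun Q => rename Sum.inr (MvPolynomial.map MvPolynomial.C Q)
  have hev : ∀ (χ₁ χ₂ : A i j →ₐ[k] k) (c : Fin N → k) (Q : MvPolynomial (Fin (r + 1)) k),
      ev (Sum.elim (coords i j χ₁) (coords i j χ₂)) c (L Q) = χ₁ (π i j Q) ∧
      ev (Sum.elim (coords i j χ₁) (coords i j χ₂)) c (R Q) = χ₂ (π i j Q) := by
    intro χ₁ χ₂ c Q
    have e : (MvPolynomial.eval c).comp (C : k →+* MvPolynomial (Fin N) k) = RingHom.id k :=
      RingHom.ext fun b => eval_C b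
    constructor <;>
      rw [ev_apply, map_rename, MvPolynomial.map_map, e, MvPolynomial.map_id, eval_rename, χ_π] <;> rfl
  have hFv : ∀ (χ₁ χ₂ : A i j →ₐ[k] k) (c : Fin N → k),
      ev (Sum.elim (coords i j χ₁) (coords i j χ₂)) c (L F * R F) = χ₁ P.f * χ₂ P.f := fun χ₁ χ₂ c => by
    rw [map_mul, (hev _ _ c F).1, (hev _ _ c F).2, hF]
  induction E using MvPolynomial.induction_on with
  | C z =>
    induction z using TensorProduct.induction_on with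
    | zero => exact ⟨0, 0, fun _ _ _ _ _ => by simp⟩
    | tmul a b =>
      obtain ⟨⟨a', ⟨sa, Na, rfl⟩⟩, ha⟩ := IsLocalization.surj (Submonoid.powers P.f) a
      obtain ⟨⟨b', ⟨sb, Nb, rfl⟩⟩, hb⟩ := IsLocalization.surj (Submonoid.powers P.f) b
      obtain ⟨Qa, hQa⟩ := π_surjective i j a'
      obtain ⟨Qb, hQb⟩ := π_surjective i j b'
      refine ⟨L Qa * R Qb * L F ^ Nb * R F ^ Na, Na + Nb, fun χ₁ χ₂ h₁ h₂ c => ?_⟩
      have e1 : P.pt χ₁ h₁ a * χ₁ P.f ^ Na = χ₁ a' := by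
        have := congrArg (P.pt χ₁ h₁) ha
        rw [map_mul] at this
        erw [P.piece.pt_algebraMap χ₁ h₁, P.piece.pt_algebraMap χ₁ h₁] at this
        rwa [map_pow] at this
      have e2 : P.pt χ₂ h₂ b * χ₂ P.f ^ Nb = χ₂ b' := by
        have := congrArg (P.pt χ₂ h₂) hb
        rw [map_mul] at this
        erw [P.piece.pt_algebraMap χ₂ h₂, P.piece.pt_algebraMap χ₂ h₂] at this
        rwa [map_pow] at this
      rw [map_mul, map_mul, map_mul, map_pow, map_pow, (hev _ _ c Qa).1, (hev _ _ c Qb).2, (hev _ _ c F).1,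
        (hev _ _ c F).2, hQa, hQb, hF, ← e1, ← e2, P.evPair_C]
      ring
    | add z z' hz hz' =>
      obtain ⟨G, e, hG⟩ := hz; obtain ⟨G', e', hG'⟩ := hz'
      refine ⟨(L F * R F) ^ e' * G + (L F * R F) ^ e * G', e + e', fun χ₁ χ₂ h₁ h₂ c => ?_⟩
      rw [map_add, map_mul, map_mul, map_pow, map_pow, hFv, hG χ₁ χ₂ h₁ h₂ c, hG' χ₁ χ₂ h₁ h₂ c, map_add, map_add]
      ring
  | add p q hp hq =>
    obtain ⟨G, e, hG⟩ := hp; obtain ⟨G', e', hG'⟩ := hq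
    refine ⟨(L F * R F) ^ e' * G + (L F * R F) ^ e * G', e + e', fun χ₁ χ₂ h₁ h₂ c => ?_⟩
    rw [map_add, map_mul, map_mul, map_pow, map_pow, hFv, hG χ₁ χ₂ h₁ h₂ c, hG' χ₁ χ₂ h₁ h₂ c, map_add]
    ring
  | mul_X p t hp =>
    obtain ⟨G, e, hG⟩ := hp
    refine ⟨G * C (MvPolynomial.X t), e, fun χ₁ χ₂ h₁ h₂ c => ?_⟩
    rw [map_mul, hG χ₁ χ₂ h₁ h₂ c, map_mul, P.evPair_X, show ev _ c (C (MvPolynomial.X t)) = c t from
      (eval₂_C _ _ _).trans (eval_X t)]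
    ring

variable [Smooth (i ≫ CohB1.ProjSpace.toSpec r k)] {d : ℕ} {N : ℕ}
  (b : Module.Basis (Fin N) k (LefPen.Form r k d))

/-- The form with coefficient vector `c`. -/
abbrev frm (c : Fin N → k) : LefPen.Form r k d := b.equivFun.symm c

omit [IsAlgClosed k] [IsClosedImmersion i] [Smooth (i ≫ CohB1.ProjSpace.toSpec r k)] in
theorem algebraMap_frm {n : ℕ} (j : Fin (r + 1)) (P : Coord k (A i j) n) (c : Fin N → k) :
    algebraMap (A i j) P.B (π i j (frm b c).1) = ∑ t, c t • algebraMap (A i j) P.B (fam i b j t) := by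
  rw [← sum_fam, map_sum]
  exact Finset.sum_congr rfl fun t _ => by rw [← IsScalarTower.coe_toAlgHom' k (A i j) P.B, map_smul]

omit [IsAlgClosed k] [IsClosedImmersion i] [Smooth (i ≫ CohB1.ProjSpace.toSpec r k)] in
theorem pt_mem_sq {n : ℕ} {j : Fin (r + 1)} (P : Coord k (A i j) n) (χ : A i j →ₐ[k] k) (hχ : χ P.f ≠ 0) {a : A i j}
    (ha : a ∈ RingHom.ker χ ^ 2) : algebraMap (A i j) P.B a ∈ RingHom.ker (P.pt χ hχ) ^ 2 := by
  have h := Ideal.mem_map_of_mem (algebraMap (A i j) P.B) ha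
  rw [Ideal.map_pow] at h
  refine Ideal.pow_right_mono (Ideal.map_le_iff_le_comap.2 fun z hz => ?_) 2 h
  show P.pt χ hχ (algebraMap (A i j) P.B z) = 0
  exact (P.piece.pt_algebraMap χ hχ z).trans hz

/-- Separation of the diagonal pair at a node. -/
theorem sep_diag {n : ℕ} (hn : 1 ≤ n) [SmoothOfRelativeDimension n (i ≫ CohB1.ProjSpace.toSpec r k)]
    (j : Fin (r + 1)) (χ : A i j →ₐ[k] k) (c₀ : Fin N → k) (hnode : NodeAt i (frm b c₀) n j χ) :
    ∃ (D : ℕ) (P : MvPolynomial (Fin (r + 1) × Fin (r + 1)) (MvPolynomial (Fin N) k)), P.IsHomogeneous D ∧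
      ev (fun t => coords i j χ t.1 * coords i j χ t.2) c₀ P ≠ 0 ∧
      ∀ (l : Fin (r + 1)) (χ₁ : A i l →ₐ[k] k) (s : Fin (r + 1)) (χ₂ : A i s →ₐ[k] k) (c : Fin N → k),
        π i l (frm b c).1 ∈ RingHom.ker χ₁ ^ 2 → π i s (frm b c).1 ∈ RingHom.ker χ₂ ^ 2 →
        ¬ SamePt i l χ₁ s χ₂ → ev (fun t => coords i l χ₁ t.1 * coords i s χ₂ t.2) c P = 0 := by
  classical
  haveI := smooth i j
  obtain ⟨P, τ, hτ⟩ := exists_isExp (locally_std i n j) χ
  obtain ⟨E, hE0, hE⟩ := P.exists_evPair (fun t => algebraMap (A i j) P.B (fam i b j t)) (P.pt χ hτ.hf) c₀ τ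
    (P.expansion_lin hτ) (by rw [← algebraMap_frm]; exact pt_mem_sq i P χ hτ.hf hnode.1)
    (by rw [← algebraMap_frm]; exact hnode.2 P τ hτ)
  obtain ⟨G, e, hG⟩ := exists_rep i j P E
  obtain ⟨F, hF⟩ := π_surjective i j P.f
  let θ : Fin (r + 1) ⊕ Fin (r + 1) → Fin (r + 1) × Fin (r + 1) := Sum.elim (fun p => (p, j)) (fun q => (j, q))
  let G' := G * rename Sum.inl (MvPolynomial.map MvPolynomial.C F) * rename Sum.inr (MvPolynomial.map MvPolynomial.C F)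
  have hG' : ∀ (χ₁ χ₂ : A i j →ₐ[k] k) c, ev (Sum.elim (coords i j χ₁) (coords i j χ₂)) c G' =
      ev (Sum.elim (coords i j χ₁) (coords i j χ₂)) c G * χ₁ P.f * χ₂ P.f := by
    intro χ₁ χ₂ c
    have e : (MvPolynomial.eval c).comp (C : k →+* MvPolynomial (Fin N) k) = RingHom.id k :=
      RingHom.ext fun b => eval_C b
    have e1 : ev (Sum.elim (coords i j χ₁) (coords i j χ₂)) c (rename Sum.inl (MvPolynomial.map MvPolynomial.C F)) = χ₁ P.f := by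
      rw [ev_apply, map_rename, MvPolynomial.map_map, e, MvPolynomial.map_id, eval_rename, ← hF, χ_π]
      rfl
    have e2 : ev (Sum.elim (coords i j χ₁) (coords i j χ₂)) c (rename Sum.inr (MvPolynomial.map MvPolynomial.C F)) = χ₂ P.f := by
      rw [ev_apply, map_rename, MvPolynomial.map_map, e, MvPolynomial.map_id, eval_rename, ← hF, χ_π]
      rfl
    rw [map_mul, map_mul, e1, e2]
  obtain ⟨D, Q, hQh, hQ0, hQs⟩ := homogenise (j, j) (rename θ G')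
  have hθ : ∀ (χ₁ χ₂ : A i j →ₐ[k] k) c,
      ev (fun t => coords i j χ₁ t.1 * coords i j χ₂ t.2) c (rename θ G') =
        ev (Sum.elim (coords i j χ₁) (coords i j χ₂)) c G' := by
    intro χ₁ χ₂ c
    show eval₂ _ _ (rename θ G') = eval₂ _ _ G'
    rw [eval₂_rename]
    congr 1
    funext x
    cases x <;> simp [θ, coords_self]
  refine ⟨D, Q, hQh, ?_, fun l χ₁ s χ₂ c h₁ h₂ hne => ?_⟩
  · rw [hQs _ (fun t => coords i j χ t.1 * coords i j χ t.2) c₀ (fun t => by simp [coords_self]), hθ, hG',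
      hG χ χ hτ.hf hτ.hf c₀]
    simp [coords_self, hE0, hτ.hf]
  · by_cases hl : coords i l χ₁ j = 0
    · exact hQ0 _ _ (show coords i l χ₁ j * coords i s χ₂ j = 0 by rw [hl, zero_mul])
    by_cases hs : coords i s χ₂ j = 0
    · exact hQ0 _ _ (show coords i l χ₁ j * coords i s χ₂ j = 0 by rw [hs, mul_zero])
    obtain ⟨ψ₁, hs₁, hc₁, hi₁⟩ := exists_samePt i l j χ₁ hl
    obtain ⟨ψ₂, hs₂, hc₂, hi₂⟩ := exists_samePt i s j χ₂ hs
    rw [hQs _ (fun t => coords i j ψ₁ t.1 * coords i j ψ₂ t.2) c (fun t => by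
      show coords i j ψ₁ t.1 * coords i j ψ₂ t.2 * (coords i l χ₁ j * coords i s χ₂ j) = _
      rw [mul_mul_mul_comm, hc₁, hc₂]), hθ, hG']
    by_cases hf₁ : ψ₁ P.f = 0
    · simp [hf₁]
    by_cases hf₂ : ψ₂ P.f = 0
    · simp [hf₂]
    have hpt : P.pt ψ₁ hf₁ ≠ P.pt ψ₂ hf₂ := fun hpt => hne (by
      have : ψ₁ = ψ₂ := AlgHom.ext fun a => by
        have e := DFunLike.congr_fun hpt (algebraMap (A i j) P.B a)
        erw [P.piece.pt_algebraMap ψ₁ hf₁, P.piece.pt_algebraMap ψ₂ hf₂] at e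
        exact e
      subst this
      exact SamePt.trans i hs₁ (SamePt.symm i hs₂))
    have hm₁ : ∑ t, c t • algebraMap (A i j) P.B (fam i b j t) ∈ RingHom.ker (P.pt ψ₁ hf₁) ^ 2 := by
      rw [← algebraMap_frm]; exact pt_mem_sq i P ψ₁ hf₁ ((hi₁ d _).2 h₁)
    have hm₂ : ∑ t, c t • algebraMap (A i j) P.B (fam i b j t) ∈ RingHom.ker (P.pt ψ₂ hf₂) ^ 2 := by
      rw [← algebraMap_frm]; exact pt_mem_sq i P ψ₂ hf₂ ((hi₂ d _).2 h₂)
    rw [hG ψ₁ ψ₂ hf₁ hf₂ c, hE _ _ c hpt hm₁ hm₂]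
    simp

/-- Separation at a point where the form is not tangent. -/
theorem sep_sing (c₀ : Fin N → k) (a : Fin (r + 1) → k) (j : Fin (r + 1)) (hj : a j ≠ 0)
    (h : ∀ χ : A i j →ₐ[k] k, (∀ l, coords i j χ l * a j = a l) → π i j (frm b c₀).1 ∉ RingHom.ker χ ^ 2) :
    ∃ (D : ℕ) (P : MvPolynomial (Fin (r + 1)) (MvPolynomial (Fin N) k)), P.IsHomogeneous D ∧ ev a c₀ P ≠ 0 ∧
      ∀ l χ c, π i l (frm b c).1 ∈ RingHom.ker χ ^ 2 → ev (coords i l χ) c P = 0 := by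
  haveI : ∀ j, Algebra.Smooth k (A i j) := fun j => smooth i j
  refine sep_at i (fun l χ c => π i l (frm b c).1 ∈ RingHom.ker χ ^ 2)
    (fun j l χ χ' c hs hb => (SamePt.singular_iff i hs _).2 hb) c₀ a j hj fun χ hχ => ?_
  obtain ⟨Q, hQ0, hQ⟩ := exists_sep (fam i b j) χ c₀ (fun hb => h χ hχ ((bad_iff i b j χ c₀).1 hb))
  exact ⟨Q, hQ0, fun χ' c hb => hQ χ' c ((bad_iff i b j χ' c).2 hb)⟩

/-- At most one singular point near a form with a single node. -/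
theorem onePoint_open {n : ℕ} (hn : 1 ≤ n) [SmoothOfRelativeDimension n (i ≫ CohB1.ProjSpace.toSpec r k)]
    (c₀ : Fin N → k) (h₀ : OneNode i (frm b c₀) n) :
    ∃ E : MvPolynomial (Fin N) k, MvPolynomial.eval c₀ E ≠ 0 ∧
      ∀ (l : Fin (r + 1)) (χ₁ : A i l →ₐ[k] k) (s : Fin (r + 1)) (χ₂ : A i s →ₐ[k] k) (c : Fin N → k),
        π i l (frm b c).1 ∈ RingHom.ker χ₁ ^ 2 → π i s (frm b c).1 ∈ RingHom.ker χ₂ ^ 2 →
        MvPolynomial.eval c E ≠ 0 → SamePt i l χ₁ s χ₂ := by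
  classical
  obtain ⟨j₀, χ₀, hnode, huniq⟩ := h₀
  let Bd : (Fin (r + 1) × Fin (r + 1) → k) → (Fin N → k) → Prop := fun a c =>
    ∃ (l : Fin (r + 1)) (χ₁ : A i l →ₐ[k] k) (s : Fin (r + 1)) (χ₂ : A i s →ₐ[k] k),
      π i l (frm b c).1 ∈ RingHom.ker χ₁ ^ 2 ∧ π i s (frm b c).1 ∈ RingHom.ker χ₂ ^ 2 ∧ ¬ SamePt i l χ₁ s χ₂ ∧
        a = fun t => coords i l χ₁ t.1 * coords i s χ₂ t.2
  obtain ⟨E, hE0, hE⟩ := elim Bd (by
    rintro a c ⟨l, χ₁, s, χ₂, -, -, -, rfl⟩ h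
    have := congrFun h (l, s)
    simp [coords_self] at this) c₀ (by
    intro a ha
    obtain ⟨⟨j, l⟩, hjl⟩ : ∃ t, a t ≠ 0 := Function.ne_iff.1 ha
    by_cases hrank : ∃ p q, a (p, q) * a (j, l) ≠ a (p, l) * a (j, q)
    · obtain ⟨p, q, hpq⟩ := hrank
      refine ⟨2, MvPolynomial.X (p, q) * MvPolynomial.X (j, l) - MvPolynomial.X (p, l) * MvPolynomial.X (j, q),
        ((isHomogeneous_X _ _).mul (isHomogeneous_X _ _)).sub ((isHomogeneous_X _ _).mul (isHomogeneous_X _ _)), ?_, ?_⟩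
      · simpa [ev, sub_eq_zero] using hpq
      · rintro a' c ⟨l', χ₁, s, χ₂, -, -, -, rfl⟩
        simp [ev]; ring
    push Not at hrank
    by_cases hcol : ∀ χ : A i j →ₐ[k] k, (∀ p, coords i j χ p * a (j, l) = a (p, l)) →
        π i j (frm b c₀).1 ∉ RingHom.ker χ ^ 2
    · obtain ⟨D, P, hP, hP0, hPv⟩ := sep_sing i b c₀ (fun p => a (p, l)) j hjl hcol
      refine ⟨D, rename (fun p => (p, l)) P, hP.rename_isHomogeneous, ?_, ?_⟩
      · show eval₂ _ _ (rename _ P) ≠ 0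
        rw [eval₂_rename]
        exact hP0
      · rintro a' c ⟨l', χ₁, s, χ₂, h₁, -, -, rfl⟩
        show eval₂ _ _ (rename _ P) = 0
        rw [eval₂_rename]
        show ev (fun p => coords i l' χ₁ p * coords i s χ₂ l) c P = 0
        simp only [mul_comm _ (coords i s χ₂ l)]
        rw [ev_smul hP, hPv l' χ₁ c h₁, mul_zero]
    by_cases hrow : ∀ χ : A i l →ₐ[k] k, (∀ q, coords i l χ q * a (j, l) = a (j, q)) →
        π i l (frm b c₀).1 ∉ RingHom.ker χ ^ 2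
    · obtain ⟨D, P, hP, hP0, hPv⟩ := sep_sing i b c₀ (fun q => a (j, q)) l hjl hrow
      refine ⟨D, rename (fun q => (j, q)) P, hP.rename_isHomogeneous, ?_, ?_⟩
      · show eval₂ _ _ (rename _ P) ≠ 0
        rw [eval₂_rename]
        exact hP0
      · rintro a' c ⟨l', χ₁, s, χ₂, -, h₂, -, rfl⟩
        show eval₂ _ _ (rename _ P) = 0
        rw [eval₂_rename]
        show ev (fun q => coords i l' χ₁ j * coords i s χ₂ q) c P = 0
        rw [ev_smul hP, hPv s χ₂ c h₂, mul_zero]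
    push Not at hcol hrow
    obtain ⟨χu, hu, hu2⟩ := hcol
    obtain ⟨χw, hw, hw2⟩ := hrow
    obtain ⟨hju, hyu⟩ := SamePt.coords_eq i (huniq j χu hu2)
    obtain ⟨hlw, hyw⟩ := SamePt.coords_eq i (huniq l χw hw2)
    obtain ⟨D, P, hP, hP0, hPv⟩ := sep_diag i b hn j₀ χ₀ c₀ hnode
    refine ⟨D, P, hP, ?_, ?_⟩
    · have ea : a = fun t => a (j, l) / (coords i j₀ χ₀ j * coords i j₀ χ₀ l) * (coords i j₀ χ₀ t.1 * coords i j₀ χ₀ t.2) := by
        funext t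
        obtain ⟨p, q⟩ := t
        refine mul_right_cancel₀ hjl ?_
        rw [hrank p q, ← hu p, ← hw q, hyu p, hyw q]
        field_simp
      rw [ea, ev_smul hP]
      exact mul_ne_zero (pow_ne_zero _ (div_ne_zero hjl (mul_ne_zero hju hlw))) hP0
    · rintro a' c ⟨l', χ₁, s, χ₂, h₁, h₂, hne, rfl⟩
      exact hPv l' χ₁ s χ₂ c h₁ h₂ hne)
  exact ⟨E, hE0, fun l χ₁ s χ₂ c h₁ h₂ hc => by_contra fun hne => hc (hE _ c ⟨l, χ₁, s, χ₂, h₁, h₂, hne, rfl⟩)⟩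

include b in
/-- The forms with exactly one node are open among the singular ones. -/
theorem oneNode_open {m : ℕ} [SmoothOfRelativeDimension (m + 1) (i ≫ CohB1.ProjSpace.toSpec r k)]
    (F₀ : LefPen.Form r k d) (h₀ : OneNode i F₀ (m + 1)) :
    ∃ E : MvPolynomial (Fin N) k, MvPolynomial.eval (b.equivFun F₀) E ≠ 0 ∧
      ∀ F, Singular i F → MvPolynomial.eval (b.equivFun F) E ≠ 0 → OneNode i F (m + 1) := by
  classical
  haveI : ∀ j, Algebra.Smooth k (A i j) := fun j => smooth i j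
  obtain ⟨c₀, rfl⟩ : ∃ c, frm b c = F₀ := ⟨b.equivFun F₀, b.equivFun.symm_apply_apply F₀⟩
  rw [LinearEquiv.apply_symm_apply]
  obtain ⟨E₁, hE₁, hE₁'⟩ := onePoint_open i b (Nat.le_add_left 1 m) c₀ h₀
  obtain ⟨j₀, χ₀, hnode, huniq⟩ := h₀
  let Bd : ∀ j : Fin (r + 1), (A i j →ₐ[k] k) → (Fin N → k) → Prop := fun j χ c =>
    π i j (frm b c).1 ∈ RingHom.ker χ ^ 2 ∧ ¬ NodeAt i (frm b c) (m + 1) j χ
  have hBd : ∀ j l χ χ' c, SamePt i j χ l χ' → Bd j χ c → Bd l χ' c := fun j l χ χ' c hs hb =>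
    ⟨(SamePt.singular_iff i hs _).2 hb.1, fun hn => hb.2 (NodeAt.samePt i _ hn (SamePt.symm i hs))⟩
  obtain ⟨E₂, hE₂, hE₂'⟩ := elim (fun a c => ∃ j χ, a = coords i j χ ∧ Bd j χ c) (by
    rintro a c ⟨j, χ, rfl, -⟩ h
    have := congrFun h j
    simp [coords_self] at this) c₀ (by
    intro a ha
    obtain ⟨j, hj⟩ : ∃ j, a j ≠ 0 := Function.ne_iff.1 ha
    obtain ⟨D, P, hP, hP0, hPv⟩ := sep_at i Bd hBd c₀ a j hj fun χ _ => by
      by_cases hs : π i j (frm b c₀).1 ∈ RingHom.ker χ ^ 2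
      · obtain ⟨Q, hQ0, hQ⟩ := exists_sep_degen i b (Nat.le_add_left 1 m) j χ c₀
          (NodeAt.samePt i _ hnode (huniq j χ hs))
        exact ⟨Q, hQ0, fun χ' c hb => hQ χ' c hb.1 hb.2⟩
      · obtain ⟨Q, hQ0, hQ⟩ := exists_sep (fam i b j) χ c₀ (fun hb => hs ((bad_iff i b j χ c₀).1 hb))
        exact ⟨Q, hQ0, fun χ' c hb => hQ χ' c ((bad_iff i b j χ' c).2 hb.1)⟩
    exact ⟨D, P, hP, hP0, fun a' c' ⟨j', χ', e, hb⟩ => e ▸ hPv j' χ' c' hb⟩)
  refine ⟨E₁ * E₂, by rw [map_mul]; exact mul_ne_zero hE₁ hE₂, fun F hF hne => ?_⟩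
  rw [map_mul, mul_ne_zero_iff] at hne
  obtain ⟨c, rfl⟩ : ∃ c, frm b c = F := ⟨b.equivFun F, b.equivFun.symm_apply_apply F⟩
  rw [LinearEquiv.apply_symm_apply] at hne
  obtain ⟨j, χ, hs⟩ := hF
  refine ⟨j, χ, by_contra fun hn => hne.2 (hE₂' _ c ⟨j, χ, rfl, hs, hn⟩), fun l χ' hl => ?_⟩
  exact hE₁' j χ l χ' c hs hl hne.1

end Groth.Agent.LefPen13
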