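import Groth.Agent.Lib.LefPen13.Pencil

/-! # Coordinates on the space of pairs of forms -/

set_option autoImplicit false
universe u

noncomputable section

namespace Groth.Agent.LefPen13

variable {k : Type u} [Field k] {V : Type u} [AddCommGroup V] [Module k V] {N : ℕ} (b : Module.Basis (Fin N) k V)

/-- The basis of pairs. -/
def pairBasis : Module.Basis (Fin (N + N)) k (V × V) := (b.prod b).reindex finSumFinEquiv

theorem fst_pairBasis (v : V × V) : fst ((pairBasis b).equivFun v) = b.equivFun v.1 := by
  funext p
  simp [fst, pairBasis]

theorem snd_pairBasis (v : V × V) : snd ((pairBasis b).equivFun v) = b.equivFun v.2 := by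
  funext p
  simp only [snd, pairBasis, Module.Basis.equivFun_apply, Module.Basis.repr_reindex_apply, finSumFinEquiv_symm_apply_natAdd]
  simp

end Groth.Agent.LefPen13
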