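import Groth.Agent.Lib.LefPen13.SecPair
import Groth.Agent.Lib.LefPen13.Fun
import Mathlib

/-! # Lefschetz pencils in terms of rational points, and openness -/

set_option autoImplicit false
set_option linter.style.haveILetI false
set_option backward.isDefEq.respectTransparency false
set_option backward.isDefEq.respectTransparency.types false

universe u

open CategoryTheory CategoryTheory.Limits AlgebraicGeometry TopologicalSpace MvPolynomial

noncomputable section

namespace Groth.Agent.LefPen13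

variable {k : Type u} [Field k] [IsAlgClosed k] {r : ℕ} {X : Scheme.{u}} (i : X ⟶ CohB1.ProjSpace r k)
  [IsClosedImmersion i] [Smooth (i ≫ CohB1.ProjSpace.toSpec r k)] {d : ℕ}

omit [IsAlgClosed k] [IsClosedImmersion i] [Smooth (i ≫ CohB1.ProjSpace.toSpec r k)] in
theorem π_smul (j : Fin (r + 1)) (t : k) (F : LefPen.Form r k d) :
    π i j (t • F : LefPen.Form r k d).1 = t • π i j F.1 := by
  rw [Submodule.coe_smul, smul_eq_C_mul, map_mul, π_C, Algebra.smul_def]

omit [IsAlgClosed k] [IsClosedImmersion i] [Smooth (i ≫ CohB1.ProjSpace.toSpec r k)] in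
theorem π_lincomb (j : Fin (r + 1)) (s t : k) (F G : LefPen.Form r k d) :
    π i j (s • F + t • G : LefPen.Form r k d).1 = s • π i j F.1 + t • π i j G.1 := by
  rw [Submodule.coe_add, map_add, π_smul, π_smul]

omit [IsAlgClosed k] [IsClosedImmersion i] [Smooth (i ≫ CohB1.ProjSpace.toSpec r k)] in
theorem singular_smul {t : k} (ht : t ≠ 0) (F : LefPen.Form r k d) : Singular i (t • F) ↔ Singular i F := by
  refine exists_congr fun j => exists_congr fun χ => ?_
  rw [π_smul, Algebra.smul_def, Ideal.unit_mul_mem_iff_mem _ ((isUnit_iff_ne_zero.2 ht).map _)]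

omit [IsClosedImmersion i] [IsAlgClosed k] [Smooth (i ≫ CohB1.ProjSpace.toSpec r k)] in
theorem oneNode_smul {t : k} (ht : t ≠ 0) {n : ℕ} {F : LefPen.Form r k d} (h : OneNode i F n) :
    OneNode i (t • F) n := by
  have hmem : ∀ (j : Fin (r + 1)) (χ : A i j →ₐ[k] k),
      π i j (t • F : LefPen.Form r k d).1 ∈ RingHom.ker χ ^ 2 ↔ π i j F.1 ∈ RingHom.ker χ ^ 2 := fun j χ => by
    rw [π_smul, Algebra.smul_def, Ideal.unit_mul_mem_iff_mem _ ((isUnit_iff_ne_zero.2 ht).map _)]
  obtain ⟨j, χ, ⟨hs, hnd⟩, huniq⟩ := h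
  refine ⟨j, χ, ⟨(hmem j χ).2 hs, fun P τ hτ => ?_⟩, fun l χ' hl => huniq l χ' ((hmem l χ').1 hl)⟩
  have e : τ (algebraMap (A i j) P.B (π i j (t • F : LefPen.Form r k d).1)) =
      MvPowerSeries.C t * τ (algebraMap (A i j) P.B (π i j F.1)) := by
    rw [π_smul, ← IsScalarTower.coe_toAlgHom' k (A i j) P.B, map_smul, map_smul, Algebra.smul_def]
    rfl
  rw [e, qp_mul _ ((hτ.hmem 2 _).1 hs), MvPowerSeries.constantCoeff_C]
  exact (hnd P τ hτ).C_mul ht

/-- A Lefschetz pencil in terms of rational points. -/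
def Good (n : ℕ) (F G : LefPen.Form r k d) : Prop :=
  LinearIndependent k ![F, G] ∧ ¬ BaseSing i F G ∧ (∃ c : k, ¬ Singular i (F + c • G)) ∧
    ∀ s t : k, (s ≠ 0 ∨ t ≠ 0) → Singular i (s • F + t • G) → OneNode i (s • F + t • G) n

variable {N : ℕ} (b : Module.Basis (Fin N) k (LefPen.Form r k d))

include b in
/-- All but finitely many members are transversal as soon as one is. -/
theorem finite_singular (F G : LefPen.Form r k d) (h : ∃ c : k, ¬ Singular i (F + c • G)) :
    {c : k | Singular i (F + c • G)}.Finite := by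
  classical
  obtain ⟨c₁, hc₁⟩ := h
  obtain ⟨E, hE0, hE⟩ := singular_closed i b _ hc₁
  let p : Polynomial k := MvPolynomial.eval₂ Polynomial.C
    (fun t => Polynomial.C (b.equivFun F t) + Polynomial.X * Polynomial.C (b.equivFun G t)) E
  have hp : ∀ c, p.eval c = MvPolynomial.eval (b.equivFun (F + c • G)) E := fun c => by
    show (Polynomial.evalRingHom c) (MvPolynomial.eval₂ Polynomial.C _ E) = _
    rw [MvPolynomial.eval₂_comp_left, map_add, map_smul]
    show MvPolynomial.eval₂ _ _ E = MvPolynomial.eval₂ (RingHom.id k) _ E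
    congr 1
    · exact RingHom.ext fun a => Polynomial.eval_C
    · funext t
      simp [Polynomial.coe_evalRingHom]
      ring
  have hne : p ≠ 0 := fun h0 => hE0 (by rw [← hp, h0, Polynomial.eval_zero])
  refine (Polynomial.finite_setOfPred_isRoot hne).subset fun c hc => ?_
  show p.eval c = 0
  rw [hp]
  exact hE _ hc

include b in
/-- The rational point description of Lefschetz pencils. -/
theorem pencil_iff [IrreducibleSpace X] {n : ℕ} (hn : 1 ≤ n) [SmoothOfRelativeDimension n (i ≫ CohB1.ProjSpace.toSpec r k)]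
    (F G : LefPen.Form r k d) : LefPen.IsLefschetzPencil k n i d F G ↔ Good i n F G := by
  have hT : ∀ H : LefPen.Form r k d,
      ¬ LefPen.Transversal k n 1 (LefPen.secToSpec i ({H} : Set (LefPen.Form r k d))) ↔ Singular i H := fun H => by
    rw [transversal_iff i hn H, not_not]
  have hmem : (∀ H ∈ LefPen.members k F G,
      ¬ LefPen.Transversal k n 1 (LefPen.secToSpec i ({H} : Set (LefPen.Form r k d))) → LefPen.OneOrdQuad k n i H) ↔
      ∀ s t : k, (s ≠ 0 ∨ t ≠ 0) → Singular i (s • F + t • G) → OneNode i (s • F + t • G) n := by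
    constructor
    · intro h s t hst hs
      by_cases hs0 : s = 0
      · have ht : t ≠ 0 := hst.resolve_left (not_not.2 hs0)
        rw [hs0, zero_smul, zero_add] at hs ⊢
        exact oneNode_smul i ht ((oneOrdQuad_iff i G hn).1 (h G (Or.inl rfl) ((hT G).2 ((singular_smul i ht G).1 hs))))
      · have e : s • F + t • G = s • (F + (t / s) • G) := by
          rw [smul_add, smul_smul, mul_div_cancel₀ _ hs0]
        rw [e] at hs ⊢
        exact oneNode_smul i hs0 ((oneOrdQuad_iff i _ hn).1 (h _ (Or.inr ⟨t / s, rfl⟩) ((hT _).2 ((singular_smul i hs0 _).1 hs))))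
    · intro h H hH hnt
      rw [hT] at hnt
      rw [oneOrdQuad_iff i H hn]
      rcases hH with rfl | ⟨c, rfl⟩
      · have := h 0 1 (Or.inr one_ne_zero)
        rw [zero_smul, zero_add, one_smul] at this
        exact this hnt
      · have := h 1 c (Or.inl one_ne_zero)
        rw [one_smul] at this
        exact this hnt
  unfold LefPen.IsLefschetzPencil Good
  rw [transversal2_iff i F G hn, hmem]
  refine and_congr_right fun _ => and_congr_right fun _ => and_congr_left fun _ => ?_
  have e : {c : k | ¬ LefPen.Transversal k n 1 (LefPen.secToSpec i ({F + c • G} : Set (LefPen.Form r k d)))} =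
      {c : k | Singular i (F + c • G)} := Set.ext fun c => hT _
  rw [e]
  refine ⟨fun hf => ?_, finite_singular i b F G⟩
  by_contra! hall
  exact Set.infinite_univ (hf.subset fun c _ => hall c)

/-- The two halves of a parameter vector. -/
def fst (c : Fin (N + N) → k) : Fin N → k := fun p => c (Fin.castAdd N p)

/-- The two halves of a parameter vector. -/
def snd (c : Fin (N + N) → k) : Fin N → k := fun p => c (Fin.natAdd N p)

/-- Separation at a point where the base locus is transversal. -/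
theorem sep_base {n : ℕ} [SmoothOfRelativeDimension n (i ≫ CohB1.ProjSpace.toSpec r k)]
    (j : Fin (r + 1)) (χ : A i j →ₐ[k] k) (c₀ : Fin (N + N) → k)
    (h : ¬ BasePt χ (π i j (frm b (fst c₀)).1) (π i j (frm b (snd c₀)).1)) :
    ∃ Q : MvPolynomial (Fin (N + N)) (A i j), MvPolynomial.eval₂ χ.toRingHom c₀ Q ≠ 0 ∧
      ∀ χ' c, BasePt χ' (π i j (frm b (fst c)).1) (π i j (frm b (snd c)).1) →
        MvPolynomial.eval₂ χ'.toRingHom c Q = 0 := by
  classical
  haveI := smooth i j
  have hval : ∀ (inj : Fin N → Fin (N + N)) (χ' : A i j →ₐ[k] k) (c : Fin (N + N) → k),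
      MvPolynomial.eval₂ χ'.toRingHom c (∑ t, MvPolynomial.C (fam i b j t) * MvPolynomial.X (inj t)) =
        χ' (π i j (frm b (fun p => c (inj p))).1) := by
    intro inj χ' c
    rw [← sum_fam]
    simp [MvPolynomial.eval₂_sum, map_sum, map_smul, mul_comm]
  by_cases hf : χ (π i j (frm b (fst c₀)).1) = 0
  swap
  · exact ⟨_, by rw [hval (Fin.castAdd N)]; exact hf, fun χ' c hb => by rw [hval (Fin.castAdd N)]; exact hb.1⟩
  by_cases hg : χ (π i j (frm b (snd c₀)).1) = 0
  swap
  · exact ⟨_, by rw [hval (Fin.natAdd N)]; exact hg, fun χ' c hb => by rw [hval (Fin.natAdd N)]; exact hb.2.1⟩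
  obtain ⟨P, hP⟩ := exists_coord (locally_std i n j) χ
  let L : (Fin N → Fin (N + N)) → Fin n → MvPolynomial (Fin (N + N)) P.B := fun inj l =>
    ∑ t, MvPolynomial.C (P.pd l (algebraMap (A i j) P.B (fam i b j t))) * MvPolynomial.X (inj t)
  let M : Fin n → Fin n → MvPolynomial (Fin (N + N)) P.B := fun l l' =>
    L (Fin.castAdd N) l * L (Fin.natAdd N) l' - L (Fin.castAdd N) l' * L (Fin.natAdd N) l
  have hL : ∀ (χ' : A i j →ₐ[k] k) (h' : χ' P.f ≠ 0) (c : Fin (N + N) → k) (inj : Fin N → Fin (N + N)) (l : Fin n),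
      MvPolynomial.eval₂ (P.pt χ' h').toRingHom c (L inj l) = P.grad χ' h' (π i j (frm b (fun p => c (inj p))).1) l := by
    intro χ' h' c inj l
    rw [← sum_fam, map_sum, Finset.sum_apply, MvPolynomial.eval₂_sum]
    refine Finset.sum_congr rfl fun t _ => ?_
    rw [map_smul, Pi.smul_apply, smul_eq_mul, MvPolynomial.eval₂_mul, MvPolynomial.eval₂_C, MvPolynomial.eval₂_X, mul_comm]
    rfl
  obtain ⟨l, l', hll⟩ : ∃ l l', MvPolynomial.eval₂ (P.pt χ hP).toRingHom c₀ (M l l') ≠ 0 := by
    by_contra! hall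
    apply h
    refine ⟨hf, hg, ?_⟩
    let u := P.grad χ hP (π i j (frm b (fst c₀)).1)
    let v := P.grad χ hP (π i j (frm b (snd c₀)).1)
    have huv : ∀ l l', u l * v l' = u l' * v l := fun l l' => by
      have := hall l l'
      rw [MvPolynomial.eval₂_sub, MvPolynomial.eval₂_mul, MvPolynomial.eval₂_mul, hL, hL, hL, hL, sub_eq_zero] at this
      exact this
    have key : ∀ s t : k, (∀ l, s * u l + t * v l = 0) →
        s • π i j (frm b (fst c₀)).1 + t • π i j (frm b (snd c₀)).1 ∈ RingHom.ker χ ^ 2 := fun s t hst =>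
      mem_sq_of_grad (locally_std i n j) P χ hP (by rw [map_add, map_smul, map_smul, hf, hg, smul_zero, smul_zero, add_zero])
        (funext fun l => by rw [map_add, map_smul, map_smul]; exact hst l)
    by_cases hu : u = 0
    · exact ⟨1, 0, Or.inl one_ne_zero, key 1 0 fun l => by simp [hu]⟩
    obtain ⟨l₀, hl₀⟩ := Function.ne_iff.1 hu
    exact ⟨v l₀, -u l₀, Or.inr (neg_ne_zero.2 hl₀), key _ _ fun l => by linear_combination huv l l₀⟩
  obtain ⟨e, QA, hQA⟩ := exists_clear (A := A i j) P.f (M l l')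
  have hval2 : ∀ (χ' : A i j →ₐ[k] k) (h' : χ' P.f ≠ 0) (c : Fin (N + N) → k),
      MvPolynomial.eval₂ χ'.toRingHom c QA = χ' P.f ^ e * MvPolynomial.eval₂ (P.pt χ' h').toRingHom c (M l l') := by
    intro χ' h' c
    have hp : (P.pt χ' h').toRingHom.comp (algebraMap (A i j) P.B) = χ'.toRingHom :=
      RingHom.ext fun a => P.piece.pt_algebraMap χ' h' a
    rw [← hp, ← MvPolynomial.eval₂_map, hQA, MvPolynomial.eval₂_mul, MvPolynomial.eval₂_C, map_pow]
    congr 2
    exact P.piece.pt_algebraMap χ' h' P.f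
  refine ⟨MvPolynomial.C P.f * QA, ?_, fun χ' c hb => ?_⟩
  · rw [MvPolynomial.eval₂_mul, MvPolynomial.eval₂_C, hval2 χ hP]
    exact mul_ne_zero hP (mul_ne_zero (pow_ne_zero _ hP) hll)
  · rw [MvPolynomial.eval₂_mul, MvPolynomial.eval₂_C]
    by_cases h' : χ' P.f = 0
    · exact mul_eq_zero_of_left h' _
    rw [hval2 χ' h']
    obtain ⟨-, -, s, t, hst, hsq⟩ := hb
    refine mul_eq_zero_of_right _ (mul_eq_zero_of_right _ ?_)
    rw [MvPolynomial.eval₂_sub, MvPolynomial.eval₂_mul, MvPolynomial.eval₂_mul, hL, hL, hL, hL]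
    let u := P.grad χ' h' (π i j (frm b (fst c)).1)
    let v := P.grad χ' h' (π i j (frm b (snd c)).1)
    have hz : ∀ l, s * u l + t * v l = 0 := fun l => by
      have h0 := P.pd_eq_zero_of_mem_sq (pt_mem_sq i P χ' h' hsq) l
      have e1 : P.grad χ' h' (s • π i j (frm b (fst c)).1 + t • π i j (frm b (snd c)).1) l = 0 := h0
      rw [map_add, map_smul, map_smul] at e1
      exact e1
    show u l * v l' - u l' * v l = 0
    rcases hst with hs | ht
    · refine (mul_eq_zero.1 (?_ : s * (u l * v l' - u l' * v l) = 0)).resolve_left hs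
      linear_combination v l' * hz l - v l * hz l'
    · refine (mul_eq_zero.1 (?_ : t * (u l * v l' - u l' * v l) = 0)).resolve_left ht
      linear_combination u l * hz l' - u l' * hz l

/-- A cone avoiding a point avoids it by a homogeneous polynomial. -/
theorem exists_component {M : ℕ} (E : MvPolynomial (Fin M) k) (c₀ : Fin M → k) (h0 : MvPolynomial.eval c₀ E ≠ 0) :
    ∃ (e : ℕ) (Eh : MvPolynomial (Fin M) k), Eh.IsHomogeneous e ∧ MvPolynomial.eval c₀ Eh ≠ 0 ∧
      ∀ c : Fin M → k, (∀ t : k, t ≠ 0 → MvPolynomial.eval (fun p => t * c p) E = 0) → MvPolynomial.eval c Eh = 0 := by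
  classical
  rw [← sum_homogeneousComponent E, map_sum] at h0
  obtain ⟨e, he, hne⟩ := Finset.exists_ne_zero_of_sum_ne_zero h0
  refine ⟨e, homogeneousComponent e E, homogeneousComponent_isHomogeneous _ _, hne, fun c hc => ?_⟩
  let p : Polynomial k := ∑ a ∈ Finset.range (E.totalDegree + 1),
    Polynomial.monomial a (MvPolynomial.eval c (homogeneousComponent a E))
  have hp : ∀ t, t ≠ 0 → p.eval t = 0 := by
    intro t ht
    rw [← hc t ht]
    conv_rhs => rw [← sum_homogeneousComponent E]
    rw [map_sum, Polynomial.eval_finsetSum]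
    refine Finset.sum_congr rfl fun a _ => ?_
    rw [Polynomial.eval_monomial, mul_comm]
    exact (show t ^ a * MvPolynomial.eval c (homogeneousComponent a E) = MvPolynomial.eval (fun p => t * c p) (homogeneousComponent a E) by
      rw [MvPolynomial.eval_eq', MvPolynomial.eval_eq', Finset.mul_sum]
      refine Finset.sum_congr rfl fun m hm => ?_
      have hd : ∑ l, m l = a := by
        rw [← Finsupp.degree_eq_sum]
        by_contra hne
        exact mem_support_iff.1 hm ((homogeneousComponent_isHomogeneous a E).coeff_eq_zero hne)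
      simp only [mul_pow, Finset.prod_mul_distrib, Finset.prod_pow_eq_pow_sum, hd]
      ring)
  have hp0 : p = 0 := by
    refine Polynomial.eq_zero_of_infinite_isRoot p ((Set.finite_singleton (0 : k)).infinite_compl.mono fun t ht => hp t ht)
  have := congrArg (fun q => Polynomial.coeff q e) hp0
  simp only [p, Polynomial.finsetSum_coeff, Polynomial.coeff_monomial, Polynomial.coeff_zero] at this
  rw [Finset.sum_eq_single e (fun b _ hb => if_neg hb) (fun h => absurd he h), if_pos rfl] at this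
  exact this

/-- A good line: polynomial separation on the projective line of members. -/
theorem sep_member {n : ℕ} [SmoothOfRelativeDimension n (i ≫ CohB1.ProjSpace.toSpec r k)] (hn : 1 ≤ n)
    (c₀ : Fin N → k) (h : Singular i (frm b c₀) → OneNode i (frm b c₀) n) :
    ∃ (e : ℕ) (E : MvPolynomial (Fin N) k), E.IsHomogeneous e ∧ MvPolynomial.eval c₀ E ≠ 0 ∧
      ∀ c, Singular i (frm b c) → ¬ OneNode i (frm b c) n → MvPolynomial.eval c E = 0 := by
  obtain ⟨m, rfl⟩ : ∃ m, n = m + 1 := ⟨n - 1, by omega⟩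
  obtain ⟨E, hE0, hE⟩ : ∃ E : MvPolynomial (Fin N) k, MvPolynomial.eval c₀ E ≠ 0 ∧
      ∀ c, Singular i (frm b c) → ¬ OneNode i (frm b c) (m + 1) → MvPolynomial.eval c E = 0 := by
    by_cases hs : Singular i (frm b c₀)
    · obtain ⟨E, hE0, hE⟩ := oneNode_open i b _ (h hs)
      rw [LinearEquiv.apply_symm_apply] at hE0
      refine ⟨E, hE0, fun c h1 h2 => by_contra fun hne => h2 (hE _ h1 ?_)⟩
      rwa [LinearEquiv.apply_symm_apply]
    · obtain ⟨E, hE0, hE⟩ := singular_closed i b _ hs
      rw [LinearEquiv.apply_symm_apply] at hE0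
      refine ⟨E, hE0, fun c h1 _ => ?_⟩
      have := hE _ h1
      rwa [LinearEquiv.apply_symm_apply] at this
  obtain ⟨e, Eh, hh, h0, hEh⟩ := exists_component E c₀ hE0
  refine ⟨e, Eh, hh, h0, fun c h1 h2 => hEh c fun t ht => hE _ ?_ ?_⟩
  · rw [show frm b (fun p => t * c p) = t • frm b c from (map_smul b.equivFun.symm t c), singular_smul i ht]
    exact h1
  · rw [show frm b (fun p => t * c p) = t • frm b c from (map_smul b.equivFun.symm t c)]
    intro h3
    have := oneNode_smul i (inv_ne_zero ht) h3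
    rw [smul_smul, inv_mul_cancel₀ ht, one_smul] at this
    exact h2 this

/-- Lefschetz pencils form an open set. -/
theorem good_open {n : ℕ} [SmoothOfRelativeDimension n (i ≫ CohB1.ProjSpace.toSpec r k)] (hn : 1 ≤ n)
    (c₀ : Fin (N + N) → k) (h₀ : Good i n (frm b (fst c₀)) (frm b (snd c₀))) :
    ∃ E : MvPolynomial (Fin (N + N)) k, MvPolynomial.eval c₀ E ≠ 0 ∧
      ∀ c, MvPolynomial.eval c E ≠ 0 → Good i n (frm b (fst c)) (frm b (snd c)) := by
  classical
  obtain ⟨hli, hbase, ⟨a, ha⟩, hmem⟩ := h₀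
  -- independence
  obtain ⟨p, q, hpq⟩ : ∃ p q, fst c₀ p * snd c₀ q - fst c₀ q * snd c₀ p ≠ 0 := by
    by_contra! hall
    rw [LinearIndependent.pair_iff] at hli
    by_cases hu : fst c₀ = 0
    · have := (hli 1 0 (by rw [one_smul, zero_smul, add_zero, hu]; exact map_zero b.equivFun.symm)).1
      exact one_ne_zero this
    obtain ⟨p₀, hp₀⟩ := Function.ne_iff.1 hu
    have := (hli (snd c₀ p₀) (-fst c₀ p₀) (by
      rw [← map_smul b.equivFun.symm, ← map_smul b.equivFun.symm, ← map_add]
      refine (congrArg b.equivFun.symm (funext fun x => ?_)).trans (map_zero b.equivFun.symm)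
      simp only [Pi.add_apply, Pi.smul_apply, smul_eq_mul, Pi.zero_apply]
      linear_combination hall x p₀)).2
    exact hp₀ (neg_eq_zero.1 this)
  let E₁ : MvPolynomial (Fin (N + N)) k :=
    MvPolynomial.X (Fin.castAdd N p) * MvPolynomial.X (Fin.natAdd N q) -
      MvPolynomial.X (Fin.castAdd N q) * MvPolynomial.X (Fin.natAdd N p)
  have hE₁ : ∀ c, MvPolynomial.eval c E₁ = fst c p * snd c q - fst c q * snd c p := fun c => by
    simp [E₁, fst, snd]
  -- base locus
  let Bd : ∀ j : Fin (r + 1), (A i j →ₐ[k] k) → (Fin (N + N) → k) → Prop := fun j χ c =>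
    BasePt χ (π i j (frm b (fst c)).1) (π i j (frm b (snd c)).1)
  have hBd : ∀ j l χ χ' c, SamePt i j χ l χ' → Bd j χ c → Bd l χ' c := by
    rintro j l χ χ' c hs ⟨hf, hg, s, t, hst, hsq⟩
    refine ⟨(SamePt.form_iff i hs _).1 hf, (SamePt.form_iff i hs _).1 hg, s, t, hst, ?_⟩
    rw [← π_lincomb] at hsq ⊢
    exact (SamePt.singular_iff i hs _).2 hsq
  obtain ⟨E₂, hE₂, hE₂'⟩ := elim (fun x c => ∃ j χ, x = coords i j χ ∧ Bd j χ c) (by
    rintro x c ⟨j, χ, rfl, -⟩ h
    have := congrFun h j
    simp [coords_self] at this) c₀ (by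
    intro x hx
    obtain ⟨j, hj⟩ : ∃ j, x j ≠ 0 := Function.ne_iff.1 hx
    obtain ⟨D, P, hP, hP0, hPv⟩ := sep_at i Bd hBd c₀ x j hj fun χ _ =>
      sep_base (n := n) i b j χ c₀ (fun hb => hbase ⟨j, χ, hb⟩)
    exact ⟨D, P, hP, hP0, fun a' c' ⟨j', χ', e, hb⟩ => e ▸ hPv j' χ' c' hb⟩)
  -- a transversal member
  obtain ⟨E₀, hE₀, hE₀'⟩ := singular_closed i b _ ha
  let E₃ : MvPolynomial (Fin (N + N)) k :=
    MvPolynomial.eval₂ MvPolynomial.C (fun x => MvPolynomial.X (Fin.castAdd N x) + MvPolynomial.C a * MvPolynomial.X (Fin.natAdd N x)) E₀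
  have hE₃ : ∀ c, MvPolynomial.eval c E₃ = MvPolynomial.eval (b.equivFun (frm b (fst c) + a • frm b (snd c))) E₀ := by
    intro c
    show (MvPolynomial.eval c) (MvPolynomial.eval₂ MvPolynomial.C _ E₀) = _
    rw [MvPolynomial.eval₂_comp_left, map_add, map_smul, LinearEquiv.apply_symm_apply, LinearEquiv.apply_symm_apply]
    show MvPolynomial.eval₂ _ _ E₀ = MvPolynomial.eval₂ (RingHom.id k) _ E₀
    congr 1
    · exact RingHom.ext fun a => MvPolynomial.eval_C a
    · funext x
      simp [fst, snd]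
  -- the members
  obtain ⟨E₄, hE₄, hE₄'⟩ := elim (σ := Fin 2) (fun st c => st ≠ 0 ∧
      Singular i (frm b (st 0 • fst c + st 1 • snd c)) ∧ ¬ OneNode i (frm b (st 0 • fst c + st 1 • snd c)) n)
    (fun st c h => h.1) c₀ (by
    intro st hst
    have hst' : st 0 ≠ 0 ∨ st 1 ≠ 0 := by
      by_contra! h
      exact hst (funext fun x => by fin_cases x <;> simp [h.1, h.2])
    have e : ∀ c : Fin (N + N) → k, frm b (st 0 • fst c + st 1 • snd c) =
        st 0 • frm b (fst c) + st 1 • frm b (snd c) := fun c => by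
      show b.equivFun.symm _ = _
      rw [map_add, map_smul, map_smul]
    obtain ⟨D, E, hEh, hE0, hEv⟩ := sep_member i b hn (st 0 • fst c₀ + st 1 • snd c₀) (by
      rw [e]; exact hmem _ _ hst')
    let g : Fin N → MvPolynomial (Fin 2) (MvPolynomial (Fin (N + N)) k) := fun x =>
      MvPolynomial.C (MvPolynomial.X (Fin.castAdd N x)) * MvPolynomial.X 0 +
        MvPolynomial.C (MvPolynomial.X (Fin.natAdd N x)) * MvPolynomial.X 1
    have hev : ∀ (st' : Fin 2 → k) (c : Fin (N + N) → k),
        ev st' c (MvPolynomial.eval₂ (MvPolynomial.C.comp MvPolynomial.C) g E) =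
          MvPolynomial.eval (st' 0 • fst c + st' 1 • snd c) E := by
      intro st' c
      rw [MvPolynomial.eval₂_comp_left]
      show MvPolynomial.eval₂ _ _ E = MvPolynomial.eval₂ (RingHom.id k) _ E
      congr 1
      · exact RingHom.ext fun a => by
          show eval₂ (eval c) st' (C (C a)) = a
          rw [eval₂_C, eval_C]
      · funext x
        simp [g, ev, fst, snd, mul_comm]
    refine ⟨1 * D, _, hEh.eval₂ (MvPolynomial.C.comp MvPolynomial.C) g (fun a => isHomogeneous_C _ (MvPolynomial.C a))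
      (fun x => ((isHomogeneous_X _ _).C_mul _).add ((isHomogeneous_X _ _).C_mul _)), ?_, ?_⟩
    · rw [hev]; exact hE0
    · rintro st' c ⟨-, h1, h2⟩
      rw [hev]; exact hEv _ h1 h2)
  refine ⟨E₁ * E₂ * E₃ * E₄, ?_, fun c hc => ?_⟩
  · simp only [map_mul]
    refine mul_ne_zero (mul_ne_zero (mul_ne_zero ?_ hE₂) ?_) hE₄
    · rw [hE₁]; exact hpq
    · rw [hE₃]; exact hE₀
  simp only [map_mul, mul_ne_zero_iff] at hc
  obtain ⟨⟨⟨hc1, hc2⟩, hc3⟩, hc4⟩ := hc
  refine ⟨?_, fun ⟨j, χ, hb⟩ => hc2 (hE₂' _ c ⟨j, χ, rfl, hb⟩), ⟨a, fun hs => hc3 (by rw [hE₃]; exact hE₀' _ hs)⟩, ?_⟩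
  · rw [LinearIndependent.pair_iff]
    intro s t hst
    rw [hE₁] at hc1
    have h1 := congrArg b.equivFun hst
    rw [map_add, map_smul, map_smul, LinearEquiv.apply_symm_apply, LinearEquiv.apply_symm_apply, map_zero] at h1
    have hp := congrFun h1 p
    have hq := congrFun h1 q
    simp only [Pi.add_apply, Pi.smul_apply, smul_eq_mul, Pi.zero_apply] at hp hq
    constructor
    · refine (mul_eq_zero.1 (?_ : s * (fst c p * snd c q - fst c q * snd c p) = 0)).resolve_right hc1
      linear_combination snd c q * hp - snd c p * hq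
    · refine (mul_eq_zero.1 (?_ : t * (fst c p * snd c q - fst c q * snd c p) = 0)).resolve_right hc1
      linear_combination fst c p * hq - fst c q * hp
  · intro s t hst hs
    by_contra hn'
    have e : frm b (s • fst c + t • snd c) = s • frm b (fst c) + t • frm b (snd c) := by
      show b.equivFun.symm _ = _
      rw [map_add, map_smul, map_smul]
    refine hc4 (hE₄' ![s, t] c ⟨?_, ?_, ?_⟩)
    · intro h
      have h0 := congrFun h 0
      have h1 := congrFun h 1
      simp at h0 h1
      exact hst.elim (· h0) (· h1)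
    · show Singular i (frm b (s • fst c + t • snd c))
      rw [e]; exact hs
    · show ¬ OneNode i (frm b (s • fst c + t • snd c)) n
      rw [e]; exact hn'

end Groth.Agent.LefPen13
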