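import Groth.Agent.Lib.H2Alg.PSHom
import Groth.Agent.Lib.CohenAlg3.Exists
import Mathlib

/-! # The quadratic part of a power series and its behaviour under isomorphisms of quotients -/

set_option autoImplicit false
set_option linter.style.haveILetI false
universe u

open MvPowerSeries
open Groth.Agent.H2Alg

noncomputable section

namespace Groth.Agent.LefPen13

variable {k : Type u} [Field k] {n : ℕ}

local notation "S" => MvPowerSeries (Fin n) k
local notation "V" => PSHom.V n k

/-- The part of degree two. -/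
def qp (s : S) : MvPolynomial (Fin n) k := MvPolynomial.homogeneousComponent 2 (truncTotal 3 s)

/-- A quadratic form without singular zeros. -/
def Nondeg (Q : MvPolynomial (Fin n) k) : Prop :=
  ∀ v : Fin n → k, v ≠ 0 → MvPolynomial.eval v Q = 0 → ∃ l, MvPolynomial.eval v (MvPolynomial.pderiv l Q) ≠ 0

theorem qp_isHomogeneous (s : S) : (qp s).IsHomogeneous 2 := MvPolynomial.homogeneousComponent_isHomogeneous _ _

theorem coeff_qp (s : S) {e : Fin n →₀ ℕ} (he : e.degree = 2) : (qp s).coeff e = coeff e s := by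
  classical
  rw [qp, MvPolynomial.coeff_homogeneousComponent, if_pos he, coeff_truncTotal _ (by omega)]

theorem qp_eq_of_sub_mem {s t : S} (h : s - t ∈ V ^ 3) : qp s = qp t := by
  ext e
  by_cases he : e.degree = 2
  · rw [coeff_qp s he, coeff_qp t he]
    have := PSHom.coeff_eq_zero_of_mem_pow h (d := e) (by omega)
    rwa [map_sub, sub_eq_zero] at this
  · rw [(qp_isHomogeneous s).coeff_eq_zero he, (qp_isHomogeneous t).coeff_eq_zero he]

theorem sub_qp_mem {s : S} (hs : s ∈ V ^ 2) : s - ((qp s : MvPolynomial (Fin n) k) : S) ∈ V ^ 3 := by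
  refine PSHom.mem_pow fun d hd => ?_
  rw [map_sub, MvPolynomial.coeff_coe]
  rcases Nat.lt_or_ge d.degree 2 with h2 | h2
  · rw [PSHom.coeff_eq_zero_of_mem_pow hs h2, (qp_isHomogeneous s).coeff_eq_zero (by omega), sub_zero]
  · rw [coeff_qp s (by omega), sub_self]

theorem qp_coe {p : MvPolynomial (Fin n) k} (hp : p.IsHomogeneous 2) : qp (p : S) = p := by
  ext e
  by_cases he : e.degree = 2
  · rw [coeff_qp _ he, MvPolynomial.coeff_coe]
  · rw [(qp_isHomogeneous _).coeff_eq_zero he, hp.coeff_eq_zero he]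

theorem qp_mem_sq {p : MvPolynomial (Fin n) k} (hp : p.IsHomogeneous 2) : (p : S) ∈ V ^ 2 :=
  PSHom.mem_pow fun d hd => by rw [MvPolynomial.coeff_coe, hp.coeff_eq_zero (by omega)]

theorem sub_C_mem (u : S) : u - C (constantCoeff u) ∈ V := by
  rw [← pow_one V]
  refine PSHom.mem_pow fun d hd => ?_
  have hd0 : d = 0 := (Finsupp.degree_eq_zero_iff d).1 (by omega)
  subst hd0
  simp [coeff_zero_eq_constantCoeff_apply]

theorem qp_mul {s : S} (u : S) (hs : s ∈ V ^ 2) : qp (u * s) = MvPolynomial.C (constantCoeff u) * qp s := by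
  have h1 : u * s - ((MvPolynomial.C (constantCoeff u) * qp s : MvPolynomial (Fin n) k) : S) ∈ V ^ 3 := by
    have e : u * s - ((MvPolynomial.C (constantCoeff u) * qp s : MvPolynomial (Fin n) k) : S) =
        (u - C (constantCoeff u)) * s + C (constantCoeff u) * (s - ((qp s : MvPolynomial (Fin n) k) : S)) := by
      rw [MvPolynomial.coe_mul, MvPolynomial.coe_C]; ring
    rw [e]
    refine add_mem ?_ (Ideal.mul_mem_left _ _ (sub_qp_mem hs))
    rw [pow_succ' V 2]
    exact Ideal.mul_mem_mul (sub_C_mem u) hs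
  rw [qp_eq_of_sub_mem h1, qp_coe ((qp_isHomogeneous s).C_mul _)]

/-- The linear coefficients of the images of the variables. -/
def linMat (Φ : S →ₐ[k] S) : Matrix (Fin n) (Fin n) k := fun l p => coeff (Finsupp.single p 1) (Φ (X l))

/-- The linear substitution. -/
def linSub (M : Matrix (Fin n) (Fin n) k) : MvPolynomial (Fin n) k →ₐ[k] MvPolynomial (Fin n) k :=
  MvPolynomial.aeval fun l => ∑ p, MvPolynomial.C (M l p) * MvPolynomial.X p

theorem map_mem_pow (Φ : S →ₐ[k] S) (hΦ : ∀ l, Φ (X l) ∈ V) {m : ℕ} {z : S} (hz : z ∈ V ^ m) : Φ z ∈ V ^ m := by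
  have h1 : (V).map Φ ≤ V := by
    rw [PSHom.V, Ideal.map_span, Ideal.span_le]
    rintro _ ⟨_, ⟨i, rfl⟩, rfl⟩
    exact hΦ i
  have := Ideal.mem_map_of_mem Φ hz
  rw [Ideal.map_pow] at this
  exact Ideal.pow_right_mono h1 m this

theorem qp_map (Φ : S →ₐ[k] S) (hΦ : ∀ l, Φ (X l) ∈ V) {s : S} (hs : s ∈ V ^ 2) :
    qp (Φ s) = linSub (linMat Φ) (qp s) := by
  classical
  let ψ : MvPolynomial (Fin n) k →ₐ[k] S :=
    (MvPolynomial.coeToMvPowerSeries.algHom k).comp (linSub (linMat Φ))
  let φ : MvPolynomial (Fin n) k →ₐ[k] S := Φ.comp (MvPolynomial.coeToMvPowerSeries.algHom k)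
  have hφ : ∀ p, φ p = Φ (p : S) := fun p => by simp [φ, MvPolynomial.coeToMvPowerSeries.algHom_apply]
  have hψ : ∀ p, ψ p = ((linSub (linMat Φ) p : MvPolynomial (Fin n) k) : S) := fun p => by
    simp [ψ, MvPolynomial.coeToMvPowerSeries.algHom_apply]
  have hd : ∀ p, φ p - ψ p ∈ V ^ 2 := by
    intro p
    induction p using MvPolynomial.induction_on with
    | C a =>
      rw [show φ (MvPolynomial.C a) = algebraMap k S a from φ.commutes a,
        show ψ (MvPolynomial.C a) = algebraMap k S a from ψ.commutes a, sub_self]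
      exact zero_mem _
    | add p q hp hq =>
      rw [map_add, map_add, add_sub_add_comm]
      exact add_mem hp hq
    | mul_X p l hp =>
      have e : φ (p * MvPolynomial.X l) - ψ (p * MvPolynomial.X l) =
          (φ p - ψ p) * φ (MvPolynomial.X l) + ψ p * (φ (MvPolynomial.X l) - ψ (MvPolynomial.X l)) := by
        rw [map_mul, map_mul]; ring
      rw [e]
      refine add_mem (Ideal.mul_mem_right _ _ hp) (Ideal.mul_mem_left _ _ (PSHom.mem_pow fun d hd => ?_))
      rw [map_sub, hφ, hψ, MvPolynomial.coe_X, linSub, MvPolynomial.aeval_X, MvPolynomial.coeff_coe,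
        MvPolynomial.coeff_sum]
      rcases Nat.eq_zero_or_pos d.degree with h0 | h1
      · obtain rfl := (Finsupp.degree_eq_zero_iff d).1 h0
        rw [show coeff 0 (Φ (X l)) = 0 from PSHom.coeff_eq_zero_of_mem_pow (by rw [pow_one]; exact hΦ l) (m := 1)
          (by simp), Finset.sum_eq_zero, sub_zero]
        intro p _
        rw [MvPolynomial.coeff_C_mul, MvPolynomial.coeff_X', if_neg (Finsupp.single_ne_zero.2 one_ne_zero), mul_zero]
      · obtain ⟨p, rfl⟩ : ∃ p, d = Finsupp.single p 1 := by
          obtain ⟨p, hp⟩ : ∃ p, d p ≠ 0 := by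
            by_contra hc
            push Not at hc
            rw [show d = 0 from Finsupp.ext hc] at h1
            simp at h1
          have hle : Finsupp.single p 1 ≤ d := Finsupp.single_le_iff.2 (Nat.pos_of_ne_zero hp)
          have he : d = Finsupp.single p 1 + (d - Finsupp.single p 1) := (add_tsub_cancel_of_le hle).symm
          have hz : (d - Finsupp.single p 1).degree = 0 := by
            have := congrArg Finsupp.degree he
            rw [map_add, Finsupp.degree_single] at this
            omega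
          rw [(Finsupp.degree_eq_zero_iff _).1 hz, add_zero] at he
          exact ⟨p, he⟩
        rw [Finset.sum_eq_single p, MvPolynomial.coeff_C_mul, MvPolynomial.coeff_X', if_pos rfl, mul_one]
        · exact sub_self _
        · intro q _ hq
          rw [MvPolynomial.coeff_C_mul, MvPolynomial.coeff_X',
            if_neg (fun h => hq (Finsupp.single_left_injective one_ne_zero h)), mul_zero]
        · simp
  have hI : ∀ p ∈ MvPolynomial.idealOfVars (Fin n) k, φ p ∈ V ∧ ψ p ∈ V := by
    intro p hp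
    have h1 : (p : S) ∈ V := by
      rw [← pow_one V]
      refine PSHom.mem_pow fun d hd => ?_
      rw [MvPolynomial.coeff_coe]
      exact (MvPolynomial.mem_pow_idealOfVars_iff' 1 p).1 (by rwa [pow_one]) d hd
    have h2 : φ p ∈ V := by
      rw [hφ, ← pow_one V]
      exact map_mem_pow Φ hΦ (by rwa [pow_one])
    refine ⟨h2, ?_⟩
    have := sub_mem h2 (Ideal.pow_le_self two_ne_zero (hd p))
    rwa [sub_sub_cancel] at this
  have h3 : ∀ p ∈ MvPolynomial.idealOfVars (Fin n) k ^ 2, φ p - ψ p ∈ V ^ 3 := by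
    intro p hp
    rw [pow_two] at hp
    refine Submodule.mul_induction_on hp (fun a ha b hb => ?_) (fun a b ha hb => ?_)
    · have e : φ (a * b) - ψ (a * b) = φ a * (φ b - ψ b) + (φ a - ψ a) * ψ b := by
        rw [map_mul, map_mul]; ring
      rw [e]
      refine add_mem ?_ ?_
      · rw [pow_succ' V 2]; exact Ideal.mul_mem_mul (hI a ha).1 (hd b)
      · rw [pow_succ V 2]; exact Ideal.mul_mem_mul (hd a) (hI b hb).2
    · rw [map_add, map_add, add_sub_add_comm]; exact add_mem ha hb
  have hqI : qp s ∈ MvPolynomial.idealOfVars (Fin n) k ^ 2 :=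
    (MvPolynomial.mem_pow_idealOfVars_iff' 2 _).2 fun d hd => (qp_isHomogeneous s).coeff_eq_zero (by omega)
  have key : Φ s - ((linSub (linMat Φ) (qp s) : MvPolynomial (Fin n) k) : S) ∈ V ^ 3 := by
    have := add_mem (map_mem_pow Φ hΦ (sub_qp_mem hs)) (h3 _ hqI)
    rwa [map_sub, hφ, hψ, sub_add_sub_cancel] at this
  rw [qp_eq_of_sub_mem key, qp_coe]
  have hlin : ∀ l, (∑ p, MvPolynomial.C (linMat Φ l p) * MvPolynomial.X p).IsHomogeneous 1 := fun l =>
    MvPolynomial.IsHomogeneous.sum _ _ _ fun p _ => (MvPolynomial.isHomogeneous_X k p).C_mul _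
  have := (qp_isHomogeneous s).aeval _ hlin
  rwa [one_mul] at this

theorem eval_linSub (M : Matrix (Fin n) (Fin n) k) (v : Fin n → k) (Q : MvPolynomial (Fin n) k) :
    MvPolynomial.eval v (linSub M Q) = MvPolynomial.eval (M.mulVec v) Q := by
  induction Q using MvPolynomial.induction_on with
  | C a => simp [linSub]
  | add p q hp hq => simp [map_add, hp, hq]
  | mul_X p l hp =>
    rw [map_mul, map_mul, hp, map_mul, MvPolynomial.eval_X, linSub, MvPolynomial.aeval_X]
    simp [Matrix.mulVec, dotProduct, map_sum]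

theorem eval_pderiv_linSub (M : Matrix (Fin n) (Fin n) k) (v : Fin n → k) (p : Fin n) (Q : MvPolynomial (Fin n) k) :
    MvPolynomial.eval v (MvPolynomial.pderiv p (linSub M Q)) =
      ∑ l, MvPolynomial.eval (M.mulVec v) (MvPolynomial.pderiv l Q) * M l p := by
  classical
  induction Q using MvPolynomial.induction_on with
  | C a => simp [linSub]
  | add a b ha hb => simp only [map_add, ha, hb, add_mul, Finset.sum_add_distrib]
  | mul_X a l ha =>
    have hX : MvPolynomial.eval v (MvPolynomial.pderiv p (linSub M (MvPolynomial.X l))) = M l p := by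
      rw [linSub, MvPolynomial.aeval_X, map_sum, map_sum, Finset.sum_eq_single p]
      · simp
      · intro q _ hq
        simp [MvPolynomial.pderiv_X_of_ne hq]
      · simp
    rw [map_mul, MvPolynomial.pderiv_mul, map_add, map_mul, map_mul, ha, hX, eval_linSub, eval_linSub,
      MvPolynomial.eval_X]
    simp only [MvPolynomial.pderiv_mul, map_add, map_mul, MvPolynomial.eval_X, add_mul, Finset.sum_add_distrib]
    congr 1
    · rw [Finset.sum_mul]
      exact Finset.sum_congr rfl fun q _ => by ring
    · rw [Finset.sum_eq_single l]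
      · simp
      · intro q _ hq
        simp [MvPolynomial.pderiv_X_of_ne (Ne.symm hq)]
      · simp

theorem Nondeg.linSub {Q : MvPolynomial (Fin n) k} (hQ : Nondeg Q) (M : Matrix (Fin n) (Fin n) k)
    (hM : Function.Injective M.mulVec) : Nondeg (linSub M Q) := by
  intro v hv h0
  rw [eval_linSub] at h0
  obtain ⟨l, hl⟩ := hQ _ (fun h => hv (hM (h.trans (Matrix.mulVec_zero M).symm))) h0
  by_contra hc
  push Not at hc
  have hu : IsUnit M := Matrix.mulVec_injective_iff_isUnit.1 hM
  have hw : Matrix.vecMul (fun q => MvPolynomial.eval (M.mulVec v) (MvPolynomial.pderiv q Q)) M = 0 := by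
    funext p
    have := hc p
    rw [eval_pderiv_linSub] at this
    exact this
  exact hl (congrFun (Matrix.vecMul_injective_iff_isUnit.2 hu (hw.trans (Matrix.zero_vecMul M).symm)) l)

theorem Nondeg.ne_zero {Q : MvPolynomial (Fin n) k} (hQ : Nondeg Q) (hn : 1 ≤ n) : Q ≠ 0 := by
  rintro rfl
  obtain ⟨l, hl⟩ := hQ (fun _ => 1) (fun h => one_ne_zero (congrFun h ⟨0, hn⟩)) (map_zero _)
  simp at hl

theorem Nondeg.C_mul {Q : MvPolynomial (Fin n) k} (hQ : Nondeg Q) {c : k} (hc : c ≠ 0) :
    Nondeg (MvPolynomial.C c * Q) := by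
  intro v hv h0
  rw [map_mul, MvPolynomial.eval_C, mul_eq_zero] at h0
  obtain ⟨l, hl⟩ := hQ v hv (h0.resolve_left hc)
  refine ⟨l, ?_⟩
  rw [MvPolynomial.pderiv_C_mul, map_mul, MvPolynomial.eval_C]
  exact mul_ne_zero hc hl

/-- Nondegeneracy of the quadratic part depends only on the quotient ring. -/
theorem nondeg_of_ringEquiv (hn : 1 ≤ n) {g h : S} (hg : g ∈ V ^ 2) (hh : h ∈ V ^ 2)
    (e : (S ⧸ Ideal.span {g}) ≃+* (S ⧸ Ideal.span {h}))
    (he : ∀ c : k, e (Ideal.Quotient.mk _ (C c)) = Ideal.Quotient.mk _ (C c))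
    (hQ : Nondeg (qp g)) : Nondeg (qp h) := by
  classical
  have hVlt : V ≤ RingHom.ker (constantCoeff (σ := Fin n) (R := k)) := by
    rw [PSHom.V, Ideal.span_le]
    rintro _ ⟨i, rfl⟩
    simp
  have hspan : ∀ {t : S}, t ∈ V ^ 2 → Ideal.span {t} ≤ RingHom.ker (constantCoeff (σ := Fin n) (R := k)) := fun ht =>
    (Ideal.span_singleton_le_iff_mem _).2 (hVlt (Ideal.pow_le_self two_ne_zero ht))
  have hne : ∀ {t : S}, t ∈ V ^ 2 → Nontrivial (S ⧸ Ideal.span {t}) := fun ht => Ideal.Quotient.nontrivial_iff.2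
    fun h1 => RingHom.ker_ne_top _ (top_le_iff.1 (h1 ▸ hspan ht))
  haveI := hne hg
  haveI := hne hh
  haveI : IsLocalRing (S ⧸ Ideal.span {h}) := IsLocalRing.of_surjective' _ Ideal.Quotient.mk_surjective
  choose z hz using fun l : Fin n => Ideal.Quotient.mk_surjective (e (Ideal.Quotient.mk (Ideal.span {g}) (X l)))
  have hzV : ∀ l, z l ∈ V := by
    intro l
    by_contra hc
    have hcu : IsUnit (z l) := by
      rw [isUnit_iff_constantCoeff, isUnit_iff_ne_zero]
      intro h0
      have := sub_C_mem (z l)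
      rw [h0, map_zero, sub_zero] at this
      exact hc this
    have h1 : IsUnit (Ideal.Quotient.mk (Ideal.span {g}) (X l : S)) := by
      have := (hcu.map (Ideal.Quotient.mk (Ideal.span {h})))
      rw [hz l] at this
      simpa using this.map e.symm
    haveI : IsLocalRing (S ⧸ Ideal.span {g}) := IsLocalRing.of_surjective' _ Ideal.Quotient.mk_surjective
    haveI : IsLocalHom (Ideal.Quotient.mk (Ideal.span {g})) :=
      IsLocalHom.of_surjective _ Ideal.Quotient.mk_surjective
    have h2 := isUnit_iff_constantCoeff.1 ((isUnit_map_iff (Ideal.Quotient.mk (Ideal.span {g})) (X l : S)).1 h1)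
    simp at h2
  haveI : IsAdicComplete V S := { toIsHausdorff := inferInstance, toIsPrecomplete := inferInstance }
  obtain ⟨Φ, hΦ⟩ := PSHom.exists_algHom (A := k) V z hzV
  have hΦV : ∀ l, Φ (X l) ∈ V := fun l => hΦ l ▸ hzV l
  have hcomp : ∀ s, Ideal.Quotient.mk (Ideal.span {h}) (Φ s) = e (Ideal.Quotient.mk _ s) := by
    let f1 : S →ₐ[k] (S ⧸ Ideal.span {h}) := (Ideal.Quotient.mkₐ k _).comp Φ
    let f2 : S →ₐ[k] (S ⧸ Ideal.span {h}) :=
      { e.toRingHom.comp (Ideal.Quotient.mk (Ideal.span {g})) with commutes' := fun c => he c }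
    haveI : IsAdicComplete (IsLocalRing.maximalIdeal S) S := by
      have hm : IsLocalRing.maximalIdeal S = V := (PSHom.maximalIdeal_eq k n)
      rw [hm]; infer_instance
    haveI := CohenAlg3.isAdicComplete_quotient (Ideal.span {h})
    have hf : f1 = f2 := PSHom.algHom_ext (IsLocalRing.maximalIdeal (S ⧸ Ideal.span {h}))
      (fun l => by
        show Ideal.Quotient.mk _ (Φ (X l)) ∈ _
        rw [hΦ, ← IsLocalRing.map_maximalIdeal_of_surjective _ Ideal.Quotient.mk_surjective, PSHom.maximalIdeal_eq k n]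
        exact Ideal.mem_map_of_mem _ (hzV l))
      (fun l => by
        show Ideal.Quotient.mk _ (Φ (X l)) = e _
        rw [hΦ, hz])
    exact fun s => AlgHom.congr_fun hf s
  obtain ⟨u, hu⟩ : ∃ u, Φ g = u * h := by
    have : Ideal.Quotient.mk (Ideal.span {h}) (Φ g) = 0 := by
      rw [hcomp, Ideal.Quotient.eq_zero_iff_mem.2 (Ideal.mem_span_singleton_self g), map_zero]
    obtain ⟨u, hu⟩ := Ideal.mem_span_singleton'.1 (Ideal.Quotient.eq_zero_iff_mem.1 this)
    exact ⟨u, hu.symm⟩
  let M := linMat Φ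
  have hlin : ∀ s : S, ∀ p, coeff (Finsupp.single p 1) (Φ s) = ∑ l, coeff (Finsupp.single l 1) s * M l p := by
    intro s p
    have hs : s - (C (constantCoeff s) + ∑ l, C (coeff (Finsupp.single l 1) s) * X l) ∈ V ^ 2 := by
      refine PSHom.mem_pow fun d hd => ?_
      rw [map_sub, map_add, map_sum]
      rcases Nat.eq_zero_or_pos d.degree with h0 | h1
      · obtain rfl := (Finsupp.degree_eq_zero_iff d).1 h0
        simp [coeff_zero_eq_constantCoeff_apply]
      · obtain ⟨q, rfl⟩ : ∃ q, d = Finsupp.single q 1 := by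
          obtain ⟨q, hq⟩ : ∃ q, d q ≠ 0 := by
            by_contra hc
            push Not at hc
            rw [show d = 0 from Finsupp.ext hc] at h1
            simp at h1
          have hle : Finsupp.single q 1 ≤ d := Finsupp.single_le_iff.2 (Nat.pos_of_ne_zero hq)
          have hd' : d = Finsupp.single q 1 + (d - Finsupp.single q 1) := (add_tsub_cancel_of_le hle).symm
          have hz : (d - Finsupp.single q 1).degree = 0 := by
            have := congrArg Finsupp.degree hd'
            rw [map_add, Finsupp.degree_single] at this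
            omega
          rw [(Finsupp.degree_eq_zero_iff _).1 hz, add_zero] at hd'
          exact ⟨q, hd'⟩
        rw [coeff_C, if_neg (Finsupp.single_ne_zero.2 one_ne_zero), zero_add, Finset.sum_eq_single q]
        · rw [coeff_C_mul, coeff_X, if_pos rfl, mul_one, sub_self]
        · intro b _ hb
          rw [coeff_C_mul, coeff_X, if_neg (fun hh => hb (Finsupp.single_left_injective one_ne_zero hh).symm), mul_zero]
        · simp
    have h2 := PSHom.coeff_eq_zero_of_mem_pow (map_mem_pow Φ hΦV hs) (d := Finsupp.single p 1) (by simp)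
    have hC : ∀ c : k, Φ (C c) = C c := fun c => Φ.commutes c
    rw [map_sub, map_add, map_sum, hC, map_sub, sub_eq_zero, map_add, coeff_C,
      if_neg (Finsupp.single_ne_zero.2 one_ne_zero), zero_add, map_sum] at h2
    rw [h2]
    refine Finset.sum_congr rfl fun l _ => ?_
    rw [map_mul, hC, coeff_C_mul]
    rfl
  have hM : Function.Injective M.mulVec := by
    intro v w hvw
    funext p
    obtain ⟨t, ht⟩ := Ideal.Quotient.mk_surjective (e.symm (Ideal.Quotient.mk (Ideal.span {h}) (X p)))
    have hd : Φ t - X p ∈ V ^ 2 := by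
      have h1 : Ideal.Quotient.mk (Ideal.span {h}) (Φ t) = Ideal.Quotient.mk _ (X p) := by
        rw [hcomp, ht, RingEquiv.apply_symm_apply]
      exact (Ideal.span_singleton_le_iff_mem _).2 hh (Ideal.Quotient.eq.1 h1)
    have hrow : ∀ q, ∑ l, coeff (Finsupp.single l 1) t * M l q = if q = p then 1 else 0 := by
      intro q
      have := PSHom.coeff_eq_zero_of_mem_pow hd (d := Finsupp.single q 1) (by simp)
      rw [map_sub, sub_eq_zero, hlin, coeff_X] at this
      rw [this]
      exact if_congr ⟨fun hh => Finsupp.single_left_injective one_ne_zero hh, fun hh => hh ▸ rfl⟩ rfl rfl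
    have key : ∀ x : Fin n → k, x p = ∑ l, coeff (Finsupp.single l 1) t * M.mulVec x l := by
      intro x
      simp only [Matrix.mulVec, dotProduct, Finset.mul_sum]
      rw [Finset.sum_comm]
      simp only [← mul_assoc, ← Finset.sum_mul, hrow, ite_mul, one_mul, zero_mul, Finset.sum_ite_eq',
        Finset.mem_univ, if_true]
    rw [key v, key w, hvw]
  have h1 : MvPolynomial.C (constantCoeff u) * qp h = linSub M (qp g) := by
    rw [← qp_mul u hh, ← hu, qp_map Φ hΦV hg]
  have hnd := hQ.linSub M hM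
  have hu0 : constantCoeff u ≠ 0 := by
    intro h0
    rw [h0, map_zero, zero_mul] at h1
    exact hnd.ne_zero hn h1.symm
  have : qp h = MvPolynomial.C (constantCoeff u)⁻¹ * linSub M (qp g) := by
    rw [← h1, ← mul_assoc, ← map_mul, inv_mul_cancel₀ hu0, map_one, one_mul]
  rw [this]
  exact hnd.C_mul (inv_ne_zero hu0)

end Groth.Agent.LefPen13
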