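import Groth.Agent.Lib.LefPen13.Trans2

/-! # The base locus of a pencil -/

set_option autoImplicit false
set_option linter.style.haveILetI false
set_option backward.isDefEq.respectTransparency false
set_option backward.isDefEq.respectTransparency.types false

universe u

open CategoryTheory CategoryTheory.Limits AlgebraicGeometry TopologicalSpace

noncomputable section

namespace Groth.Agent.LefPen13

variable {k : Type u} [Field k] {r : ℕ} {X : Scheme.{u}} (i : X ⟶ CohB1.ProjSpace r k) [IsClosedImmersion i]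
  {d : ℕ} (F G : LefPen.Form r k d)

theorem secIdeal_pair_chart (j : Fin (r + 1)) :
    (LefPen.secIdeal i ({F, G} : Set (LefPen.Form r k d))).ideal ⟨V i j, isAffineOpen_V i j⟩ =
      Ideal.span {π i j F.1, π i j G.1} := by
  have : LefPen.secIdeal i ({F, G} : Set (LefPen.Form r k d)) =
      LefPen.secIdeal i ({F} : Set (LefPen.Form r k d)) ⊔ LefPen.secIdeal i ({G} : Set (LefPen.Form r k d)) := by
    simp only [LefPen.secIdeal, iSup_singleton, ← Scheme.IdealSheafData.comap_sup]
    congr 1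
    rw [iSup_insert, iSup_singleton]
  rw [this, Scheme.IdealSheafData.ideal_sup, Pi.sup_apply, secIdeal_chart, secIdeal_chart, ← π_form, ← π_form,
    show ({π i j F.1, π i j G.1} : Set (A i j)) = {π i j F.1} ∪ {π i j G.1} from Set.insert_eq _ _, Ideal.span_union]
  rfl

/-- The base locus of the pencil has a point with dependent differentials. -/
def BaseSing : Prop :=
  ∃ (j : Fin (r + 1)) (χ : A i j →ₐ[k] k), BasePt χ (π i j F.1) (π i j G.1)

/-- Transversality of the base locus in terms of rational points. -/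
theorem transversal2_iff [IsAlgClosed k] {n : ℕ} (hn : 1 ≤ n)
    [SmoothOfRelativeDimension n (i ≫ CohB1.ProjSpace.toSpec r k)] :
    LefPen.Transversal k n 2 (LefPen.secToSpec i ({F, G} : Set (LefPen.Form r k d))) ↔ ¬ BaseSing i F G := by
  haveI : Smooth (i ≫ CohB1.ProjSpace.toSpec r k) := SmoothOfRelativeDimension.smooth n _
  haveI : ∀ j, Algebra.Smooth k (A i j) := fun j => smooth i j
  set I := LefPen.secIdeal i ({F, G} : Set (LefPen.Form r k d))
  let K := fun j : Fin (r + 1) => Ideal.span {π i j F.1, π i j G.1}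
  have hI : ∀ j, I.ideal ⟨V i j, isAffineOpen_V i j⟩ = K j := secIdeal_pair_chart i F G
  have e : ∀ j, I.subschemeCover.f ⟨V i j, isAffineOpen_V i j⟩ ≫ LefPen.secToSpec i ({F, G} : Set (LefPen.Form r k d)) =
      Spec.map (CommRingCat.ofHom ((Ideal.Quotient.mk (I.ideal ⟨V i j, isAffineOpen_V i j⟩)).comp (algebraMap k (A i j)))) := by
    intro j
    show _ ≫ I.subschemeι ≫ i ≫ CohB1.ProjSpace.toSpec r k = _
    rw [← Category.assoc, I.subschemeCover_map_subschemeι, Scheme.IdealSheafData.glueDataObjι, Category.assoc,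
      Category.assoc, IsAffineOpen.isoSpec_inv_ι_assoc]
    erw [fromSpec_toSpec_V i j]
    rw [← Spec.map_comp]
    rfl
  rcases Nat.lt_or_ge n 2 with hn2 | hn2
  · have h1 : n = 1 := by omega
    constructor
    · rintro (⟨h, -⟩ | ⟨-, h⟩)
      · omega
      rintro ⟨j, χ, hf, hg, -⟩
      have hle : I.ideal ⟨V i j, isAffineOpen_V i j⟩ ≤ RingHom.ker χ := by
        rw [hI, Ideal.span_le]
        rintro _ (rfl | rfl)
        exacts [hf, hg]
      haveI : Nontrivial (A i j ⧸ I.ideal ⟨V i j, isAffineOpen_V i j⟩) := Ideal.Quotient.nontrivial_iff.2 fun e =>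
        (RingHom.ker_isPrime χ).ne_top (top_le_iff.1 (e ▸ hle))
      obtain ⟨q⟩ : Nonempty (PrimeSpectrum (A i j ⧸ I.ideal ⟨V i j, isAffineOpen_V i j⟩)) := inferInstance
      exact h.false (I.subschemeCover.f ⟨V i j, isAffineOpen_V i j⟩ q)
    · intro h
      refine Or.inr ⟨hn2, ⟨fun y => ?_⟩⟩
      obtain ⟨j, hj⟩ := Opens.mem_iSup.1 ((iSup_V i).ge (trivial : I.subschemeι y ∈ (⊤ : X.Opens)))
      obtain ⟨q, -⟩ : y ∈ Set.range (I.subschemeCover.f ⟨V i j, isAffineOpen_V i j⟩) := by
        haveI : IsOpenImmersion (I.subschemeCover.f ⟨V i j, isAffineOpen_V i j⟩) := I.subschemeCover.map_prop _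
        exact (congrArg (fun U : I.subscheme.Opens => y ∈ U) (I.opensRange_subschemeCover_map ⟨V i j, isAffineOpen_V i j⟩)).mpr hj
      have hq : I.ideal ⟨V i j, isAffineOpen_V i j⟩ ≠ ⊤ := fun e => by
        haveI := Ideal.Quotient.subsingleton_iff.2 e
        exact (inferInstance : IsEmpty (PrimeSpectrum (A i j ⧸ I.ideal ⟨V i j, isAffineOpen_V i j⟩))).false q
      obtain ⟨M, hM, hle⟩ := Ideal.exists_le_maximal (K j) (hI j ▸ hq)
      haveI := hM
      obtain ⟨χ, hχ⟩ := exists_algHom_ker (k := k) M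
      have hf : χ (π i j F.1) = 0 := RingHom.mem_ker.1 (hχ.symm.le (hle (Ideal.subset_span (Set.mem_insert _ _))))
      have hg : χ (π i j G.1) = 0 := RingHom.mem_ker.1 (hχ.symm.le (hle (Ideal.subset_span (Set.mem_insert_of_mem _ rfl))))
      exact h ⟨j, χ, hf, hg, depAt_of_one (locally_std i n j) h1 χ hf hg⟩
  haveI : IsZariskiLocalAtSource (@SmoothOfRelativeDimension (n - 2)) :=
    HasRingHomProperty.instIsZariskiLocalAtSource (P := @SmoothOfRelativeDimension (n - 2))
      (Q := RingHom.Locally (RingHom.IsStandardSmoothOfRelativeDimension (n - 2)))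
  have key : ∀ j : Fin (r + 1),
      SmoothOfRelativeDimension (n - 2) (I.subschemeCover.f ⟨V i j, isAffineOpen_V i j⟩ ≫
        LefPen.secToSpec i ({F, G} : Set (LefPen.Form r k d))) ↔
      ∀ χ : A i j →ₐ[k] k, ¬ BasePt χ (π i j F.1) (π i j G.1) := by
    intro j
    rw [e, HasRingHomProperty.Spec_iff (P := @SmoothOfRelativeDimension (n - 2)), CommRingCat.hom_ofHom, hI]
    exact ⟨fun h χ => not_basePt_of_smooth (locally_std i n j) hn2 _ _ h χ,
      smooth_of_not_basePt (locally_std i n j) hn2 _ _⟩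
  have hsing : ¬ BaseSing i F G ↔ ∀ j, ∀ χ : A i j →ₐ[k] k, ¬ BasePt χ (π i j F.1) (π i j G.1) := by
    simp [BaseSing]
  rw [hsing, ← forall_congr' key]
  constructor
  · rintro (⟨-, h⟩ | ⟨h, -⟩)
    · intro j
      exact IsZariskiLocalAtSource.comp (P := @SmoothOfRelativeDimension (n - 2)) h _
    · omega
  · intro h
    refine Or.inl ⟨hn2, ?_⟩
    have hcov : (⨆ j, I.subschemeι ⁻¹ᵁ V i j) = ⊤ := by
      rw [← Scheme.Hom.preimage_iSup, iSup_V, Scheme.Hom.preimage_top]
    rw [IsZariskiLocalAtSource.iff_of_iSup_eq_top (P := @SmoothOfRelativeDimension (n - 2)) _ hcov]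
    intro j
    let W : X.affineOpens := ⟨V i j, isAffineOpen_V i j⟩
    let fW := I.subschemeCover.f W
    haveI : IsOpenImmersion fW := I.subschemeCover.map_prop W
    have hr : fW.opensRange = I.subschemeι ⁻¹ᵁ V i j := I.opensRange_subschemeCover_map W
    rw [← hr, ← Scheme.Hom.isoOpensRange_inv_comp, Category.assoc]
    exact (MorphismProperty.cancel_left_of_respectsIso (@SmoothOfRelativeDimension (n - 2)) _ _).2 (h j)

end Groth.Agent.LefPen13
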