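import Groth.Agent.Lib.LefPen13.SecPt
import Groth.Agent.Lib.LefPen13.Pt

/-! # The closed points of a hypersurface section -/

set_option autoImplicit false
set_option linter.style.haveILetI false
set_option backward.isDefEq.respectTransparency false
set_option backward.isDefEq.respectTransparency.types false

universe u

open CategoryTheory CategoryTheory.Limits AlgebraicGeometry TopologicalSpace

noncomputable section

namespace Groth.Agent.LefPen13

theorem isDomain_of_pt {k : Type u} [Field k] {r : ℕ} {X : Scheme.{u}} (i : X ⟶ CohB1.ProjSpace r k)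
    [IsAffineHom i] [IrreducibleSpace X] [IsIntegral X] (j : Fin (r + 1)) (χ : A i j →ₐ[k] k) :
    IsDomain (A i j) := by
  haveI : Nonempty (V i j) := ⟨⟨pX i j χ, pX_mem i j χ⟩⟩
  exact inferInstanceAs (IsDomain Γ(X, V i j))

variable {k : Type u} [Field k] {r : ℕ} {X : Scheme.{u}} (i : X ⟶ CohB1.ProjSpace r k) [IsClosedImmersion i]
  {d : ℕ} (H : LefPen.Form r k d) (j : Fin (r + 1))

/-- The prime of a rational point of the section. -/
def qPt (χ : A i j →ₐ[k] k) (hχ : χ (π i j H.1) = 0) : PrimeSpectrum (QR i H j) :=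
  ⟨RingHom.ker (quotPt (π i j H.1) χ hχ), RingHom.ker_isPrime _⟩

/-- The rational point of the section. -/
def secP (χ : A i j →ₐ[k] k) (hχ : χ (π i j H.1) = 0) : LefPen.Sec i ({H} : Set (LefPen.Form r k d)) :=
  secChart i H j (qPt i H j χ hχ)

theorem secι_secP (χ : A i j →ₐ[k] k) (hχ : χ (π i j H.1) = 0) :
    LefPen.secι i ({H} : Set (LefPen.Form r k d)) (secP i H j χ hχ) = pX i j χ := by
  rw [secP, ← Scheme.Hom.comp_apply, secChart_secι, Scheme.Hom.comp_apply, pX]
  congr 1

theorem secP_eq_iff {j l : Fin (r + 1)} (χ : A i j →ₐ[k] k) (hχ : χ (π i j H.1) = 0) (χ' : A i l →ₐ[k] k)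
    (hχ' : χ' (π i l H.1) = 0) : secP i H j χ hχ = secP i H l χ' hχ' ↔ SamePt i j χ l χ' := by
  rw [← pX_eq_iff i j χ l χ', ← secι_secP i H j χ hχ, ← secι_secP i H l χ' hχ']
  exact ((LefPen.secι i ({H} : Set (LefPen.Form r k d))).injective.eq_iff).symm

variable [IsAlgClosed k] [Smooth (i ≫ CohB1.ProjSpace.toSpec r k)]

omit [IsClosedImmersion i] [Smooth (i ≫ CohB1.ProjSpace.toSpec r k)] in
theorem exists_algHom_ker {R : Type u} [CommRing R] [Algebra k R] [Algebra.FiniteType k R] (m : Ideal R)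
    [m.IsMaximal] : ∃ ψ : R →ₐ[k] k, RingHom.ker ψ = m := by
  letI := Ideal.Quotient.field m
  haveI : Algebra.FiniteType k (R ⧸ m) := Algebra.FiniteType.of_surjective (Ideal.Quotient.mkₐ k m) Ideal.Quotient.mk_surjective
  haveI : Module.Finite k (R ⧸ m) := finite_of_finite_type_of_isJacobsonRing k (R ⧸ m)
  haveI : Algebra.IsIntegral k (R ⧸ m) := inferInstance
  let e := AlgEquiv.ofBijective (Algebra.ofId k (R ⧸ m)) IsAlgClosed.algebraMap_bijective_of_isIntegral
  refine ⟨e.symm.toAlgHom.comp (Ideal.Quotient.mkₐ k m), ?_⟩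
  ext a
  rw [RingHom.mem_ker, AlgHom.comp_apply]
  exact (map_eq_zero_iff e.symm e.symm.injective).trans Ideal.Quotient.eq_zero_iff_mem

theorem finitePresentation_QR : Algebra.FinitePresentation k (QR i H j) := by
  haveI := smooth i j
  exact Algebra.FinitePresentation.quotient (R := k) (Submodule.fg_span (Set.finite_singleton _))

/-- A maximal ideal of the ring of the section is a rational point. -/
theorem exists_qPt (q : PrimeSpectrum (QR i H j)) (hq : q.asIdeal.IsMaximal) :
    ∃ (χ : A i j →ₐ[k] k) (hχ : χ (π i j H.1) = 0), qPt i H j χ hχ = q := by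
  haveI := finitePresentation_QR i H j
  haveI := hq
  obtain ⟨ψ, hψ⟩ := exists_algHom_ker (k := k) q.asIdeal
  have hχ : ψ (Ideal.Quotient.mkₐ k (Ideal.span {π i j H.1}) (π i j H.1)) = 0 := by
    rw [Ideal.Quotient.mkₐ_eq_mk, Ideal.Quotient.eq_zero_iff_mem.2 (Ideal.mem_span_singleton_self _), map_zero]
  refine ⟨ψ.comp (Ideal.Quotient.mkₐ k _), hχ, PrimeSpectrum.ext ?_⟩
  show RingHom.ker (quotPt _ _ _) = q.asIdeal
  rw [← hψ]
  ext b
  obtain ⟨a, rfl⟩ := Ideal.Quotient.mk_surjective b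
  rfl

theorem jacobsonSpace_sec : JacobsonSpace ↥(LefPen.Sec i ({H} : Set (LefPen.Form r k d))) := by
  haveI : LocallyOfFiniteType (LefPen.secToSpec i ({H} : Set (LefPen.Form r k d))) := by
    haveI : LocallyOfFiniteType (i ≫ CohB1.ProjSpace.toSpec r k) := inferInstance
    haveI : LocallyOfFiniteType (LefPen.secι i ({H} : Set (LefPen.Form r k d))) := inferInstance
    exact inferInstanceAs (LocallyOfFiniteType (LefPen.secι i ({H} : Set (LefPen.Form r k d)) ≫ i ≫ CohB1.ProjSpace.toSpec r k))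
  exact LocallyOfFiniteType.jacobsonSpace (LefPen.secToSpec i ({H} : Set (LefPen.Form r k d)))

theorem isClosed_secP (χ : A i j →ₐ[k] k) (hχ : χ (π i j H.1) = 0) :
    IsClosed ({secP i H j χ hχ} : Set (LefPen.Sec i ({H} : Set (LefPen.Form r k d)))) := by
  haveI := jacobsonSpace_sec i H
  have h : qPt i H j χ hχ ∈ (secChart i H j) ⁻¹' closedPoints (LefPen.Sec i ({H} : Set (LefPen.Form r k d))) := by
    rw [(secChart i H j).isOpenEmbedding.preimage_closedPoints]
    exact (PrimeSpectrum.isClosed_singleton_iff_isMaximal _).2 (quotPt_isMaximal _ χ hχ)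
  exact h

/-- The closed points of the section are the rational points. -/
theorem exists_secP (y : LefPen.Sec i ({H} : Set (LefPen.Form r k d))) (hy : IsClosed ({y} : Set (LefPen.Sec i ({H} : Set (LefPen.Form r k d))))) :
    ∃ (j : Fin (r + 1)) (χ : A i j →ₐ[k] k) (hχ : χ (π i j H.1) = 0), secP i H j χ hχ = y := by
  obtain ⟨j, hj⟩ := Opens.mem_iSup.1 ((iSup_V i).ge (trivial : LefPen.secι i ({H} : Set (LefPen.Form r k d)) y ∈ (⊤ : X.Opens)))
  obtain ⟨q, rfl⟩ : y ∈ Set.range (secChart i H j) := by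
    rw [range_secChart]
    exact hj
  have hq : IsClosed ({q} : Set (Spec (CommRingCat.of (QR i H j)))) := by
    have := hy.preimage (secChart i H j).continuous
    rwa [← Set.image_singleton (f := secChart i H j), Set.preimage_image_eq _ (secChart i H j).isOpenEmbedding.injective] at this
  obtain ⟨χ, hχ, e⟩ := exists_qPt i H j q ((PrimeSpectrum.isClosed_singleton_iff_isMaximal q).1 hq)
  exact ⟨j, χ, hχ, congrArg (secChart i H j) e⟩

/-- If the equation vanishes on the chart the section is smooth there. -/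
theorem smoothAt_of_eq_zero (h0 : π i j H.1 = 0) (q : PrimeSpectrum (QR i H j)) :
    LefPen.SmoothAt (LefPen.secToSpec i ({H} : Set (LefPen.Form r k d))) (secChart i H j q) := by
  rw [smoothAt_iff _ _ (secChart_toSpec i H j)]
  haveI := smooth i j
  have hb : Ideal.span {π i j H.1} = ⊥ := by rw [h0]; simp
  haveI : Algebra.Smooth k (QR i H j) :=
    Algebra.Smooth.of_equiv ((AlgEquiv.quotientBot k (A i j)).symm.trans (Ideal.quotientEquivAlgOfEq k hb.symm))
  exact Algebra.smoothLocus_eq_univ.ge (Set.mem_univ q)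

theorem smoothAt_secP_iff [IrreducibleSpace X] (χ : A i j →ₐ[k] k) (hχ : χ (π i j H.1) = 0) :
    LefPen.SmoothAt (LefPen.secToSpec i ({H} : Set (LefPen.Form r k d))) (secP i H j χ hχ) ↔
      (π i j H.1 = 0 ∨ π i j H.1 ∉ RingHom.ker χ ^ 2) := by
  by_cases h0 : π i j H.1 = 0
  · exact iff_of_true (smoothAt_of_eq_zero i H j h0 _) (Or.inl h0)
  haveI := isIntegral i
  haveI := isDomain_of_pt i j χ
  haveI := smooth i j
  rw [secP, smoothAt_iff _ _ (secChart_toSpec i H j)]
  exact (isSmoothAt_iff (π i j H.1) h0 χ hχ).trans (or_iff_right h0).symm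

/-- If the only closed non-smooth point is `y₀` then the only non-smooth point is `y₀`. -/
theorem eq_of_not_smoothAt (y₀ : LefPen.Sec i ({H} : Set (LefPen.Form r k d)))
    (h : ∀ (j : Fin (r + 1)) (χ : A i j →ₐ[k] k) (hχ : χ (π i j H.1) = 0),
      ¬ LefPen.SmoothAt (LefPen.secToSpec i ({H} : Set (LefPen.Form r k d))) (secP i H j χ hχ) → secP i H j χ hχ = y₀)
    (y : LefPen.Sec i ({H} : Set (LefPen.Form r k d)))
    (hy : ¬ LefPen.SmoothAt (LefPen.secToSpec i ({H} : Set (LefPen.Form r k d))) y) : y = y₀ := by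
  obtain ⟨j, hj⟩ := Opens.mem_iSup.1 ((iSup_V i).ge (trivial : LefPen.secι i ({H} : Set (LefPen.Form r k d)) y ∈ (⊤ : X.Opens)))
  obtain ⟨q, rfl⟩ : y ∈ Set.range (secChart i H j) := by
    rw [range_secChart]
    exact hj
  haveI := finitePresentation_QR i H j
  haveI : IsJacobsonRing (QR i H j) := isJacobsonRing_of_finiteType (A := k)
  rw [smoothAt_iff _ _ (secChart_toSpec i H j)] at hy
  have hm : ∀ m : Ideal (QR i H j), q.asIdeal ≤ m → m.IsMaximal → ∃ p : PrimeSpectrum (QR i H j),
      p.asIdeal = m ∧ secChart i H j p = y₀ := by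
    intro m hle hmax
    let p : PrimeSpectrum (QR i H j) := ⟨m, hmax.isPrime⟩
    have hns : ¬ Algebra.IsSmoothAt k p.asIdeal := fun hp => hy
      (Algebra.isOpen_smoothLocus.stableUnderGeneralization ((PrimeSpectrum.le_iff_specializes q p).1 hle) hp)
    obtain ⟨χ, hχ, e⟩ := exists_qPt i H j p hmax
    refine ⟨p, rfl, ?_⟩
    rw [← e]
    refine h j χ hχ ?_
    rw [secP, smoothAt_iff _ _ (secChart_toSpec i H j), e]
    exact hns
  obtain ⟨m, hmax, hle⟩ := Ideal.exists_le_maximal q.asIdeal q.2.ne_top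
  obtain ⟨p, hp, hp0⟩ := hm m hle hmax
  rw [← hp0]
  congr 1
  refine PrimeSpectrum.ext (le_antisymm (hp ▸ hle) ?_)
  conv_rhs => rw [← q.2.isRadical.radical, Ideal.radical_eq_jacobson]
  refine le_sInf fun m' ⟨hle', hmax'⟩ => ?_
  obtain ⟨p', hp', hp0'⟩ := hm m' hle' hmax'
  rw [← hp', (secChart i H j).isOpenEmbedding.injective (hp0'.trans hp0.symm)]

end Groth.Agent.LefPen13
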