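import Groth.Agent.Lib.LefPen13.Jet
import Groth.Agent.Lib.LefPen13.Quad
import Groth.Agent.Lib.CplLevelH7.Equiv

/-! # A hypersurface at a rational point: smoothness and completion -/

set_option autoImplicit false
set_option linter.style.haveILetI false
universe u

open IsLocalRing
open Groth.Agent.H2Alg

noncomputable section

namespace Groth.Agent.LefPen13

variable {k : Type u} [Field k] {A : Type u} [CommRing A] [Algebra k A] [Algebra.Smooth k A]

/-- The point of the hypersurface. -/
def quotPt (h : A) (χ : A →ₐ[k] k) (hh : χ h = 0) : (A ⧸ Ideal.span {h}) →ₐ[k] k :=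
  Ideal.Quotient.liftₐ _ χ fun a ha => by
    obtain ⟨b, rfl⟩ := Ideal.mem_span_singleton'.1 ha
    rw [map_mul, hh, mul_zero]

theorem quotPt_mk (h : A) (χ : A →ₐ[k] k) (hh : χ h = 0) (a : A) :
    quotPt h χ hh (Ideal.Quotient.mk _ a) = χ a := rfl

instance quotPt_isMaximal (h : A) (χ : A →ₐ[k] k) (hh : χ h = 0) : (RingHom.ker (quotPt h χ hh)).IsMaximal :=
  RingHom.ker_isMaximal_of_surjective (quotPt h χ hh).toRingHom fun a => ⟨algebraMap k _ a, (quotPt h χ hh).commutes a⟩

variable [IsAlgClosed k] [IsDomain A] {n : ℕ}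

/-- A hypersurface is smooth at a rational point iff the equation is not in the square of the maximal ideal. -/
theorem isSmoothAt_iff (h : A) (h0 : h ≠ 0) (χ : A →ₐ[k] k) (hh : χ h = 0) :
    Algebra.IsSmoothAt k (RingHom.ker (quotPt h χ hh)) ↔ h ∉ RingHom.ker χ ^ 2 := by
  haveI : IsNoetherianRing A := Algebra.FiniteType.isNoetherianRing k A
  haveI hmax : (RingHom.ker χ).IsMaximal := RingHom.ker_isMaximal_of_surjective χ.toRingHom
    fun a => ⟨algebraMap k A a, χ.commutes a⟩
  let Q := A ⧸ Ideal.span {h}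
  haveI hfp : Algebra.FinitePresentation k Q :=
    Algebra.FinitePresentation.quotient (R := k) (Submodule.fg_span (Set.finite_singleton h))
  obtain ⟨m, hm, hcomap, ⟨E⟩⟩ := quot_atPrime h (RingHom.ker χ) hh
  have hmm : RingHom.ker (quotPt h χ hh) = m := Ideal.comap_injective_of_surjective _ Ideal.Quotient.mk_surjective (by
    rw [hcomap]
    ext a
    rfl)
  subst hmm
  let m := RingHom.ker (quotPt h χ hh)
  set Ap := Localization.AtPrime (RingHom.ker χ)
  haveI : IsRegularLocalRing Ap :=
    SmoothReg17.isRegularLocalRing_of_smooth (algebraMap k A) (RingHom.smooth_algebraMap.2 inferInstance) _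
  have hx : algebraMap A Ap h ∈ maximalIdeal Ap :=
    (IsLocalization.AtPrime.to_map_mem_maximal_iff Ap (RingHom.ker χ) h).2 hh
  have hsq : algebraMap A Ap h ∈ maximalIdeal Ap ^ 2 ↔ h ∈ RingHom.ker χ ^ 2 := by
    rw [← Localization.AtPrime.map_eq_maximalIdeal, ← Ideal.map_pow,
      IsLocalization.algebraMap_mem_map_algebraMap_iff (RingHom.ker χ).primeCompl]
    refine ⟨fun ⟨a, ha, hah⟩ => ?_, fun h2 => ⟨1, one_mem _, by rwa [one_mul]⟩⟩
    have htop : Ideal.span {a} ⊔ RingHom.ker χ ^ 2 = ⊤ := Ideal.sup_pow_eq_top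
      (hmax.1.2 _ (by rw [right_lt_sup, Ideal.span_singleton_le_iff_mem]; exact ha))
    obtain ⟨r', hr', q, hq, hrq⟩ := Submodule.mem_sup.1 ((Ideal.eq_top_iff_one _).1 htop)
    obtain ⟨r, rfl⟩ := Ideal.mem_span_singleton'.1 hr'
    rw [← one_mul h, ← hrq, add_mul, mul_assoc]
    exact add_mem (Ideal.mul_mem_left _ _ hah) (Ideal.mul_mem_right _ _ hq)
  constructor
  · intro hsm h2
    obtain ⟨t, ht, hts⟩ := Algebra.IsSmoothAt.exists_notMem_smooth (R := k) m
    let Qt := Localization.Away t
    have hdisj : Disjoint ((Submonoid.powers t : Submonoid Q) : Set Q) (m : Set Q) :=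
      (Ideal.disjoint_powers_iff_notMem_of_isPrime _).2 ht
    haveI hp : (m.map (algebraMap Q Qt)).IsPrime :=
      IsLocalization.isPrime_of_isPrime_disjoint (Submonoid.powers t) Qt m inferInstance hdisj
    haveI : IsRegularLocalRing (Localization.AtPrime (m.map (algebraMap Q Qt))) :=
      SmoothReg17.isRegularLocalRing_of_smooth (algebraMap k Qt) (RingHom.smooth_algebraMap.2 hts) _
    have hc : (m.map (algebraMap Q Qt)).comap (algebraMap Q Qt) = m :=
      IsLocalization.comap_map_of_isPrime_disjoint (Submonoid.powers t) Qt inferInstance hdisj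
    haveI := IsLocalization.isLocalization_isLocalization_atPrime_isLocalization (Submonoid.powers t)
      (Localization.AtPrime (m.map (algebraMap Q Qt))) (m.map (algebraMap Q Qt))
    haveI : IsLocalization.AtPrime (Localization.AtPrime (m.map (algebraMap Q Qt))) m := by
      have key : ∀ (I : Ideal Q) [I.IsPrime], I = (m.map (algebraMap Q Qt)).comap (algebraMap Q Qt) →
          IsLocalization.AtPrime (Localization.AtPrime (m.map (algebraMap Q Qt))) I := fun I _ e => by
        subst e; assumption
      exact key m hc.symm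
    haveI : IsRegularLocalRing (Localization.AtPrime m) := IsRegularLocalRing.of_ringEquiv
      (IsLocalization.algEquiv m.primeCompl (Localization.AtPrime (m.map (algebraMap Q Qt))) (Localization.AtPrime m)).toRingEquiv
    haveI : IsRegularLocalRing (Ap ⧸ Ideal.span {algebraMap A Ap h}) := IsRegularLocalRing.of_ringEquiv E.symm
    have h0' : algebraMap A Ap h ∈ nonZeroDivisors Ap := by
      haveI := RegLoc.isDomain Ap
      refine mem_nonZeroDivisors_of_ne_zero fun e => h0 ?_
      exact IsLocalization.injective Ap (RingHom.ker χ).primeCompl_le_nonZeroDivisors (e.trans (map_zero _).symm)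
    have h3 := ringKrullDim_quotient_span_singleton_succ_eq_ringKrullDim_of_mem_nonZeroDivisors h0' hx
    rw [← IsRegularLocalRing.spanFinrank_maximalIdeal, ← IsRegularLocalRing.spanFinrank_maximalIdeal] at h3
    have h4 : (maximalIdeal (Ap ⧸ Ideal.span {algebraMap A Ap h})).spanFinrank + 1 = (maximalIdeal Ap).spanFinrank := by
      exact_mod_cast h3
    let π := Ideal.Quotient.mk (Ideal.span {algebraMap A Ap h})
    have hfg := IsNoetherian.noetherian (maximalIdeal (Ap ⧸ Ideal.span {algebraMap A Ap h}))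
    let T := Submodule.generators (maximalIdeal (Ap ⧸ Ideal.span {algebraMap A Ap h}))
    have hTfin : T.Finite := Submodule.FG.finite_generators hfg
    choose l hl using fun t : Ap ⧸ Ideal.span {algebraMap A Ap h} => Ideal.Quotient.mk_surjective t
    have hle : maximalIdeal Ap ≤ Ideal.span (l '' T) ⊔ maximalIdeal Ap ^ 2 := by
      intro a ha
      have hb : π a ∈ maximalIdeal (Ap ⧸ Ideal.span {algebraMap A Ap h}) := by
        rw [RegLoc.maximalIdeal_quotient]
        exact Ideal.mem_map_of_mem _ ha
      have hT : (Ideal.span (l '' T)).map π = maximalIdeal (Ap ⧸ Ideal.span {algebraMap A Ap h}) := by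
        rw [Ideal.map_span, ← Set.image_comp, show (π ∘ l) '' T = T by simp [π, hl]]
        exact Submodule.span_generators _
      rw [← hT, ← Ideal.mem_comap, Ideal.comap_map_of_surjective _ Ideal.Quotient.mk_surjective,
        ← RingHom.ker_eq_comap_bot, Ideal.mk_ker] at hb
      obtain ⟨b, hb', e, he, rfl⟩ := Submodule.mem_sup.1 hb
      exact add_mem (Submodule.mem_sup_left hb')
        (Submodule.mem_sup_right ((Ideal.span_singleton_le_iff_mem _).2 (hsq.2 h2) he))
    have hspan : maximalIdeal Ap ≤ Ideal.span (l '' T) :=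
      Submodule.le_of_le_smul_of_le_jacobson_bot (IsNoetherian.noetherian _)
        (IsLocalRing.jacobson_eq_maximalIdeal (⊥ : Ideal Ap) bot_ne_top).ge (by rwa [smul_eq_mul, ← pow_two])
    have hup : Ideal.span (l '' T) ≤ maximalIdeal Ap := Ideal.span_le.2 (by
      rintro _ ⟨t', ht', rfl⟩
      by_contra hc
      have hu : IsUnit (π (l t')) := (IsLocalRing.notMem_maximalIdeal.1 hc).map π
      rw [show π (l t') = t' from hl t'] at hu
      exact (IsLocalRing.maximalIdeal.isMaximal _).ne_top (Ideal.eq_top_of_isUnit_mem _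
        (Submodule.span_generators (maximalIdeal (Ap ⧸ Ideal.span {algebraMap A Ap h})) ▸
          Submodule.subset_span ht') hu))
    have : (maximalIdeal Ap).spanFinrank ≤ T.ncard := by
      rw [le_antisymm hspan hup]
      exact (Submodule.spanFinrank_span_le_ncard_of_finite (hTfin.image l)).trans (Set.ncard_image_le hTfin)
    rw [Submodule.FG.generators_ncard hfg] at this
    omega
  · intro h2
    obtain ⟨hR, -⟩ := RegLoc.quotient_span_singleton (R := Ap) (x := algebraMap A Ap h) hx (fun e => h2 (hsq.1 e))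
    haveI : IsRegularLocalRing (Localization.AtPrime m) := IsRegularLocalRing.of_ringEquiv E
    haveI : Algebra.EssFiniteType Q m.ResidueField := inferInstance
    haveI : Algebra.EssFiniteType k m.ResidueField := Algebra.EssFiniteType.comp k Q _
    exact RegSmooth17.isSmoothAt_of_isRegularLocalRing k Q m

omit [IsAlgClosed k] [IsDomain A] in
/-- The completion of a hypersurface at a rational point. -/
theorem exists_cpl (P : Coord k A n) (h : A) (χ : A →ₐ[k] k) (hχ : χ P.f ≠ 0) (hh : χ h = 0)
    (τ : P.B →ₐ[k] MvPowerSeries (Fin n) k)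
    (hy : ∀ l, τ (algebraMap A P.B (P.y l)) = MvPowerSeries.X l + MvPowerSeries.C (χ (P.y l)))
    (hcc : ∀ z, MvPowerSeries.constantCoeff (τ z) = P.pt χ hχ z)
    (hmem : ∀ (e : ℕ) (a : A), a ∈ RingHom.ker χ ^ e ↔ τ (algebraMap A P.B a) ∈ PSHom.V n k ^ e) :
    ∃ E : AdicCompletion (maximalIdeal (Localization.AtPrime (RingHom.ker (quotPt h χ hh))))
        (Localization.AtPrime (RingHom.ker (quotPt h χ hh))) ≃+*
        (MvPowerSeries (Fin n) k ⧸ Ideal.span {τ (algebraMap A P.B h)}),
      ∀ c : k, E (algebraMap _ _ (algebraMap k (Localization.AtPrime (RingHom.ker (quotPt h χ hh))) c)) =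
        Ideal.Quotient.mk _ (MvPowerSeries.C c) := by
  let S := MvPowerSeries (Fin n) k
  let g := τ (algebraMap A P.B h)
  let R := S ⧸ Ideal.span {g}
  let Q := A ⧸ Ideal.span {h}
  let m := RingHom.ker (quotPt h χ hh)
  let O := Localization.AtPrime m
  have hV : ∀ z : S, MvPowerSeries.constantCoeff z = 0 → z ∈ PSHom.V n k := fun z hz => by
    have := sub_C_mem z
    rwa [hz, map_zero, sub_zero] at this
  have hg0 : MvPowerSeries.constantCoeff g = 0 := by
    rw [hcc]
    exact (P.piece.pt_algebraMap χ hχ h).trans hh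
  haveI : Nontrivial R := Ideal.Quotient.nontrivial_iff.2 fun e => by
    obtain ⟨c, hc⟩ := Ideal.mem_span_singleton'.1 (e ▸ Submodule.mem_top : (1 : S) ∈ Ideal.span {g})
    have := congrArg MvPowerSeries.constantCoeff hc
    rw [map_mul, hg0, mul_zero, map_one] at this
    exact zero_ne_one this
  haveI : IsLocalRing R := IsLocalRing.of_surjective' _ Ideal.Quotient.mk_surjective
  let τA : A →ₐ[k] S := τ.comp (IsScalarTower.toAlgHom k A P.B)
  let f₀ : Q →ₐ[k] R := Ideal.Quotient.liftₐ _ ((Ideal.Quotient.mkₐ k _).comp τA) fun a ha => by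
    obtain ⟨b, rfl⟩ := Ideal.mem_span_singleton'.1 ha
    show Ideal.Quotient.mk _ (τA (b * h)) = 0
    rw [map_mul, map_mul, show Ideal.Quotient.mk (Ideal.span {g}) (τA h) = 0 from
      Ideal.Quotient.eq_zero_iff_mem.2 (Ideal.mem_span_singleton_self g), mul_zero]
  have hu : ∀ q : m.primeCompl, IsUnit (f₀ q) := by
    rintro ⟨q, hq⟩
    obtain ⟨a, rfl⟩ := Ideal.Quotient.mk_surjective q
    have : MvPowerSeries.constantCoeff (τA a) ≠ 0 := by
      show MvPowerSeries.constantCoeff (τ _) ≠ 0
      rw [hcc]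
      erw [P.piece.pt_algebraMap χ hχ a]
      exact hq
    exact (MvPowerSeries.isUnit_iff_constantCoeff.2 (isUnit_iff_ne_zero.2 this)).map (Ideal.Quotient.mk (Ideal.span {g}))
  let f : O →ₐ[k] R := IsLocalization.liftAlgHom (M := m.primeCompl) (f := f₀) hu
  have hf : ∀ a, f (algebraMap _ _ (Ideal.Quotient.mk (Ideal.span {h}) a)) = Ideal.Quotient.mk _ (τA a) :=
    fun a => IsLocalization.lift_eq _ _
  let aev : MvPolynomial (Fin n) k →ₐ[k] A := MvPolynomial.aeval fun l => P.y l - algebraMap k A (χ (P.y l))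
  have haev : ∀ p, τA (aev p) = (p : S) := by
    have : τA.comp aev = MvPolynomial.coeToMvPowerSeries.algHom k := MvPolynomial.algHom_ext fun l => by
      simp only [AlgHom.comp_apply, aev, MvPolynomial.aeval_X, map_sub, AlgHom.commutes]
      show τ (algebraMap A P.B (P.y l)) - _ = _
      rw [hy, MvPowerSeries.c_eq_algebraMap]
      erw [add_sub_cancel_right]
      exact (MvPolynomial.coe_X l).symm
    intro p
    rw [← AlgHom.comp_apply, this]
    rfl
  have happrox : ∀ (e : ℕ) (s : S), ∃ a : A, s - τA a ∈ PSHom.V n k ^ e := fun e s => by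
    refine ⟨aev (MvPowerSeries.truncTotal e s), PSHom.mem_pow fun d hd => ?_⟩
    rw [haev, map_sub, MvPolynomial.coeff_coe, MvPowerSeries.coeff_truncTotal _ hd, sub_self]
  have hinj : ∀ e z, f z ∈ (PSHom.V n k ^ e).map (Ideal.Quotient.mk (Ideal.span {g})) →
      z ∈ maximalIdeal O ^ e := by
    intro e z hz
    obtain ⟨b, s, rfl⟩ := IsLocalization.exists_mk'_eq m.primeCompl z
    have hb : f (algebraMap _ _ b) ∈ (PSHom.V n k ^ e).map (Ideal.Quotient.mk (Ideal.span {g})) := by
      rw [← IsLocalization.mk'_spec O b s, map_mul]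
      exact Ideal.mul_mem_right _ _ hz
    obtain ⟨a, rfl⟩ := Ideal.Quotient.mk_surjective b
    rw [hf, Ideal.mem_map_iff_of_surjective _ Ideal.Quotient.mk_surjective] at hb
    obtain ⟨v, hv, hva⟩ := hb
    obtain ⟨c, hc⟩ := Ideal.mem_span_singleton'.1 (Ideal.Quotient.eq.1 hva.symm)
    obtain ⟨c', hc'⟩ := happrox e c
    have hm : a - c' * h ∈ RingHom.ker χ ^ e := by
      rw [hmem]
      have : τ (algebraMap A P.B (a - c' * h)) = v + (c - τA c') * g := by
        show τA (a - c' * h) = _
        rw [map_sub, map_mul, sub_mul, hc]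
        show τA a - τA c' * g = v + (τA a - v - τA c' * g)
        ring
      rw [this]
      exact add_mem hv (Ideal.mul_mem_right _ _ hc')
    have hPm : Ideal.Quotient.mk (Ideal.span {h}) a ∈ m ^ e := by
      have h1 := Ideal.mem_map_of_mem (Ideal.Quotient.mk (Ideal.span {h})) hm
      rw [Ideal.map_pow, map_sub, map_mul, Ideal.Quotient.eq_zero_iff_mem.2 (Ideal.mem_span_singleton_self h),
        mul_zero, sub_zero] at h1
      exact Ideal.pow_right_mono (Ideal.map_le_iff_le_comap.2 fun x hx => hx) e h1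
    rw [IsLocalization.mk'_eq_mul_mk'_one]
    refine Ideal.mul_mem_right _ _ ?_
    rw [← IsLocalization.AtPrime.map_eq_maximalIdeal m O, ← Ideal.map_pow]
    exact Ideal.mem_map_of_mem _ hPm
  letI : Algebra Q R := (f.toRingHom.comp (algebraMap Q O)).toAlgebra
  let fB : O →ₐ[Q] R := { f.toRingHom with commutes' := fun b => rfl }
  have hmO : m.map (algebraMap Q O) = maximalIdeal O := IsLocalization.AtPrime.map_eq_maximalIdeal m _
  have hmR : maximalIdeal R = (PSHom.V n k).map (Ideal.Quotient.mk (Ideal.span {g})) := by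
    rw [← PSHom.maximalIdeal_eq k n]
    exact (IsLocalRing.map_maximalIdeal_of_surjective _ Ideal.Quotient.mk_surjective).symm
  have hmR' : m.map (algebraMap Q R) = maximalIdeal R := by
    refine le_antisymm (Ideal.map_le_iff_le_comap.2 fun b hb => ?_) ?_
    · obtain ⟨a, rfl⟩ := Ideal.Quotient.mk_surjective b
      rw [Ideal.mem_comap, hmR]
      show f _ ∈ _
      rw [hf]
      refine Ideal.mem_map_of_mem _ (hV _ ?_)
      show MvPowerSeries.constantCoeff (τ _) = 0
      rw [hcc]
      erw [P.piece.pt_algebraMap χ hχ a]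
      exact hb
    · rw [hmR, Ideal.map_le_iff_le_comap]
      refine Ideal.span_le.2 ?_
      rintro _ ⟨l, rfl⟩
      have hl : Ideal.Quotient.mk (Ideal.span {h}) (aev (MvPolynomial.X l)) ∈ m := by
        show χ _ = 0
        simp [aev]
      have := Ideal.mem_map_of_mem (algebraMap Q R) hl
      rw [show algebraMap Q R (Ideal.Quotient.mk _ (aev (MvPolynomial.X l))) = _ from hf _, haev,
        MvPolynomial.coe_X] at this
      exact this
  have hbij : ∀ e, Function.Bijective (CplLevelH7.lev (B := O) (T := R) m fB e) := by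
    intro e
    constructor
    · rw [injective_iff_map_eq_zero]
      intro x hx
      obtain ⟨z, rfl⟩ := Ideal.Quotient.mk_surjective x
      rw [CplLevelH7.lev_mk, Ideal.Quotient.eq_zero_iff_mem, hmR', hmR, ← Ideal.map_pow] at hx
      rw [Ideal.Quotient.eq_zero_iff_mem, hmO]
      exact hinj e z hx
    · intro y
      obtain ⟨y, rfl⟩ := Ideal.Quotient.mk_surjective y
      obtain ⟨s, rfl⟩ := Ideal.Quotient.mk_surjective y
      obtain ⟨a, ha⟩ := happrox e s
      refine ⟨Ideal.Quotient.mk _ (algebraMap _ _ (Ideal.Quotient.mk (Ideal.span {h}) a)), ?_⟩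
      rw [CplLevelH7.lev_mk, Ideal.Quotient.eq, hmR', hmR, ← Ideal.map_pow]
      show f _ - _ ∈ _
      rw [hf, ← map_sub]
      exact Ideal.mem_map_of_mem _ (by simpa using neg_mem ha)
  haveI : IsAdicComplete (maximalIdeal S) S := by
    rw [PSHom.maximalIdeal_eq k n]
    exact ({ toIsHausdorff := inferInstance, toIsPrecomplete := inferInstance } : IsAdicComplete (PSHom.V n k) S)
  haveI : IsAdicComplete (maximalIdeal R) R := CohenAlg3.isAdicComplete_quotient (Ideal.span {g})
  have he := CplLevelH7.exists_cplEquiv (B := O) (T := R) m fB hbij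
  rw [hmR', hmO] at he
  obtain ⟨e⟩ := he
  refine ⟨e.toRingEquiv.trans (AdicCompletion.ofAlgEquiv (maximalIdeal R)).symm.toRingEquiv, fun c => ?_⟩
  show (AdicCompletion.ofAlgEquiv (maximalIdeal R)).symm (e (algebraMap O _ (algebraMap k O c))) = _
  rw [IsScalarTower.algebraMap_apply k Q O, ← IsScalarTower.algebraMap_apply Q O, e.commutes,
    IsScalarTower.algebraMap_apply Q R (AdicCompletion (maximalIdeal R) R), AlgEquiv.commutes]
  show f (algebraMap Q O (algebraMap k Q c)) = _
  rw [← IsScalarTower.algebraMap_apply k Q O, AlgHom.commutes]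
  rfl

end Groth.Agent.LefPen13
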