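import Groth.Agent.Lib.LefPen13.Glue
import Groth.Agent.Lib.LefPen13.SmAt

/-! # The points of a hypersurface section -/

set_option autoImplicit false
set_option linter.style.haveILetI false
set_option backward.isDefEq.respectTransparency false
set_option backward.isDefEq.respectTransparency.types false

universe u

open CategoryTheory CategoryTheory.Limits AlgebraicGeometry TopologicalSpace

noncomputable section

namespace Groth.Agent.LefPen13

variable {k : Type u} [Field k] {r : ℕ} {X : Scheme.{u}} (i : X ⟶ CohB1.ProjSpace r k) [IsAffineHom i] {d : ℕ}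
  (H : LefPen.Form r k d) (j : Fin (r + 1))

/-- The ring of the section on a chart. -/
abbrev QR : Type u := A i j ⧸ Ideal.span {π i j H.1}

theorem secIdeal_eq : (LefPen.secIdeal i ({H} : Set (LefPen.Form r k d))).ideal ⟨V i j, isAffineOpen_V i j⟩ =
    Ideal.span {π i j H.1} := by
  rw [π_form]
  exact secIdeal_chart i H j

/-- The chart of the section. -/
def secChart : Spec (CommRingCat.of (QR i H j)) ⟶ LefPen.Sec i ({H} : Set (LefPen.Form r k d)) :=
  Spec.map (CommRingCat.ofHom (Ideal.quotEquivOfEq (secIdeal_eq i H j)).toRingHom) ≫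
    (LefPen.secIdeal i ({H} : Set (LefPen.Form r k d))).subschemeCover.f ⟨V i j, isAffineOpen_V i j⟩

instance : IsOpenImmersion (secChart i H j) := by
  haveI : IsOpenImmersion ((LefPen.secIdeal i ({H} : Set (LefPen.Form r k d))).subschemeCover.f ⟨V i j, isAffineOpen_V i j⟩) :=
    (LefPen.secIdeal i ({H} : Set (LefPen.Form r k d))).subschemeCover.map_prop _
  haveI : IsIso (CommRingCat.ofHom (Ideal.quotEquivOfEq (secIdeal_eq i H j)).toRingHom) :=
    (ConcreteCategory.isIso_iff_bijective _).2 (Ideal.quotEquivOfEq (secIdeal_eq i H j)).bijective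
  unfold secChart
  infer_instance

theorem secChart_secι : secChart i H j ≫ LefPen.secι i ({H} : Set (LefPen.Form r k d)) =
    Spec.map (CommRingCat.ofHom (Ideal.Quotient.mk (Ideal.span {π i j H.1}))) ≫ (isAffineOpen_V i j).fromSpec := by
  rw [secChart, Category.assoc]
  show _ ≫ _ ≫ (LefPen.secIdeal i ({H} : Set (LefPen.Form r k d))).subschemeι = _
  rw [Scheme.IdealSheafData.subschemeCover_map_subschemeι, Scheme.IdealSheafData.glueDataObjι, Category.assoc,
    IsAffineOpen.isoSpec_inv_ι]
  erw [← Spec.map_comp_assoc]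
  rfl

theorem secChart_toSpec : secChart i H j ≫ LefPen.secToSpec i ({H} : Set (LefPen.Form r k d)) =
    Spec.map (CommRingCat.ofHom (algebraMap k (QR i H j))) := by
  show secChart i H j ≫ LefPen.secι i _ ≫ i ≫ CohB1.ProjSpace.toSpec r k = _
  rw [← Category.assoc, secChart_secι, Category.assoc]
  erw [fromSpec_toSpec_V i j]
  rw [← Spec.map_comp]
  rfl

theorem range_secChart : Set.range (secChart i H j) =
    LefPen.secι i ({H} : Set (LefPen.Form r k d)) ⁻¹' (V i j : Set X) := by
  haveI : IsIso (CommRingCat.ofHom (Ideal.quotEquivOfEq (secIdeal_eq i H j)).toRingHom) :=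
    (ConcreteCategory.isIso_iff_bijective _).2 (Ideal.quotEquivOfEq (secIdeal_eq i H j)).bijective
  let I := LefPen.secIdeal i ({H} : Set (LefPen.Form r k d))
  have h1 : (secChart i H j).opensRange = (I.subschemeCover.f ⟨V i j, isAffineOpen_V i j⟩).opensRange := by
    haveI : IsOpenImmersion (I.subschemeCover.f ⟨V i j, isAffineOpen_V i j⟩) := I.subschemeCover.map_prop _
    exact Scheme.Hom.opensRange_comp_of_isIso _ _
  exact congrArg SetLike.coe (h1.trans (I.opensRange_subschemeCover_map ⟨V i j, isAffineOpen_V i j⟩))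

/-- The constants in the local ring of an affine scheme over a field. -/
theorem exists_stalkEquiv {Q : Type u} [CommRing Q] [Algebra k Q] {Y : Scheme.{u}} (e : Spec (CommRingCat.of Q) ⟶ Y)
    [IsOpenImmersion e] (g : Y ⟶ Spec (CommRingCat.of k))
    (he : e ≫ g = Spec.map (CommRingCat.ofHom (algebraMap k Q))) (p : PrimeSpectrum Q) :
    ∃ E : Y.presheaf.stalk (e p) ≃+* Localization.AtPrime p.asIdeal,
      ∀ c, E (LefPen.toStalk k g (e p) c) = algebraMap k (Localization.AtPrime p.asIdeal) c := by
  let E₂ : (Spec (CommRingCat.of Q)).presheaf.stalk p ≃+* Localization.AtPrime p.asIdeal :=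
    (Spec.stalkIso (CommRingCat.of Q) p).commRingCatIsoToRingEquiv
  let E₁ : Y.presheaf.stalk (e p) ≃+* (Spec (CommRingCat.of Q)).presheaf.stalk p :=
    (asIso (e.stalkMap p)).commRingCatIsoToRingEquiv
  refine ⟨E₁.trans E₂, fun c => ?_⟩
  have h1 : E₁ (LefPen.toStalk k g (e p) c) =
      (Spec (CommRingCat.of Q)).presheaf.germ ⊤ p trivial ((Scheme.ΓSpecIso (CommRingCat.of Q)).inv (algebraMap k Q c)) := by
    show e.stalkMap p (Y.presheaf.germ ⊤ (e p) trivial (g.appTop ((Scheme.ΓSpecIso (CommRingCat.of k)).inv c))) = _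
    rw [← ConcreteCategory.comp_apply, Scheme.Hom.germ_stalkMap, ConcreteCategory.comp_apply]
    refine congrArg ((Spec (CommRingCat.of Q)).presheaf.germ ⊤ p trivial) ?_
    have h3 := congrArg (fun m : Spec (CommRingCat.of Q) ⟶ Spec (CommRingCat.of k) =>
      m.appTop ((Scheme.ΓSpecIso (CommRingCat.of k)).inv c)) he
    simp only [Scheme.Hom.comp_appTop, ConcreteCategory.comp_apply] at h3
    refine h3.trans ?_
    exact (ConcreteCategory.congr_hom (Scheme.ΓSpecIso_inv_naturality (CommRingCat.ofHom (algebraMap k Q))) c).symm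
  show E₂ (E₁ _) = _
  rw [h1]
  refine E₂.symm.injective ?_
  rw [RingEquiv.symm_apply_apply, IsScalarTower.algebraMap_apply k Q (Localization.AtPrime p.asIdeal)]
  exact (DFunLike.congr_fun (congrArg CommRingCat.Hom.hom
    (Spec.algebraMap_stalkIso_inv (R := CommRingCat.of Q) (x := p))) (algebraMap k Q c)).symm

/-- Smoothness at a point in algebraic terms. -/
theorem smoothAt_iff {Q : Type u} [CommRing Q] [Algebra k Q] {Y : Scheme.{u}} (e : Spec (CommRingCat.of Q) ⟶ Y)
    [IsOpenImmersion e] (g : Y ⟶ Spec (CommRingCat.of k))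
    (he : e ≫ g = Spec.map (CommRingCat.ofHom (algebraMap k Q))) (p : PrimeSpectrum Q) :
    LefPen.SmoothAt g (e p) ↔ Algebra.IsSmoothAt k p.asIdeal := by
  obtain ⟨E, hE⟩ := exists_stalkEquiv e g he p
  let s : k →+* (Spec (CommRingCat.of k)).presheaf.stalk (g (e p)) :=
    ((Scheme.ΓSpecIso (CommRingCat.of k)).inv ≫ (Spec (CommRingCat.of k)).presheaf.germ ⊤ (g (e p)) trivial).hom
  have hs : Function.Bijective s := by
    let z : PrimeSpectrum k := g (e p)
    let E₀ : (Spec (CommRingCat.of k)).presheaf.stalk (g (e p)) ≃+* Localization.AtPrime z.asIdeal :=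
      (Spec.stalkIso (CommRingCat.of k) z).commRingCatIsoToRingEquiv
    have hs' : ∀ c, s c = E₀.symm (algebraMap k (Localization.AtPrime z.asIdeal) c) := fun c =>
      (DFunLike.congr_fun (congrArg CommRingCat.Hom.hom
        (Spec.algebraMap_stalkIso_inv (R := CommRingCat.of k) (x := z))) c).symm
    refine ⟨s.injective, fun w => ?_⟩
    obtain ⟨c, t, hct⟩ := IsLocalization.exists_mk'_eq z.asIdeal.primeCompl (E₀ w)
    refine ⟨c / t, ?_⟩
    rw [hs', RingEquiv.symm_apply_eq, ← hct, IsLocalization.eq_mk'_iff_mul_eq, ← map_mul, div_mul_cancel₀]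
    exact fun e0 => t.2 (show (t : k) ∈ z.asIdeal by rw [e0]; exact zero_mem _)
  have hcomp : (g.stalkMap (e p)).hom = (E.symm.toRingHom.comp (algebraMap k (Localization.AtPrime p.asIdeal))).comp
      (RingEquiv.ofBijective s hs).symm.toRingHom := by
    refine RingHom.ext fun w => ?_
    obtain ⟨c, rfl⟩ := hs.2 w
    show g.stalkMap (e p) (s c) = E.symm (algebraMap k _ ((RingEquiv.ofBijective s hs).symm (RingEquiv.ofBijective s hs c)))
    rw [RingEquiv.symm_apply_apply, ← hE, RingEquiv.symm_apply_apply]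
    show g.stalkMap (e p) ((Spec (CommRingCat.of k)).presheaf.germ ⊤ (g (e p)) trivial ((Scheme.ΓSpecIso (CommRingCat.of k)).inv c)) = _
    rw [← ConcreteCategory.comp_apply, Scheme.Hom.germ_stalkMap, ConcreteCategory.comp_apply]
    rfl
  rw [LefPen.SmoothAt, hcomp]
  show _ ↔ Algebra.FormallySmooth k (Localization.AtPrime p.asIdeal)
  rw [← RingHom.formallySmooth_algebraMap]
  constructor
  · intro h
    have h1 := RingHom.FormallySmooth.respectsIso.left _ E (RingHom.FormallySmooth.respectsIso.right _ (RingEquiv.ofBijective s hs) h)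
    have e1 : E.toRingHom.comp ((((E.symm.toRingHom.comp (algebraMap k (Localization.AtPrime p.asIdeal))).comp
        (RingEquiv.ofBijective s hs).symm.toRingHom)).comp (RingEquiv.ofBijective s hs).toRingHom) =
        algebraMap k (Localization.AtPrime p.asIdeal) := RingHom.ext fun c => by
          simp
          exact (RingEquiv.ofBijective s hs).symm_apply_apply c
    rwa [e1] at h1
  · intro h
    exact RingHom.FormallySmooth.respectsIso.right _ (RingEquiv.ofBijective s hs).symm
      (RingHom.FormallySmooth.respectsIso.left _ E.symm h)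

end Groth.Agent.LefPen13
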