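import Groth.Agent.Lib.LefPen13.Open

/-! # Transversality of the intersection with two hypersurfaces -/

set_option autoImplicit false
set_option linter.style.haveILetI false
set_option backward.isDefEq.respectTransparency false
set_option backward.isDefEq.respectTransparency.types false

universe u

open CategoryTheory CategoryTheory.Limits AlgebraicGeometry TopologicalSpace
open Groth.Agent.H2Alg

noncomputable section

namespace Groth.Agent.LefPen13

section Algebra

variable {k : Type u} [Field k] [IsAlgClosed k] {A : Type u} [CommRing A] [Algebra k A]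

/-- Dependence of the differentials. -/
def DepAt (χ : A →ₐ[k] k) (f g : A) : Prop :=
  ∃ s t : k, (s ≠ 0 ∨ t ≠ 0) ∧ s • f + t • g ∈ RingHom.ker χ ^ 2

/-- A pair of functions with a common zero at which the differentials are dependent. -/
def BasePt (χ : A →ₐ[k] k) (f g : A) : Prop := χ f = 0 ∧ χ g = 0 ∧ DepAt χ f g

variable [Algebra.Smooth k A] {n : ℕ}

/-- The differential at a point as a vector. -/
def Coord.grad (P : Coord k A n) (χ : A →ₐ[k] k) (hχ : χ P.f ≠ 0) : A →ₗ[k] (Fin n → k) where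
  toFun a l := P.pt χ hχ (P.pd l (algebraMap A P.B a))
  map_add' a b := funext fun l => by simp only [map_add, P.pd_add, Pi.add_apply]
  map_smul' c a := funext fun l => by
    rw [← IsScalarTower.coe_toAlgHom' k A P.B, map_smul, P.pd_smul, map_smul]
    rfl

variable (hA : RingHom.Locally (RingHom.IsStandardSmoothOfRelativeDimension n) (algebraMap k A))
include hA

theorem mem_sq_of_grad (P : Coord k A n) (χ : A →ₐ[k] k) (hχ : χ P.f ≠ 0) {a : A} (ha : χ a = 0)
    (hg : P.grad χ hχ a = 0) : a ∈ RingHom.ker χ ^ 2 := by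
  obtain ⟨τ, h1, h2, h3, h4⟩ := P.exists_expansion hA χ hχ
  have hτ : IsExp P χ τ := ⟨hχ, h1, h2, h3, h4⟩
  rw [h3 2]
  have e := P.expansion_lin hτ (algebraMap A P.B a)
  have h0 : (MvPolynomial.C (P.pt χ hτ.hf (algebraMap A P.B a)) + P.lin (P.pt χ hτ.hf) (algebraMap A P.B a) :
      MvPolynomial (Fin n) k) = 0 := by
    have e1 : P.pt χ hτ.hf (algebraMap A P.B a) = 0 := (P.piece.pt_algebraMap χ hτ.hf a).trans ha
    have e2 : P.lin (P.pt χ hτ.hf) (algebraMap A P.B a) = 0 := Finset.sum_eq_zero fun l _ => by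
      rw [show P.pt χ hτ.hf (P.pd l (algebraMap A P.B a)) = 0 from congrFun hg l, map_zero, zero_mul]
    rw [e1, e2, map_zero, add_zero]
  rw [h0, MvPolynomial.coe_zero, sub_zero] at e
  exact e

/-- In dimension one two functions always have dependent differentials at a common zero. -/
theorem depAt_of_one (hn : n = 1) (χ : A →ₐ[k] k) {f g : A} (hf : χ f = 0) (hg : χ g = 0) : DepAt χ f g := by
  subst hn
  obtain ⟨P, hP⟩ := exists_coord hA χ
  let a := P.grad χ hP f 0
  let b := P.grad χ hP g 0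
  have key : ∀ s t : k, s * a + t * b = 0 → s • f + t • g ∈ RingHom.ker χ ^ 2 := fun s t h =>
    mem_sq_of_grad hA P χ hP (by rw [map_add, map_smul, map_smul, hf, hg, smul_zero, smul_zero, add_zero])
      (funext fun l => by
        rw [map_add, map_smul, map_smul, Fin.eq_zero l]
        exact h)
  by_cases ha : a = 0
  · exact ⟨1, 0, Or.inl one_ne_zero, key 1 0 (by rw [ha]; ring)⟩
  · exact ⟨b, -a, Or.inr (neg_ne_zero.2 ha), key b (-a) (by ring)⟩

/-- A smooth intersection of the expected dimension has independent differentials. -/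
theorem not_basePt_of_smooth (hn : 2 ≤ n) (f g : A)
    (hQ : RingHom.Locally (RingHom.IsStandardSmoothOfRelativeDimension (n - 2))
      (algebraMap k (A ⧸ Ideal.span {f, g}))) (χ : A →ₐ[k] k) : ¬ BasePt χ f g := by
  classical
  rintro ⟨hf, hg, s, t, hst, hsq⟩
  let Q := A ⧸ Ideal.span {f, g}
  haveI : Algebra.Smooth k Q := RingHom.smooth_algebraMap.1
    (RingHom.smooth_iff_locally_isStandardSmooth.2 (RingHom.locally_of_locally (fun h => h.isStandardSmooth) hQ))
  have hle : Ideal.span {f, g} ≤ RingHom.ker χ := Ideal.span_le.2 (by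
    rintro _ (rfl | rfl)
    exacts [hf, hg])
  let ψ : Q →ₐ[k] k := Ideal.Quotient.liftₐ _ χ hle
  obtain ⟨P', hP'⟩ := exists_coord hQ ψ
  have hspan := P'.le_span_sup_sq ψ hP'
  choose z hz using fun l => Ideal.Quotient.mk_surjective (P'.y l - algebraMap k Q (ψ (P'.y l)))
  obtain ⟨P, hP⟩ := exists_coord hA χ
  let G := P.grad χ hP
  have hzker : ∀ l, χ (z l) = 0 := fun l => by
    have : ψ (Ideal.Quotient.mk _ (z l)) = 0 := by rw [hz, map_sub, AlgHom.commutes]; exact sub_self _
    exact this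
  obtain ⟨h1, hh1⟩ : ∃ h1, (h1 = f ∨ h1 = g) ∧ G f ∈ Submodule.span k {G h1} ∧ G g ∈ Submodule.span k {G h1} := by
    have hG : s • G f + t • G g = 0 := by
      rw [← map_smul, ← map_smul, ← map_add]
      funext l
      have hz' : algebraMap A P.B (s • f + t • g) ∈ RingHom.ker (P.pt χ hP) ^ 2 := by
        have h := Ideal.mem_map_of_mem (algebraMap A P.B) hsq
        rw [Ideal.map_pow] at h
        refine Ideal.pow_right_mono (Ideal.map_le_iff_le_comap.2 fun w hw => ?_) 2 h
        show P.pt χ hP (algebraMap A P.B w) = 0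
        exact (P.piece.pt_algebraMap χ hP w).trans hw
      exact P.pd_eq_zero_of_mem_sq hz' l
    rcases hst with hs | ht
    · refine ⟨g, Or.inr rfl, Submodule.mem_span_singleton.2 ⟨-(t / s), ?_⟩, Submodule.mem_span_singleton_self _⟩
      have := congrArg (fun v => s⁻¹ • v) hG
      simp only [smul_add, smul_smul, inv_mul_cancel₀ hs, one_smul, smul_zero] at this
      rw [eq_neg_of_add_eq_zero_left this, neg_smul, div_eq_inv_mul]
    · refine ⟨f, Or.inl rfl, Submodule.mem_span_singleton_self _, Submodule.mem_span_singleton.2 ⟨-(s / t), ?_⟩⟩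
      have := congrArg (fun v => t⁻¹ • v) hG
      simp only [smul_add, smul_smul, inv_mul_cancel₀ ht, one_smul, smul_zero] at this
      rw [eq_neg_of_add_eq_zero_right this, neg_smul, div_eq_inv_mul]
  obtain ⟨hmem, hfG, hgG⟩ := hh1
  let W : Submodule k (Fin n → k) := Submodule.span k (Set.range (Sum.elim (fun l => G (z l)) (fun _ : Unit => G h1)))
  have hW1 : Submodule.span k {G h1} ≤ W := Submodule.span_mono (by
    rintro _ rfl; exact ⟨Sum.inr (), rfl⟩)
  have hmul : ∀ a b : A, G (a * b) = χ a • G b + χ b • G a := fun a b => funext fun l => by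
    show P.pt χ hP (P.pd l (algebraMap A P.B (a * b))) = _
    rw [map_mul, P.pd_mul, map_add, map_mul, map_mul]
    erw [P.piece.pt_algebraMap χ hP, P.piece.pt_algebraMap χ hP]
    rfl
  have hG0 : ∀ a ∈ RingHom.ker χ, G a ∈ W := by
    have hker : RingHom.ker χ ≤ Ideal.span (Set.range z) ⊔ RingHom.ker χ ^ 2 ⊔ Ideal.span {f, g} := by
      intro a ha
      have : Ideal.Quotient.mk (Ideal.span {f, g}) a ∈ RingHom.ker ψ := ha
      have h2 := hspan this
      have e : (Ideal.span (Set.range z) ⊔ RingHom.ker χ ^ 2).map (Ideal.Quotient.mk (Ideal.span {f, g})) =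
          Ideal.span (Set.range fun l => P'.y l - algebraMap k Q (ψ (P'.y l))) ⊔ RingHom.ker ψ ^ 2 := by
        rw [Ideal.map_sup, Ideal.map_span, Ideal.map_pow, ← Set.range_comp]
        congr 2
        · exact congrArg Set.range (funext hz)
        · ext q
          obtain ⟨b, rfl⟩ := Ideal.Quotient.mk_surjective q
          rw [Ideal.mem_map_iff_of_surjective _ Ideal.Quotient.mk_surjective]
          refine ⟨fun ⟨c, hc, e⟩ => ?_, fun hb => ⟨b, hb, rfl⟩⟩
          rw [← e]; exact hc
      rw [← e, ← Ideal.mem_comap, Ideal.comap_map_of_surjective _ Ideal.Quotient.mk_surjective,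
        ← RingHom.ker_eq_comap_bot, Ideal.mk_ker] at h2
      exact h2
    intro a ha
    have hm := hker ha
    have aux : ∀ (T : Set A), (∀ x ∈ T, G x ∈ W ∧ χ x = 0) → ∀ x ∈ Ideal.span T, G x ∈ W ∧ χ x = 0 := by
      intro T hT x hx
      induction hx using Submodule.span_induction with
      | mem x hx => exact hT x hx
      | zero => exact ⟨by rw [map_zero]; exact zero_mem _, map_zero _⟩
      | add x y _ _ hx hy => exact ⟨by rw [map_add]; exact add_mem hx.1 hy.1, by rw [map_add, hx.2, hy.2, add_zero]⟩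
      | smul c x _ hx =>
        refine ⟨?_, by rw [smul_eq_mul, map_mul, hx.2, mul_zero]⟩
        rw [smul_eq_mul, hmul, hx.2, zero_smul, add_zero]
        exact Submodule.smul_mem _ _ hx.1
    have hsqW : ∀ w ∈ RingHom.ker χ * RingHom.ker χ, G w ∈ W := fun w hw => by
      induction hw using Submodule.mul_induction_on' with
      | mem_mul_mem u hu v hv =>
        rw [hmul, RingHom.mem_ker.1 hu, RingHom.mem_ker.1 hv, zero_smul, zero_smul, add_zero]
        exact zero_mem _
      | add u _ v _ hu hv => rw [map_add]; exact add_mem hu hv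
    obtain ⟨x, hx, y, hy, rfl⟩ := Submodule.mem_sup.1 hm
    obtain ⟨x₁, hx₁, x₂, hx₂, rfl⟩ := Submodule.mem_sup.1 hx
    rw [map_add, map_add]
    refine add_mem (add_mem (aux _ ?_ x₁ hx₁).1 ?_) (aux _ ?_ y hy).1
    · rintro _ ⟨l, rfl⟩
      exact ⟨Submodule.subset_span ⟨Sum.inl l, rfl⟩, hzker l⟩
    · exact hsqW x₂ (by rwa [pow_two] at hx₂)
    · rintro _ (rfl | rfl)
      exacts [⟨hW1 hfG, hf⟩, ⟨hW1 hgG, hg⟩]
  have htop : W = ⊤ := by
    refine top_le_iff.1 fun v _ => ?_
    have hb : ∀ l, G (P.y l - algebraMap k A (χ (P.y l))) = Pi.single l 1 := fun l => funext fun l' => by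
      show P.pt χ hP (P.pd l' (algebraMap A P.B _)) = _
      rw [map_sub, ← IsScalarTower.algebraMap_apply, show algebraMap k P.B (χ (P.y l)) = algebraMap k P.B (χ (P.y l)) from rfl]
      have : P.pd l' (algebraMap A P.B (P.y l) - algebraMap k P.B (χ (P.y l))) = if l = l' then 1 else 0 := by
        rw [Coord.pd, map_sub, map_sub, Finsupp.sub_apply]
        show P.pd l' _ - P.pd l' _ = _
        rw [P.pd_algebraMap, sub_zero, P.pd_y]
      rw [this, Pi.single_apply]
      by_cases h : l = l'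
      · subst h; simp
      · simp [h, Ne.symm h]
    rw [show v = ∑ l, v l • (Pi.single l (1 : k) : Fin n → k) by
      funext l'; simp [Finset.sum_apply, Pi.single_apply]]
    exact Submodule.sum_mem _ fun l _ => Submodule.smul_mem _ _ (hb l ▸ hG0 _ (by
      rw [RingHom.mem_ker, map_sub, AlgHom.commutes]; exact sub_self _))
  have hc := finrank_range_le_card (R := k) (Sum.elim (fun l => G (z l)) (fun _ : Unit => G h1))
  rw [Set.finrank, show Submodule.span k (Set.range (Sum.elim (fun l => G (z l)) (fun _ : Unit => G h1))) = ⊤ from htop,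
    finrank_top, Module.finrank_fin_fun, Fintype.card_sum, Fintype.card_fin, Fintype.card_unit] at hc
  omega

/-- Independent differentials give a smooth intersection. -/
theorem smooth_of_not_basePt (hn : 2 ≤ n) (f g : A) (h : ∀ χ : A →ₐ[k] k, ¬ BasePt χ f g) :
    RingHom.Locally (RingHom.IsStandardSmoothOfRelativeDimension (n - 2)) (algebraMap k (A ⧸ Ideal.span {f, g})) := by
  classical
  haveI : Algebra.FiniteType k A := inferInstance
  let Kf : Ideal A :=
    { carrier := {a | ∀ χ : A →ₐ[k] k, f ∈ RingHom.ker χ ^ 2 → χ a = 0}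
      zero_mem' := fun χ _ => map_zero χ
      add_mem' := fun ha hb χ hχ => by rw [map_add, ha χ hχ, hb χ hχ, add_zero]
      smul_mem' := fun c a ha χ hχ => by rw [smul_eq_mul, map_mul, ha χ hχ, mul_zero] }
  have hmemK : ∀ a, a ∈ Kf ↔ ∀ χ : A →ₐ[k] k, f ∈ RingHom.ker χ ^ 2 → χ a = 0 := fun a => Iff.rfl
  have htop : Kf ⊔ Ideal.span {f, g} = ⊤ := by
    by_contra hne
    obtain ⟨M, hM, hle⟩ := Ideal.exists_le_maximal _ hne
    haveI := hM
    obtain ⟨χ, hχ⟩ := exists_algHom_ker (k := k) M
    have hfg : Ideal.span {f, g} ≤ RingHom.ker χ := hχ.symm ▸ le_sup_right.trans hle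
    have hf : χ f = 0 := hfg (Ideal.subset_span (Set.mem_insert _ _))
    have hg : χ g = 0 := hfg (Ideal.subset_span (Set.mem_insert_of_mem _ rfl))
    have hns : f ∉ RingHom.ker χ ^ 2 := fun h2 =>
      h χ ⟨hf, hg, 1, 0, Or.inl one_ne_zero, by rwa [one_smul, zero_smul, add_zero]⟩
    have hbad : ¬ Bad (fun _ : Fin 1 => f) χ (fun _ => 1) := by
      rw [Bad]; simpa using hns
    obtain ⟨Q, hQ0, hQ⟩ := exists_sep (fun _ : Fin 1 => f) χ (fun _ => 1) hbad
    have hev : ∀ χ' : A →ₐ[k] k, χ' (MvPolynomial.eval (fun _ => (1 : A)) Q) =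
        MvPolynomial.eval₂ χ'.toRingHom (fun _ => (1 : k)) Q := fun χ' => by
      have h := MvPolynomial.map_eval χ'.toRingHom (fun _ => (1 : A)) Q
      rw [MvPolynomial.eval_map] at h
      simpa [Function.comp_def] using h
    have hs : MvPolynomial.eval (fun _ => (1 : A)) Q ∈ Kf := fun χ' h2 => by
      rw [hev]
      exact hQ χ' _ (by rw [Bad]; simpa using h2)
    exact hQ0 ((hev χ).symm.trans (RingHom.mem_ker.1 (hχ.symm.le (hle (Submodule.mem_sup_left hs)))))
  obtain ⟨s, hs, u, hu, hsu⟩ := Submodule.mem_sup.1 ((Ideal.eq_top_iff_one _).1 htop)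
  let As := Localization.Away s
  haveI : Algebra.Smooth k As := Algebra.Smooth.comp k A As
  have hAs : RingHom.Locally (RingHom.IsStandardSmoothOfRelativeDimension n) (algebraMap k As) := by
    rw [IsScalarTower.algebraMap_eq k A As]
    exact RingHom.locally_stableUnderCompositionWithLocalizationAwayTarget
      (RingHom.isStandardSmoothOfRelativeDimension_stableUnderCompositionWithLocalizationAway (n := n)).2 _ s _ hA
  let f' := algebraMap A As f
  let g' := algebraMap A As g
  have hres : ∀ ψ : As →ₐ[k] k, (ψ.comp (IsScalarTower.toAlgHom k A As)) s ≠ 0 := fun ψ =>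
    ((IsLocalization.Away.algebraMap_isUnit (S := As) s).map ψ).ne_zero
  have h1 : ∀ ψ : As →ₐ[k] k, f' ∉ RingHom.ker ψ ^ 2 := fun ψ h2 =>
    hres ψ (hs _ ((mem_sq_localization s (ψ.comp (IsScalarTower.toAlgHom k A As)) ψ (fun _ => rfl) f).2 h2))
  let Q1 := As ⧸ Ideal.span {f'}
  have hQ1 : RingHom.Locally (RingHom.IsStandardSmoothOfRelativeDimension (n - 1)) (algebraMap k Q1) :=
    (smooth_iff (by omega) hAs f').1 h1
  haveI : Algebra.Smooth k Q1 := RingHom.smooth_algebraMap.1
    (RingHom.smooth_iff_locally_isStandardSmooth.2 (RingHom.locally_of_locally (fun h => h.isStandardSmooth) hQ1))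
  have h2 : ∀ ψ : Q1 →ₐ[k] k, Ideal.Quotient.mk _ g' ∉ RingHom.ker ψ ^ 2 := by
    intro ψ hψ
    let ψs : As →ₐ[k] k := ψ.comp (Ideal.Quotient.mkₐ k _)
    let χ := ψs.comp (IsScalarTower.toAlgHom k A As)
    have hf0 : χ f = 0 := by
      show ψ (Ideal.Quotient.mk _ f') = 0
      rw [Ideal.Quotient.eq_zero_iff_mem.2 (Ideal.mem_span_singleton_self _), map_zero]
    have hker : RingHom.ker ψ = (RingHom.ker ψs).map (Ideal.Quotient.mk (Ideal.span {f'})) := by
      ext q
      obtain ⟨b, rfl⟩ := Ideal.Quotient.mk_surjective q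
      rw [Ideal.mem_map_iff_of_surjective _ Ideal.Quotient.mk_surjective]
      exact ⟨fun hb => ⟨b, hb, rfl⟩, fun ⟨c, hc, e⟩ => e ▸ hc⟩
    rw [hker, ← Ideal.map_pow, Ideal.mem_map_iff_of_surjective _ Ideal.Quotient.mk_surjective] at hψ
    obtain ⟨w, hw, hwg⟩ := hψ
    obtain ⟨c, hc⟩ := Ideal.mem_span_singleton'.1 (Ideal.Quotient.eq.1 hwg.symm)
    refine h χ ⟨hf0, ?_, -(ψs c), 1, Or.inr one_ne_zero, ?_⟩
    · show ψs g' = 0
      have := congrArg ψs hc
      rw [map_mul, map_sub, show ψs f' = 0 from hf0, mul_zero, RingHom.mem_ker.1 (Ideal.pow_le_self two_ne_zero hw), sub_zero] at this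
      exact this.symm
    · refine (mem_sq_localization s χ ψs (fun _ => rfl) _).2 ?_
      have e : algebraMap A As (-(ψs c) • f + (1 : k) • g) = w + (c - algebraMap k As (ψs c)) * f' := by
        rw [map_add, ← IsScalarTower.coe_toAlgHom' k A As, map_smul, map_smul, one_smul, neg_smul, Algebra.smul_def,
          sub_mul, hc]
        show -(algebraMap k As (ψs c) * f') + g' = _
        ring
      rw [e]
      refine add_mem hw ?_
      rw [pow_two]
      refine Ideal.mul_mem_mul ?_ hf0
      rw [RingHom.mem_ker, map_sub, AlgHom.commutes]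
      exact sub_self _
  have hfin := (smooth_iff (show 1 ≤ n - 1 by omega) hQ1 (Ideal.Quotient.mk _ g')).1 h2
  rw [show n - 2 = n - 1 - 1 by omega]
  let K := Ideal.span {f, g}
  let Q2 := Q1 ⧸ Ideal.span {(Ideal.Quotient.mk (Ideal.span {f'}) g' : Q1)}
  have hsK : Ideal.Quotient.mk K s = 1 := by
    rw [← map_one (Ideal.Quotient.mk K), Ideal.Quotient.eq, ← hsu]
    simpa using neg_mem hu
  let a1 : As →ₐ[k] A ⧸ K := IsLocalization.liftAlgHom (M := Submonoid.powers s) (f := Ideal.Quotient.mkₐ k K)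
    (fun y => by
      obtain ⟨e, he⟩ := y.2
      show IsUnit (Ideal.Quotient.mk K y)
      rw [show (y : A) = s ^ e from he.symm, map_pow, hsK, one_pow]
      exact isUnit_one)
  have ha1 : ∀ a, a1 (algebraMap A As a) = Ideal.Quotient.mk K a := fun a => IsLocalization.lift_eq _ _
  let a2 : Q1 →ₐ[k] A ⧸ K := Ideal.Quotient.liftₐ _ a1 (fun x hx => by
    obtain ⟨c, rfl⟩ := Ideal.mem_span_singleton'.1 hx
    rw [map_mul, ha1, Ideal.Quotient.eq_zero_iff_mem.2 (show f ∈ K from Ideal.subset_span (Set.mem_insert _ _)), mul_zero])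
  let a3 : Q2 →ₐ[k] A ⧸ K := Ideal.Quotient.liftₐ _ a2 (fun x hx => by
    obtain ⟨c, rfl⟩ := Ideal.mem_span_singleton'.1 hx
    rw [map_mul, show a2 (Ideal.Quotient.mk _ g') = a1 g' from rfl, ha1,
      Ideal.Quotient.eq_zero_iff_mem.2 (show g ∈ K from Ideal.subset_span (Set.mem_insert_of_mem _ rfl)), mul_zero])
  let b0 : A →ₐ[k] Q2 := (Ideal.Quotient.mkₐ k _).comp ((Ideal.Quotient.mkₐ k (Ideal.span {f'})).comp (IsScalarTower.toAlgHom k A As))
  have hK : K ≤ RingHom.ker b0 := Ideal.span_le.2 (by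
    rintro _ (rfl | rfl)
    · show Ideal.Quotient.mk _ (Ideal.Quotient.mk (Ideal.span {f'}) f') = 0
      rw [Ideal.Quotient.eq_zero_iff_mem.2 (Ideal.mem_span_singleton_self f'), map_zero]
    · show Ideal.Quotient.mk _ (Ideal.Quotient.mk (Ideal.span {f'}) g') = 0
      exact Ideal.Quotient.eq_zero_iff_mem.2 (Ideal.mem_span_singleton_self _))
  let b1 : A ⧸ K →ₐ[k] Q2 := Ideal.Quotient.liftₐ _ b0 fun a ha => RingHom.mem_ker.1 (hK ha)
  have hba : b1.comp a3 = AlgHom.id k Q2 := by
    refine Ideal.Quotient.algHom_ext k (Ideal.Quotient.algHom_ext k (IsLocalization.algHom_ext (Submonoid.powers s) ?_))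
    refine AlgHom.ext fun a => ?_
    show b1 (a1 (algebraMap A As a)) = _
    rw [ha1]
    rfl
  let E : Q2 ≃ₐ[k] A ⧸ K := AlgEquiv.ofBijective a3 ⟨fun x y hxy => by
    rw [← AlgHom.id_apply (R := k) x, ← AlgHom.id_apply (R := k) y, ← hba, AlgHom.comp_apply, AlgHom.comp_apply, hxy],
    fun y => by
      obtain ⟨a, rfl⟩ := Ideal.Quotient.mk_surjective y
      exact ⟨b0 a, ha1 a⟩⟩
  have hE := (RingHom.locally_respectsIso RingHom.isStandardSmoothOfRelativeDimension_respectsIso).left _ E.toRingEquiv hfin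
  rwa [show E.toRingEquiv.toRingHom.comp (algebraMap k Q2) = algebraMap k (A ⧸ K) from RingHom.ext E.commutes] at hE

end Algebra

end Groth.Agent.LefPen13
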